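import Cfsg.Agent.H7.PermAlg3
import Cfsg.Agent.H3.ItoB

/-! The permutation representation of Lemma A as a faithful multiply transitive action. -/

set_option autoImplicit false

namespace Cfsg.Agent.H7.PA

open Cfsg Cfsg.Agent.H3 MulAction
open scoped ComplexConjugate

variable {G : Type*} [Group G] [Fintype G]

theorem trans_of_fix {Ω : Type*} [Fintype Ω] [DecidableEq Ω] [MulAction G Ω] {χ : G → ℂ}
    (hχ : IsIrrCharacter G χ) (h1 : χ ≠ 1) (hr : ∀ g, χ g⁻¹ = χ g)
    (hf : ∀ g, (Nat.card (fixedBy Ω g) : ℂ) = 1 + χ g) :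
    IsMultiplyPretransitive G Ω 1 ∧ IsMultiplyPretransitive G Ω 2 ∧
      (classInner (χ * χ) χ = 1 → IsMultiplyPretransitive G Ω 3) := by
  have hc : ∀ g, conj (χ g) = χ g := fun g => by rw [← char_inv (irr_isCharacter hχ), hr]
  have s1 : ∑ g, χ g = 0 := by
    have := card_mul_classInner χ 1
    rw [classInner_irr_ne hχ isIrrCharacter_one' h1] at this
    simpa using this.symm
  have s2 : ∑ g, χ g * χ g = Nat.card G := by
    have := card_mul_classInner χ χ
    rw [classInner_irr_self hχ] at this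
    simpa [hc] using this.symm
  simp only [Ito.fx_eq] at hf
  refine ⟨Ito.trans_of_sum_desc ?_, Ito.trans_of_sum_desc ?_, fun h3 => Ito.trans_of_sum_desc ?_⟩
  · apply Nat.cast_injective (R := ℂ)
    simp [hf, Finset.sum_add_distrib, s1]
  · apply Nat.cast_injective (R := ℂ)
    rw [Nat.cast_sum, ← s2, ← zero_add (∑ g, χ g * χ g), ← s1, ← Finset.sum_add_distrib]
    refine Finset.sum_congr rfl fun g _ => ?_
    simp only [Ito.cast_desc, hf, Finset.prod_range_succ, Finset.prod_range_zero]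
    push_cast; ring
  · have s3 : ∑ g, χ g * χ g * χ g = Nat.card G := by
      have := card_mul_classInner (χ * χ) χ
      rw [h3] at this
      simpa [hc] using this.symm
    apply Nat.cast_injective (R := ℂ)
    rw [Nat.cast_sum, ← s3, ← sub_zero (∑ g, χ g * χ g * χ g), ← s1, ← Finset.sum_sub_distrib]
    refine Finset.sum_congr rfl fun g _ => ?_
    simp only [Ito.cast_desc, hf, Finset.prod_range_succ, Finset.prod_range_zero]
    push_cast; ring

/-- **Lemma A** for simple groups. -/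
theorem exists_action [IsSimpleGroup G] {χ : G → ℂ} (hχ : IsIrrCharacter G χ) {n : ℕ}
    (hn : χ 1 = n) (h3 : 3 < n) (hr : ∀ g, χ g⁻¹ = χ g) (hΛ : IsIrrCharacter G (sq2 (-1) χ))
    (hc : classInner (χ * χ) χ ≠ 0) :
    ∃ _ : MulAction G (Fin (n + 1)), FaithfulSMul G (Fin (n + 1)) ∧
      IsPretransitive G (Fin (n + 1)) ∧ IsMultiplyPretransitive G (Fin (n + 1)) 2 ∧
      (classInner (χ * χ) χ = 1 → IsMultiplyPretransitive G (Fin (n + 1)) 3) ∧
      ∀ g, (Nat.card (fixedBy (Fin (n + 1)) g) : ℂ) = 1 + χ g := by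
  obtain ⟨φ, hφ⟩ := exists_perm hχ hn h3 hr hΛ hc
  let _ : MulAction G (Fin (n + 1)) := MulAction.compHom _ φ
  have hf : ∀ g, (Nat.card (fixedBy (Fin (n + 1)) g) : ℂ) = 1 + χ g := hφ
  have h1 : χ ≠ 1 := fun e => by
    rw [e, Pi.one_apply] at hn
    have : n = 1 := by exact_mod_cast hn.symm
    omega
  obtain ⟨t1, t2, t3⟩ := trans_of_fix hχ h1 hr hf
  have t1' := is_one_pretransitive_iff.1 t1
  refine ⟨_, ⟨fun {a b} h => ?_⟩, t1', t2, t3, hf⟩
  rcases IsSimpleGroup.eq_bot_or_eq_top_of_normal φ.ker inferInstance with e | e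
  · exact (MonoidHom.ker_eq_bot_iff φ).1 e (Equiv.ext h)
  · obtain ⟨g, hg⟩ := t1'.exists_smul_eq (0 : Fin (n + 1)) (Fin.last n)
    have : φ g = 1 := (e ▸ Subgroup.mem_top g : g ∈ φ.ker)
    change φ g 0 = _ at hg
    rw [this] at hg
    have := congrArg Fin.val hg
    simp at this
    omega

end Cfsg.Agent.H7.PA
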