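import Cfsg.Agent.H7.C12T2
import Cfsg.Agent.H7.BG.S1

/-!
# Noncyclic odd groups acting on `2`-groups, and normal `2`-complements
-/

set_option autoImplicit false
set_option linter.dupNamespace false

namespace Cfsg.Agent.L0.C12

open Subgroup Cfsg.Agent.L0.SC3 Cfsg.Agent.H1.T3 Cfsg.Agent.H7
open MulAut (conj)
open scoped commutatorElement Pointwise

variable {G : Type*} [Group G] [Finite G]

theorem card_modEq_cent1 {p : ℕ} [Fact p.Prime] {b : G} (hb : b ^ p = 1) {Q : Subgroup G}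
    (hQ : b ∈ N[Q]) : Nat.card Q ≡ Nat.card ↥(Q ⊓ C₁[b]) [MOD p] := by
  let _ : MulDistribMulAction (zpowers b) Q := MulDistribMulAction.compHom Q
    (Q.normalizerMonoidHom.comp (inclusion (zpowers_le.2 hQ)))
  convert (Abelem.zpowers hb).isPGroup.card_modEq_card_fixedPoints Q using 1
  refine Eq.symm <| Nat.card_congr ⟨fun a => ⟨a.1.1, a.1.2, mem_centralizer_singleton_iff.2
    (mul_inv_eq_iff_eq_mul.1 (congrArg Subtype.val (a.2 ⟨b, mem_zpowers b⟩))).symm⟩,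
    fun a => ⟨⟨a.1, a.2.1⟩, fun ⟨_, k, rfl⟩ => Subtype.ext (mul_inv_eq_iff_eq_mul.2
      (Commute.zpow_left (mem_centralizer_singleton_iff.1 a.2.2).symm k).eq)⟩,
    fun _ => rfl, fun _ => rfl⟩

/-- The index of the centralizer of an element of odd prime order in a `2`-group. -/
theorem exists_index_cent1 {p : ℕ} (hp : p.Prime) (h2 : p ≠ 2) {b : G} (hb : b ^ p = 1)
    {U : Subgroup G} (hU : IsPGroup 2 U) (hn : b ∈ N[U]) :
    ∃ j, Nat.card U = Nat.card ↥(U ⊓ C₁[b]) * 2 ^ j ∧ 2 ^ j % p = 1 := by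
  have := Fact.mk hp
  have := factTwo
  have h1 := card_modEq_cent1 hb hn
  have h3 := H9.card_mul_relIndex_of_le (inf_le_left : U ⊓ C₁[b] ≤ U)
  obtain ⟨j, hj⟩ := IsPGroup.relIndex_eq hU (U ⊓ C₁[b])
  obtain ⟨i, hi⟩ := IsPGroup.iff_card.1 (hU.to_le (inf_le_left : U ⊓ C₁[b] ≤ U))
  rw [hj] at h3
  refine ⟨j, h3.symm, ?_⟩
  rw [← h3, hi] at h1
  rw [← Nat.mod_eq_of_lt hp.one_lt]
  exact Nat.ModEq.cancel_left_of_coprime (c := 2 ^ i)
    (((Nat.coprime_primes hp Nat.prime_two).2 h2).pow_right i) (by rwa [mul_one])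

omit [Finite G] in
theorem semireg3 {x : G} (x3 : x ^ 3 = 1) {F : Subgroup G} (fp : F ⊓ C₁[x] = ⊥) :
    Semiregular F (zpowers x) := fun y hy y1 => by
  rcases (mem_zpowers_three x3).1 hy with rfl | rfl | rfl
  · exact absurd rfl y1
  · exact fp
  · rwa [← cent_zpowers, zpowers_inv, cent_zpowers]

/-- Wielandt's formula for a complement of order three and a `2`-group. -/
theorem wielandt3 {x : G} (x3 : x ^ 3 = 1) (x1 : x ≠ 1) {U F : Subgroup G} (hU : IsPGroup 2 U)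
    (F1 : F ≠ ⊥) (ho : Odd (Nat.card F)) (hFU : F ≤ N[U]) (xU : x ∈ N[U]) (xF : x ∈ N[F])
    (fp : F ⊓ C₁[x] = ⊥) : Nat.card ↥(U ⊓ C[F ⊔ zpowers x]) ^ 3 * Nat.card U =
      Nat.card ↥(U ⊓ C₁[x]) ^ 3 * Nat.card ↥(U ⊓ C[F]) := by
  have := factTwo
  have := (Frobenius_Wielandt_fixpoint (FrobIn.mk' (zpowers_le.2 xF) F1 (zpowers_eq_bot.not.2 x1)
    (semireg3 x3 fp)) (sup_le hFU (zpowers_le.2 xU)) (by
      obtain ⟨k, hk⟩ := IsPGroup.iff_card.1 hU
      rw [hk]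
      refine (Nat.coprime_two_left.2 (Odd.of_dvd_nat ?_ (card_sup_dvd (zpowers_le.2 xF)))).pow_left k
      rw [Nat.card_zpowers, orderOf_three x3 x1]
      exact ho.mul (by decide)) (sol_of_pgroup hU)).1
  rwa [Nat.card_zpowers, orderOf_three x3 x1, cent_zpowers] at this

theorem NC' {x : G} (x3 : x ^ 3 = 1) (x1 : x ≠ 1) {U F : Subgroup G} (hU : IsPGroup 2 U)
    (hab : IsMulCommutative F) (hnc : ¬ IsCyclic F) (ho : Odd (Nat.card F))
    (h5 : ¬ 5 ∣ Nat.card F) (hFU : F ≤ N[U]) (xU : x ∈ N[U]) (xF : x ∈ N[F])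
    (fp : F ⊓ C₁[x] = ⊥) (hf : F ⊓ C[U] = ⊥) :
    2 * Nat.card ↥(U ⊓ C[F ⊔ zpowers x]) < Nat.card ↥(U ⊓ C₁[x]) := by
  have := factTwo
  by_contra hle
  have F1 := ne_bot_of_not_cyclic hnc
  have h1 := wielandt3 x3 x1 hU F1 ho hFU xU xF fp
  have h8 : Nat.card U ≤ 8 * Nat.card ↥(U ⊓ C[F]) := by
    have h2 := Nat.pow_le_pow_left (not_lt.1 hle) 3
    refine Nat.le_of_mul_le_mul_left ?_ (pow_pos (card_pos' (U ⊓ C[F ⊔ zpowers x])) 3)
    rw [h1]; nlinarith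
  have h3 : ¬ 3 ∣ Nat.card F := fun e => by
    have := (semireg3 x3 fp).coprime (zpowers_le.2 xF)
    rw [Nat.card_zpowers, orderOf_three x3 x1] at this
    exact absurd (Nat.eq_one_of_dvd_coprimes this e dvd_rfl) (by norm_num)
  refine F1 (eq_bot_iff.2 (hf ▸ le_inf le_rfl (le_cent_symm (le_trans (coprime_abelian_gen_cent1
    (X := U ⊓ C[F]) hab hnc hFU ?_ (sol_of_pgroup hU) fun a ha a1 => ?_) inf_le_right))))
  · obtain ⟨k, hk⟩ := IsPGroup.iff_card.1 hU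
    rw [hk]; exact (Nat.coprime_two_left.2 ho).pow_left k
  obtain ⟨q, hq, hd⟩ := exists_prime_dvd_card (zpowers_eq_bot.not.2 a1)
  obtain ⟨b, hb, ob⟩ := exists_orderOf_eq_prime hq hd
  have bF := zpowers_le.2 ha hb
  have qF : q ∣ Nat.card F := ob ▸ orderOf_dvd_card_of_mem bF
  have q2 : q ≠ 2 := by rintro rfl; exact absurd (ho.of_dvd_nat qF) (by decide)
  obtain ⟨j, e1, e2⟩ := exists_index_cent1 hq q2 (ob ▸ pow_orderOf_eq_one b) hU (hFU bF)
  have l1 : U ⊓ C[F] ≤ U ⊓ C₁[b] := inf_le_inf_left _ (cent_le_cent1 bF)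
  have j3 : 3 ≤ j := by
    have q3 : q ≠ 3 := by rintro rfl; exact h3 qF
    have q1 := hq.one_lt
    by_contra hj
    obtain rfl | rfl | rfl : j = 0 ∨ j = 1 ∨ j = 2 := by omega
    · have e := eq_of_le_of_card_eq (inf_le_left : U ⊓ C₁[b] ≤ U) (by omega)
      refine hq.one_lt.ne' (ob ▸ orderOf_eq_one_iff.2 (eq_one_of_mem_inf hf bF ?_))
      exact mem_cent_iff.2 fun u hu => mem_cent1_iff.1 (e.ge hu).2
    · rw [Nat.mod_eq_of_lt (by omega)] at e2; omega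
    · by_cases q4 : q = 4
      · exact absurd (q4 ▸ hq) (by norm_num)
      · rw [Nat.mod_eq_of_lt (by omega)] at e2; omega
  have j8 : 8 ≤ 2 ^ j := Nat.pow_le_pow_right (n := 2) two_pos j3
  rw [eq_of_le_of_card_ge l1 (by nlinarith)]
  refine inf_le_inf_left _ ?_
  rw [← cent_zpowers]
  exact cent_le_cent1 hb

/-- A noncyclic abelian odd group acting faithfully on a `2`-group. -/
theorem NC {x : G} (h : T3 x) {U F : Subgroup G} (hU : IsPGroup 2 U)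
    (hab : ∀ a ∈ F, ∀ b ∈ F, Commute a b) (hnc : ¬ IsCyclic F) (ho : Odd (Nat.card F))
    (h3 : ∀ b ∈ F, b ^ 3 = 1 → b = 1) (hFU : ∀ f ∈ F, ∀ u ∈ U, f * u * f⁻¹ ∈ U)
    (xU : ∀ u ∈ U, x * u * x⁻¹ ∈ U) (xF : ∀ f ∈ F, x * f * x⁻¹ ∈ F)
    (hf : ∀ f ∈ F, (∀ u ∈ U, Commute f u) → f = 1) :
    4 * Nat.card ↥(U ⊓ centralizer (F : Set G) ⊓ centralizer {x}) ≤
      Nat.card ↥(U ⊓ centralizer {x}) := by
  have := factTwo
  have k := NC' h.cube h.ne hU (abel_of_comm hab) hnc ho (h.not_five' F)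
    (fun f hf => mem_norm_of_conj (hFU f hf)) (mem_norm_of_conj xU) (mem_norm_of_conj xF)
    (inf_eq_bot_of_forall fun f hf hc => eq_one_of_odd' (ho.of_dvd_nat (orderOf_dvd_card_of_mem hf))
      (h.sq_of_commute h3 hf (mem_cent1_iff.1 hc).symm))
    (inf_eq_bot_of_forall fun f h1 h2 => hf f h1 fun u hu => (comm_of_mem_cent h2 hu).symm)
  rw [cent_sup, cent_zpowers, ← inf_assoc] at k
  obtain ⟨i, hi⟩ := IsPGroup.iff_card.1 (hU.to_le (inf_le_left : U ⊓ C₁[x] ≤ U))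
  obtain ⟨j, hj⟩ := IsPGroup.iff_card.1
    (hU.to_le (inf_le_left.trans inf_le_left : U ⊓ C[F] ⊓ C₁[x] ≤ U))
  rw [hi, hj] at k ⊢
  rw [← pow_succ', Nat.pow_lt_pow_iff_right one_lt_two] at k
  rw [show 4 * 2 ^ j = 2 ^ (j + 2) by ring]
  exact Nat.pow_le_pow_right two_pos k

theorem two_of_core {x s : G} (x3 : x ^ 3 = 1) (x1 : x ≠ 1) (sx : s * x * s⁻¹ = x⁻¹)
    {K : Subgroup G} (hs : Group.IsSolvable K) (h3 : ¬ 3 ∣ Nat.card K) (h5 : ¬ 5 ∣ Nat.card K)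
    (xK : x ∈ N[K]) (sK : s ∈ N[K]) (h2 : IsPGroup 2 ↥(K ⊓ C₁[x]))
    (hc : Nat.card ↥(K ⊓ C₁[x]) ≤ 2 * Nat.card ↥(Z[K] ⊓ C₁[x])) (hO : O[{2}ᶜ] K = ⊥) :
    IsPGroup 2 K := by
  refine IsPGroup.of_card (Nat.eq_prime_pow_of_unique_prime_dvd Nat.card_pos.ne'
    fun {r} hr hd => by_contra fun r2 => ?_)
  have := Fact.mk hr
  have := factTwo
  have := Fact.mk Nat.prime_three
  obtain ⟨P, hP⟩ := H3.exists_sylow_normalized (zpowers_three x3) (zpowers_le.2 xK) h3 r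
  have hR := H9.isSylowIn_map_subtype P
  generalize (P : Subgroup K).map K.subtype = R at hP hR
  have F1 := center_ne_bot_of_nil (nil_of_pgroup hR.isPGroup) (hR.ne_bot hd)
  have hZK : Z[R] ≤ K := inf_le_left.trans hR.le
  have ho := odd_of_le (IsPGroup.odd_card hR.isPGroup (hr.odd_of_ne_two r2))
    (inf_le_left : Z[R] ≤ R)
  have fp : ∀ w ∈ K, Odd (orderOf w) → w ∈ C₁[x] → w = 1 := fun w h1 h3 h4 => by
    obtain ⟨k, hk⟩ := h2 ⟨w, h1, h4⟩
    exact orderOf_eq_one_iff.1 (Nat.eq_one_of_dvd_coprimes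
      ((Nat.coprime_two_right.2 h3).pow_right k) dvd_rfl
      (orderOf_dvd_of_pow_eq_one (congrArg Subtype.val hk)))
  have xF := le_norm_center hP (mem_zpowers x)
  by_cases hcy : IsCyclic ↥Z[R]
  · obtain ⟨l, hl, e⟩ := hR.frattini sK
    have y1 := der1_cent_cyclic hcy le_rfl (comm_mem (le_norm_center le_rfl e) xF)
    have lK := le_norm_self K hl
    have hk : ∀ g : N[K], QuotientGroup.mk' (K.subgroupOf N[K]) g = 1 ↔ (g : G) ∈ K := fun g =>
      QuotientGroup.eq_one_iff g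
    have ey : QuotientGroup.mk' (K.subgroupOf N[K]) (⟨l, lK⟩ * ⟨s, sK⟩ * ⟨x, xK⟩ *
        (⟨l, lK⟩ * ⟨s, sK⟩)⁻¹ * ⟨x, xK⟩⁻¹) = QuotientGroup.mk' _ ⟨x, xK⟩ := by
      rw [← mul_inv_eq_one, ← map_inv, ← map_mul, hk]
      change l * s * x * (l * s)⁻¹ * x⁻¹ * x⁻¹ ∈ K
      rw [show l * s * x * (l * s)⁻¹ * x⁻¹ * x⁻¹ = l * (s * x * s⁻¹) * l⁻¹ * (x⁻¹ * x⁻¹) by group,
        sx, inv_mul_inv_of_cube x3, mul_assoc, mul_assoc, ← mul_assoc x⁻¹]
      exact mul_mem hl (conj_mem_of_norm' xK (inv_mem hl))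
    obtain ⟨y, hy, y3, py⟩ := lift3 _ (fun g h1 h2 => Subtype.ext
      (not_dvd_card_iff.1 h3 _ ((hk g).1 h1) (congrArg Subtype.val h2))) (by
        rw [ey, ← map_pow, show (⟨x, xK⟩ : N[K]) ^ 3 = 1 from Subtype.ext x3, map_one])
    rw [ey, ← mul_inv_eq_one, ← map_inv, ← map_mul, hk] at py
    obtain ⟨f, hf, ef⟩ := conj_of_coset (not_dvd_card_iff.1 h3) (fun _ => conj_mem_of_norm xK) x3
      (congrArg Subtype.val y3) py
    have yC : (y : G) ∈ C[Z[R]] := by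
      obtain ⟨k, rfl⟩ := hy
      exact zpow_mem y1 k
    obtain ⟨w, hw, w1⟩ := exists_ne_one_of_ne_bot F1
    have := fp (f⁻¹ * w * f⁻¹⁻¹) (conj_mem_of_norm (le_norm_self K (inv_mem hf)) (hZK hw))
      (by rw [H3.orderOf_conj']; exact ho.of_dvd_nat (orderOf_dvd_card_of_mem hw)) (by
        rw [inv_inv]
        exact mem_cent1_iff.2 (T3.commute_conj (ef ▸ (comm_of_mem_cent yC hw).symm :)).symm)
    exact w1 (conj_eq_one_iff.1 this)
  · have hU := core_normalIn {2} K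
    have k := NC' x3 x1 (isPGroup_core (p := 2) K) (abel_center R) hcy ho
      (fun e => h5 (e.trans (card_dvd_of_le hZK))) (hZK.trans hU.2) (norm_le_norm_core _ _ xK) xF
      (inf_eq_bot_of_forall fun w h1 => fp w (hZK h1) (ho.of_dvd_nat (orderOf_dvd_card_of_mem h1)))
      (inf_eq_bot_of_forall fun w h1 h4 => by
        have := cent_sub_Fitting hs
        rw [fitting_eq_pcore hO] at this
        obtain ⟨k, hk⟩ := isPGroup_core (p := 2) K ⟨w, this ⟨hZK h1, h4⟩⟩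
        exact orderOf_eq_one_iff.1 (Nat.eq_one_of_dvd_coprimes ((Nat.coprime_two_right.2
          (ho.of_dvd_nat (orderOf_dvd_card_of_mem h1))).pow_right k) dvd_rfl
          (orderOf_dvd_of_pow_eq_one (congrArg Subtype.val hk))))
    have l1 := card_le_of_le' (inf_le_inf_right C₁[x] hU.1)
    have l2 := card_le_of_le' (show Z[K] ⊓ C₁[x] ≤ O[{2}] K ⊓ C[Z[R] ⊔ zpowers x] from le_inf
      (le_core_of_norm (inf_le_left.trans inf_le_left) (le_norm_of_le_cent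
        (le_cent_symm (inf_le_left.trans inf_le_right)))
        (IsPGroup.isPi_self (h2.to_le (inf_le_inf_right _ inf_le_left))))
      (by rw [cent_sup, cent_zpowers]
          exact inf_le_inf_right _ (inf_le_right.trans (cent_anti hZK))))
    omega

/-- The normal `2`-complement. -/
theorem two_compl {x s : G} (x3 : x ^ 3 = 1) (x1 : x ≠ 1) (sx : s * x * s⁻¹ = x⁻¹)
    {K : Subgroup G} (hs : Group.IsSolvable K) (h3 : ¬ 3 ∣ Nat.card K) (h5 : ¬ 5 ∣ Nat.card K)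
    (xK : x ∈ N[K]) (sK : s ∈ N[K]) (h2 : IsPGroup 2 ↥(K ⊓ C₁[x]))
    (hc : Nat.card ↥(K ⊓ C₁[x]) ≤ 2 * Nat.card ↥(Z[K] ⊓ C₁[x])) :
    ∃ j, Nat.card K = Nat.card (O[{2}ᶜ] K) * 2 ^ j := by
  have := factTwo
  have hO := core_normalIn {2}ᶜ K
  have xO := norm_le_norm_core {2}ᶜ K xK
  have sO := norm_le_norm_core {2}ᶜ K sK
  have e := quo_cent1_of_coprime xK xO (by
    rw [orderOf_three x3 x1]; exact ((Nat.Prime.coprime_iff_not_dvd Nat.prime_three).2 h3).symm) hs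
  have i0 := (isPi_core {2}ᶜ K).inf_pgroup h2
  obtain ⟨j, hj⟩ := IsPGroup.iff_card.1 (two_of_core (x := quo (O[{2}ᶜ] K) x)
    (s := quo (O[{2}ᶜ] K) s) (K := (quo (O[{2}ᶜ] K)).im K)
    (by rw [← PHom.map_pow xO, x3, PHom.map_one])
    (fun e => x1 (not_dvd_card_iff.1 h3 x (hO.1 ((quo_eq_one_iff xO).1 e)) x3))
    (by rw [← PHom.map_conj sO xO, sx, PHom.map_inv xO]) (PHom.isSolvable_im _ hs)
    (fun e => h3 (e.trans (PHom.card_im_dvd _ _))) (fun e => h5 (e.trans (PHom.card_im_dvd _ _)))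
    (PHom.apply_mem_norm xK) (PHom.apply_mem_norm sK) (e ▸ PHom.isPGroup_im _ h2) (by
      rw [← e]
      refine (PHom.card_im_le _ _).trans (hc.trans (Nat.mul_le_mul_left 2 ?_))
      rw [← card_quo_of_inf ((inf_le_left.trans inf_le_left).trans hO.2)
        (inf_eq_bot_mono i0 le_rfl (inf_le_inf_right _ inf_le_left))]
      exact card_le_of_le' (le_inf ((PHom.im_mono _ inf_le_left).trans (PHom.im_center_le _ _))
        (PHom.im_le_cent1 xO inf_le_right))) (core_quo_core _ _))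
  exact ⟨j, by rw [← hj, card_quo_mul hO]⟩

end Cfsg.Agent.L0.C12
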