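import Cfsg.Agent.H9.Def

/-! Interface for the degree analysis of a simple group of order `244823040`. -/

set_option autoImplicit false

namespace Cfsg.Agent.H7.B24

open Cfsg Cfsg.Agent.H3 Cfsg.Agent.H2.D1 Finset
open Cfsg.Agent.H9.Tri (cj)

/-- `χ x + χ x⁻¹` for `x` of order `23`, as a function of the degree. -/
def Af (d : ℕ) : ℤ :=
  if d % 23 = 1 then 2 else if d % 23 = 22 then -2 else if d % 23 = 11 then -1 else
    if d % 23 = 12 then 1 else 0

/-- `χ w` for `w` of order `11`, as a function of the degree. -/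
def Cf (d : ℕ) : ℤ := if d % 11 = 1 then 1 else if d % 11 = 10 then -1 else 0

/-- Degrees not divisible by `253`. -/
def DN : List ℕ := [11, 12, 22, 23, 45, 230, 231, 252, 264, 276, 483, 495, 528, 540, 736, 770, 990,
  1024, 1035, 1242, 1288, 1540, 1760, 2760, 2772, 3024, 3312, 3520, 3840, 4830, 5544, 5796, 6336,
  7360, 8832, 9856, 10395, 11880, 12420, 12672, 12880, 15456]

/-- Degrees divisible by `253`. -/
def DZ : List ℕ := [253, 506, 759, 1012, 1265, 1518, 1771, 2024, 2277, 2530, 3036, 3542, 3795, 4048,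
  4554, 5060, 5313, 6072, 6831, 7084, 7590, 8096, 8855, 9108, 10120, 10626, 11385, 12144, 13662,
  14168, 15180]

/-- Number of irreducible characters of degree `d`. -/
noncomputable def cnt (G : Type*) [Group G] [Fintype G] (d : ℕ) : ℕ :=
  #(univ.filter fun χ : IrrCharacter G => dg χ = d)

/-- The data at the primes `23` and `11`. -/
structure Data (G : Type*) [Group G] [Fintype G] (x w : G) : Prop where
  card : Nat.card G = 244823040
  ox : orderOf x = 23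
  ow : orderOf w = 11
  o23 : ∀ g : G, ¬ IsPReg 23 g → orderOf g = 23
  o11 : ∀ g : G, ¬ IsPReg 11 g → orderOf g = 11
  deg : ∀ χ : IrrCharacter G, χ ≠ triv → dg χ ∈ DN ∨ dg χ ∈ DZ
  vA : ∀ χ : IrrCharacter G, (χ : G → ℂ) x + (χ : G → ℂ) x⁻¹ = Af (dg χ)
  vC : ∀ χ : IrrCharacter G, (χ : G → ℂ) w = Cf (dg χ)
  sA : ∑ χ : IrrCharacter G, (Af (dg χ)).natAbs = 24
  sC : ∑ χ : IrrCharacter G, (Cf (dg χ)).natAbs = 11
  sAd : ∑ χ : IrrCharacter G, Af (dg χ) * dg χ = 0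
  sCd : ∑ χ : IrrCharacter G, Cf (dg χ) * dg χ = 0
  sAC : ∑ χ : IrrCharacter G, Af (dg χ) * Cf (dg χ) = 0
  ex : ∃ θ : IrrCharacter G, θ ≠ cj θ ∧
    ∀ χ : IrrCharacter G, (Af (dg χ)).natAbs = 1 ↔ χ = θ ∨ χ = cj θ

/-- The principal `5`-block. -/
structure B5 {G : Type*} [Group G] (β1 β2 β3 β4 : IrrCharacter G) : Prop where
  d2 : dg β2 = 5796
  d4 : dg β4 = 5544
  d13 : (dg β1, dg β3) ∈ [(1771, 2024), (506, 759), (6831, 7084)]
  reg : ∀ g, IsPReg 5 g → 1 + (β1 : G → ℂ) g + (β2 : G → ℂ) g = (β3 : G → ℂ) g + (β4 : G → ℂ) g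
  sing : ∀ g, ¬ IsPReg 5 g → (β1 : G → ℂ) g = 1 ∧ (β2 : G → ℂ) g = 1 ∧ (β3 : G → ℂ) g = -1 ∧
    (β4 : G → ℂ) g = -1
  real : ∃ f : G, orderOf f = 5 ∧ IsConj f f⁻¹

end Cfsg.Agent.H7.B24
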