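import Cfsg.Agent.H7.C12NC

/-!
# Type II subgroups: the elements of order seven and thirteen
-/

set_option autoImplicit false
set_option linter.dupNamespace false

namespace Cfsg.Agent.L0.C12

open Subgroup Cfsg.Agent.L0.SC3 Cfsg.Agent.H1.T3 Cfsg.Agent.H7
open MulAut (conj)
open scoped commutatorElement Pointwise

universe u

section
variable {G : Type*} [Group G] [Finite G] {x : G} {L K M : Subgroup G}

omit [Finite G] in
theorem Quo.card {S : Type} [Group S] (q : Quo S K M) (hKM : K ≤ M) :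
    Nat.card M = Nat.card K * Nat.card S := by
  obtain ⟨π, hπ, hk⟩ := q
  rw [← H9.card_mul_relIndex_of_le hKM, relIndex, show K.subgroupOf M = π.ker from
    Subgroup.ext fun g => (hk g).symm, index_ker, MonoidHom.range_eq_top.2 hπ, card_top]

theorem SF.theta {S : Type} [Group S] {p : ℕ} (h : SF S p) (x3 : x ^ 3 = 1) (q : Quo S K M)
    (hKM : K ≤ M) (hK : IsPGroup 2 K) (hx : x ∈ M) :
    ∃ θ ∈ M, orderOf θ = p ∧ x ∈ N[zpowers θ] ∧ θ ∉ K := by
  have := Fact.mk h.prime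
  have := factTwo
  obtain ⟨P, hPM, hP, xP, hPK⟩ := h.exists_theta x3 q hKM (cube_of_two hK) hx
  obtain ⟨a, ha, aK⟩ := SetLike.not_le_iff_exists.1 hPK
  obtain ⟨k, hk⟩ := IsPGroup.iff_card.1 hK
  obtain ⟨j, hj⟩ := IsPGroup.iff_card.1 hP
  have h1 := card_dvd_of_le hPM
  rw [q.card hKM, hk, hj] at h1
  have h7 := h.ge
  have h2 := (((Nat.coprime_primes h.prime Nat.prime_two).2 (by omega)).pow j k).dvd_of_dvd_mul_left
    h1
  have a1 : a ≠ 1 := fun e => aK (e ▸ one_mem _)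
  have e : Nat.card P = p := by
    obtain rfl | rfl | ⟨j, rfl⟩ : j = 0 ∨ j = 1 ∨ ∃ i, j = i + 2 := by
      rcases j with _ | _ | j <;> simp
    · exact absurd (eq_bot_iff_card'.2 hj) (ne_bot_of_mem ha a1)
    · rw [hj, pow_one]
    · have := (Dvd.intro_left _ (pow_add p j 2).symm).trans h2
      rcases h.card with ⟨rfl, e⟩ | ⟨rfl, e⟩ <;> rw [e] at this <;> omega
  have e' := zpowers_eq_of_card_prime (e ▸ h.prime) ha a1
  exact ⟨a, hPM ha, by rw [← Nat.card_zpowers, e', e], e' ▸ xP, aK⟩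

theorem T3.inf_cent (h : T3 x) {θ : G} {p : ℕ} (hp : p.Prime) (h7 : 7 ≤ p) (ho : orderOf θ = p) :
    zpowers θ ⊓ C₁[x] = ⊥ := inf_eq_bot_of_forall fun a ha hc =>
  H3.pow_eq_one_of_coprime (m := p) (n := 6) ((Nat.Prime.coprime_iff_not_dvd hp).2 fun e => by
    have := Nat.le_of_dvd (by norm_num) e; omega)
    (by rw [← ho, ← Nat.card_zpowers]; exact pow_card_eq_one_of_mem ha)
    (h.six a (mem_cent1_iff.1 hc).symm)

/-- The Frobenius group of order 21. -/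
theorem TII.theta (h : T3 x) (c : TII x L K M) (h2 : IsPGroup 2 K) (q : Quo L7 K M) :
    ∃ θ ∈ M, orderOf θ = 7 ∧ (x * θ * x⁻¹ = θ ^ 2 ∨ x * θ * x⁻¹ = θ ^ 4) := by
  obtain ⟨θ, hM, ho, hx, hK⟩ := sf7.theta h.cube q c.le h2 c.mem
  refine ⟨θ, hM, ho, ?_⟩
  have t1 : θ ≠ 1 := fun e => hK (e ▸ one_mem _)
  obtain ⟨i, hi, e⟩ : ∃ i < 7, θ ^ i = x * θ * x⁻¹ := by
    obtain ⟨i, e⟩ := mem_powers_iff_mem_zpowers.2 (conj_mem_of_norm hx (mem_zpowers θ))
    exact ⟨i % 7, Nat.mod_lt _ (by norm_num), by rw [← ho, pow_mod_orderOf]; exact e⟩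
  have e3 : θ ^ (i * i * i) = θ ^ 1 := by
    rw [pow_mul, pow_mul, e, conj_pow, conj_pow, e, conj_pow, e, pow_one]
    calc _ = x ^ 3 * θ * (x ^ 3)⁻¹ := by
          simp only [pow_succ, pow_zero, one_mul, mul_inv_rev, mul_assoc]
      _ = θ := by rw [h.cube]; simp
  rw [pow_eq_pow_iff_modEq, ho] at e3
  have i1 : i ≠ 1 := by
    rintro rfl
    exact t1 (eq_one_of_mem_inf (h.inf_cent (by norm_num) le_rfl ho) (mem_zpowers θ)
      (mem_cent1_iff.2 (mul_inv_eq_iff_eq_mul.1 (e.symm.trans (pow_one θ))).symm))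
  rw [← e]
  interval_cases i <;> simp_all [Nat.ModEq]

theorem wielandt_theta (h : T3 x) {θ : G} {p : ℕ} (hp : p.Prime) (h7 : 7 ≤ p) (ho : orderOf θ = p)
    (hx : x ∈ N[zpowers θ]) (hK : IsPGroup 2 K) (hθ : θ ∈ N[K]) (xK : x ∈ N[K]) :
    Nat.card ↥(K ⊓ C₁[θ] ⊓ C₁[x]) ^ 3 * Nat.card K =
      Nat.card ↥(K ⊓ C₁[x]) ^ 3 * Nat.card ↥(K ⊓ C₁[θ]) := by
  have := wielandt3 h.cube h.ne hK (ne_bot_of_card_prime (by rwa [Nat.card_zpowers, ho]))
    (by rw [Nat.card_zpowers, ho]; exact hp.odd_of_ne_two (by omega)) (zpowers_le.2 hθ) xK hx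
    (h.inf_cent hp h7 ho)
  rwa [cent_sup, cent_zpowers, cent_zpowers, ← inf_assoc] at this

end

variable {G : Type u} [Group G] [Finite G] {x s : G} {V L K M : Subgroup G}

theorem Ctx.L13' (c : Ctx x s V) (h : TII x L K M) (q : Quo L13 K M) :
    K ≤ V ∧ ∃ v ∈ V, v ∈ M ∧ v ∉ K := by
  have h2 := c.Lodd h
  obtain ⟨θ, hM, ho, hx, hK⟩ := sf13.theta c.t3.cube q h.le h2 h.mem
  have n : L ≤ N[K] := fun l hl => mem_norm_of_conj (h.nK l hl)
  have e1 := wielandt_theta c.t3 (by norm_num) (by norm_num) ho hx h2 (n (h.le' hM))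
    (n (h.le' h.mem))
  obtain ⟨j, e2, e3⟩ := exists_index_cent1 (p := 13) (by norm_num) (by norm_num)
    (ho ▸ pow_orderOf_eq_one θ) h2 (n (h.le' hM))
  have e4 : Nat.card ↥(K ⊓ C₁[x]) ≤ 4 := (card_le_of_le' (B := V) fun a (ha : a ∈ K ⊓ C₁[x]) =>
    c.mem_of_commute h.cube ha.1 (mem_cent1_iff.1 ha.2).symm).trans (Nat.le_of_dvd (by norm_num) c.card_V_dvd)
  have e5 : 2 ^ j ≤ 2 ^ 6 := by
    have k1 := card_pos' (K ⊓ C₁[θ])
    have k2 := Nat.one_le_pow 3 _ (card_pos' (K ⊓ C₁[θ] ⊓ C₁[x]))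
    have k3 := Nat.pow_le_pow_left e4 3
    rw [e2] at e1
    refine Nat.le_of_mul_le_mul_left ?_ k1
    nlinarith
  rw [Nat.pow_le_pow_iff_right one_lt_two] at e5
  have e6 : j = 0 := by interval_cases j <;> simp_all
  rw [e6] at e2
  have e7 := eq_of_le_of_card_eq (inf_le_left : K ⊓ C₁[θ] ≤ K) (by omega)
  have xC := h.max' (C := C[K]) (le_norm_cent n) fun e => hK (e ⟨h.le' hM,
    mem_cent_iff.2 fun u hu => mem_cent1_iff.1 (e7.ge hu).2⟩)
  refine ⟨fun a ha => c.mem_of_commute h.cube ha (comm_of_mem_cent xC ha).symm, ?_⟩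
  obtain ⟨π, hπ, hk⟩ := q
  obtain ⟨g, g1, g2, g3⟩ := ex6_L13
  obtain ⟨g, rfl⟩ := hπ g
  rw [← map_pow] at g1 g2 g3
  obtain ⟨y, hy, y3, py⟩ := lift3 π (fun g e g3 => Subtype.ext
    (h.cube _ ((hk _).1 e) (congrArg Subtype.val g3))) g1
  have y1 : (y : G) ≠ 1 := fun e => g2 (by rw [← py, show y = 1 from Subtype.ext e, map_one])
  have cg : Commute (y : G) g := by
    obtain ⟨k, rfl⟩ := hy
    exact congrArg Subtype.val (((Commute.refl g).pow_left 2).zpow_left k).eq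
  have g6 := (c.t3.of_cube y1 (congrArg Subtype.val y3)).six _ cg
  obtain ⟨l, hl, e⟩ := c.t3.exists_conj h.mem y.2 y1 (congrArg Subtype.val y3)
  refine ⟨l⁻¹ * g ^ 3 * l, (c.memV _).2 ⟨?_, ?_⟩,
    mul_mem (mul_mem (inv_mem hl) (pow_mem g.2 3)) hl, fun e => g3 ((hk _).2 ?_)⟩
  · rcases e with e | e
    · exact T3.commute_conj (e ▸ cg.pow_right 3)
    · exact Commute.inv_left_iff.1 (T3.commute_conj (e ▸ cg.pow_right 3))
  · calc _ = l⁻¹ * (g : G) ^ 6 * l := by group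
      _ = 1 := by rw [g6]; group
  · simpa [mul_assoc] using h.nK l (h.le' hl) _ e

theorem Ctx.L13 (c : Ctx x s V) (h : TII x L K M) (q : Quo L13 K M) :
    K ≤ V ∧ Nat.card K ≤ 2 := by
  obtain ⟨h1, v, hv, -, vK⟩ := c.L13' h q
  have := two_mul_card_le h1 fun e => vK (e hv)
  have := Nat.le_of_dvd (by norm_num) c.card_V_dvd
  exact ⟨h1, by omega⟩

theorem Ctx.card_dvd (c : Ctx x s V) (h : TII x L K M) : Nat.card L ∣ Nat.card M * 4 := by
  refine (card_dvd_of_le (K := M ⊔ (V ⊓ L)) fun g hg => by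
    obtain ⟨m, hm, a, ha, h1, h2, rfl⟩ := h.fra g hg
    exact mul_mem (mem_sup_left hm) (mem_sup_right ⟨(c.memV a).2 ⟨h1, h2⟩, ha⟩)).trans ?_
  exact (card_sup_dvd fun l (hl : l ∈ V ⊓ L) => mem_norm_of_conj (h.nM l hl.2)).trans
    (Nat.mul_dvd_mul_left _ ((card_dvd_of_le inf_le_left).trans c.card_V_dvd))

theorem Ctx.L7orb (c : Ctx x s V) (h : TII x L K M) (q : Quo L7 K M) {t : G} (tK : t ∈ K)
    (tV : t ∈ V) (hC : ∀ k ∈ K, Commute x k → k = 1 ∨ k = t) (hZ : ∀ k ∈ K, Commute t k)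
    (h7 : (centralizer {t}).relIndex L = 7) : Nat.card K = 8 := by
  have := factTwo
  have h2 := c.Lodd h
  obtain ⟨θ, hM, ho, hx, -⟩ := sf7.theta c.t3.cube q h.le h2 h.mem
  have n : L ≤ N[K] := fun l hl => mem_norm_of_conj (h.nK l hl)
  have xL := h.le' h.mem
  have fL := zpowers_le.2 (h.le' hM)
  have c7 : Nat.card (zpowers θ) = 7 := by rw [Nat.card_zpowers, ho]
  obtain ⟨k, hk⟩ := IsPGroup.iff_card.1 h2
  have i0 : zpowers θ ⊓ C₁[t] = ⊥ := (inf_eq_bot_or_le_of_card_prime _ (by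
    rw [c7]; norm_num)).elim (fun e => e) fun e => by
      have h1 := c.card_dvd h
      rw [← card_inf_mul_relIndex C₁[t] L, h7, q.card h.le, hk, card_psl27, mul_assoc] at h1
      have h3 := (Nat.mul_dvd_mul_right (c7 ▸ card_dvd_of_le (le_inf e fL)) 7).trans h1
      exact absurd ((Nat.Coprime.pow_right k (by norm_num)).dvd_of_dvd_mul_left h3) (by norm_num)
  have t7 : θ ≠ 1 := fun e => by simp [e] at ho
  have tθ : t ∉ C₁[θ] := fun e => t7 (eq_one_of_mem_inf i0 (mem_zpowers θ) (mem_cent1_comm.1 e))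
  have i1 : K ⊓ C₁[θ] ⊓ C₁[x] = ⊥ := eq_bot_iff.2 fun a ha =>
    (hC a ha.1.1 (mem_cent1_iff.1 ha.2).symm).resolve_right fun e => tθ (e ▸ ha.1.2)
  have fp : ∀ D, D ≤ K → t ∈ D → L ≤ N[D] → K ≤ D := fun D h1 h3 h4 => h.L0 c.t3
    ⟨c.t3.cube, c.t3.ne, ⟨h.nK x xL, h.cube⟩, h1,
      fun b hb _ => conj_mem_of_norm (h4 (h.le' (h.le hb))), fun _ => conj_mem_of_norm (h4 xL),
      fun b hb hc => (hC b hb hc).elim (fun e => e ▸ one_mem _) fun e => e ▸ h3⟩ h2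
    (fun l hl _ => conj_mem_of_norm (h4 hl)) h.nK
  have ab := abel_of_le_cent ((fp Z[K] inf_le_left ⟨tK, mem_cent_iff.2 fun a ha => (hZ a ha).symm⟩
    (le_norm_center n)).trans inf_le_right)
  have dp := coprime_abelian_cent_dprod (fL.trans n) (by
    rw [hk, c7]; exact Nat.Coprime.pow_left k (by norm_num)) ab
  have tD : t ∈ ⁅K, zpowers θ⁆ := by
    obtain ⟨d, hd, a, ha, e⟩ := (mem_sup_of_norm (le_norm_of_le_cent dp.cent)).1 (dp.sup.ge tK)
    have d' := conj_mem_of_norm (le_norm_comm (zpowers_le.2 (n xL)) (zpowers_le.2 hx)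
      (mem_zpowers x)) hd
    have a' := conj_mem_of_norm (le_norm_inf_cent (zpowers_le.2 (n xL)) (zpowers_le.2 hx)
      (mem_zpowers x)) ha
    have e1 : x * d * x⁻¹ * (x * a * x⁻¹) = d * a := by
      rw [show x * d * x⁻¹ * (x * a * x⁻¹) = x * (d * a) * x⁻¹ by group, e, (c.cx tV).eq]; group
    have e2 := eq_one_of_mem_inf dp.inf (x := x * a * x⁻¹ * a⁻¹) (by
      rw [show x * a * x⁻¹ * a⁻¹ = (x * d * x⁻¹)⁻¹ * (x * d * x⁻¹ * (x * a * x⁻¹)) * a⁻¹ by group,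
        e1, mul_assoc, mul_inv_cancel_right]
      exact mul_mem (inv_mem d') hd) (mul_mem a' (inv_mem ha))
    rw [cent_zpowers] at ha
    rw [← e, mem_bot.1 (i1.le ⟨ha, mem_cent1_iff.2
      (mul_inv_eq_iff_eq_mul.1 (mul_inv_eq_one.1 e2)).symm⟩), mul_one]
    exact hd
  have orb : ∀ l ∈ L, l * t * l⁻¹ ∈ ⁅K, zpowers θ⁆ := fun l hl => by
    obtain ⟨f, hf⟩ := (Function.Injective.bijective_of_nat_card_le (f := fun f : zpowers θ =>
      (QuotientGroup.mk ⟨f, fL f.2⟩ : L ⧸ (C₁[t]).subgroupOf L)) (fun a b e => Subtype.ext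
        (inv_mul_eq_one.1 (eq_one_of_mem_inf i0 (mul_mem (inv_mem a.2) b.2)
          (QuotientGroup.eq (s := (C₁[t]).subgroupOf L).1 e)))) (by rw [c7]; exact h7.le)).2 (QuotientGroup.mk ⟨l, hl⟩)
    have e : (f : G)⁻¹ * l * t = t * ((f : G)⁻¹ * l) := 
      mem_cent1_iff.1 (QuotientGroup.eq (s := (C₁[t]).subgroupOf L).1 hf)
    rw [show l * t * l⁻¹ = f * ((f : G)⁻¹ * l * t) * l⁻¹ by group, e,
      show f * (t * ((f : G)⁻¹ * l)) * l⁻¹ = f * t * (f : G)⁻¹ by group]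
    exact conj_mem_of_norm (right_le_norm_comm _ _ f.2) tD
  have kD := (fp (closure {a | ∃ l ∈ L, a = l * t * l⁻¹}) ((closure_le _).2 (by
    rintro _ ⟨l, hl, rfl⟩; exact h.nK l hl t tK)) (subset_closure ⟨1, one_mem _, by simp⟩)
    (fun g hg => mem_norm_of_conj_smul_le (by
      rw [conj_smul_eq_map, MonoidHom.map_closure, closure_le]
      rintro _ ⟨_, ⟨l, hl, rfl⟩, rfl⟩
      exact subset_closure ⟨g * l, mul_mem hg hl, by simp [mul_assoc]⟩))).trans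
    ((closure_le _).2 (by rintro _ ⟨l, hl, rfl⟩; exact orb l hl))
  have e1 := wielandt_theta c.t3 (by norm_num) le_rfl ho hx h2 (n (h.le' hM)) (n xL)
  rw [i1, show K ⊓ C₁[θ] = ⊥ from eq_bot_iff.2 (dp.inf ▸ le_inf (inf_le_left.trans kD)
    (by rw [cent_zpowers])), show K ⊓ C₁[x] = zpowers t from le_antisymm (fun a ha =>
      (hC a ha.1 (mem_cent1_iff.1 ha.2).symm).elim (fun e => e ▸ one_mem _)
        fun e => e ▸ mem_zpowers _) (zpowers_le.2 ⟨tK, mem_cent1_iff.2 (c.cx tV).symm⟩),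
    Nat.card_zpowers, orderOf_eq_prime (x := t) (p := 2) (by rw [pow_two, c.sq tV])
      (fun e => tθ (e ▸ one_mem _)), card_bot] at e1
  omega

end Cfsg.Agent.L0.C12
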