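import Cfsg.Agent.L0.C12S1

/-!
# The configuration `|V| = 4`: type II centralizers containing `V` in the radical
-/

set_option autoImplicit false
set_option linter.dupNamespace false

namespace Cfsg.Agent.L0.C12

open Subgroup Cfsg.Agent.L0.SC3 Cfsg.Agent.H1.T3 Cfsg.Agent.H7
open MulAut (conj)
open scoped commutatorElement Pointwise

universe u

theorem TII.not_le_TI {G : Type*} [Group G] [Finite G] {x : G} (h : T3 x)
    {L K M X R : Subgroup G} (c : TII x L K M) (hX : L ≤ X) (t : TI x X R) : False := by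
  obtain ⟨p, hp, h7, P, hPM, hP, hx, hPK⟩ := c.exists_theta h
  have hPL := hPM.trans c.le'
  exact hPK ((le_inf hPL (t.le_of_inv h ⟨fun _ => conj_mem_of_norm hx,
    cube_of_pgroup hp (by omega) hP⟩ (hPL.trans hX))).trans (c.max _ inf_le_left
      (fun l hl n hn => ⟨L.mul_mem (L.mul_mem hl hn.1) (L.inv_mem hl), t.normal l (hX hl) n hn.2⟩)
      fun e => t.notMem h e.2))

/-- The largest subgroup of `W` normalised by `L`. -/
def coreOf {G : Type*} [Group G] (W L : Subgroup G) : Subgroup G where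
  carrier := {k | ∀ g ∈ L, g * k * g⁻¹ ∈ W}
  one_mem' := fun g _ => by simp
  mul_mem' := fun {a b} ha hb g hg => by
    rw [← conj_mul]; exact mul_mem (ha g hg) (hb g hg)
  inv_mem' := fun {a} ha g hg => by rw [← conj_inv]; exact inv_mem (ha g hg)

theorem coreOf_le {G : Type*} [Group G] (W L : Subgroup G) : coreOf W L ≤ W := fun k hk => by
  simpa using hk 1 (one_mem _)

theorem le_norm_coreOf {G : Type*} [Group G] [Finite G] (W L : Subgroup G) :
    L ≤ N[coreOf W L] := fun l hl => mem_norm_of_conj fun k hk g hg => by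
  rw [show g * (l * k * l⁻¹) * g⁻¹ = g * l * k * (g * l)⁻¹ by group]
  exact hk _ (mul_mem hg hl)

variable {G : Type u} [Group G] [Finite G] {x s : G} {V : Subgroup G}

theorem Ctx.comm_of_conj_mem (c : Ctx x s V) {g w : G} (hw : w ∈ V) (h : g * w * g⁻¹ ∈ V) :
    Commute g w :=
  mul_inv_eq_iff_eq_mul.1 (c.eq_of_isConj hw h (isConj_iff.2 ⟨g, rfl⟩)).symm

theorem Ctx.norm_le_cent (c : Ctx x s V) : N[V] ≤ C[V] := fun _ hg =>
  mem_cent_iff.2 fun _ ha => (c.comm_of_conj_mem ha (conj_mem_of_norm hg ha)).symm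

theorem Ctx.le_of_mem (c : Ctx x s V) (h4 : Nat.card V = 4) {a b : G} (ha : a ∈ V) (hb : b ∈ V)
    (a1 : a ≠ 1) (h : b ∉ zpowers a) {D : Subgroup G} (aD : a ∈ D) (bD : b ∈ D) : V ≤ D :=
  fun g hg => by
    rcases mem_four h4 ha hb (c.sq ha) a1 (fun e => h (e ▸ one_mem _))
      (fun e => h (e ▸ mem_zpowers a)) hg with e | e | e | e <;> rw [e]
    exacts [one_mem _, aD, bD, mul_mem aD bD]

/-- The centralizer of `v` is of type II with `V` in its radical `K`. -/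
structure CW (x s v : G) (V K0 K : Subgroup G) : Prop extends C4 x s V where
  h0 : TI x C[V] K0
  h02 : IsPGroup 2 K0
  hv : v ∈ V
  v1 : v ≠ 1
  h : TII x C₁[v] K C₁[v]
  le : V ≤ K

namespace CW

variable {v u : G} {K0 K K' : Subgroup G} (c : CW x s v V K0 K)
include c

theorem two : IsPGroup 2 K := c.Lodd c.h

theorem n : C₁[v] ≤ N[K] := fun l hl => mem_norm_of_conj (c.h.nK l hl)

omit [Finite G] in
theorem nv : C₁[v] ≤ N[zpowers v] := le_norm_of_le_cent (by rw [cent_zpowers])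

theorem tii : Quo L7 K C₁[v] ∧ Nat.card C₁[v] = 168 * Nat.card K :=
  (c.tii_of_le c.card c.h c.le c.h.le c.two c.h.nK).2.2

theorem eq_of_le {D : Subgroup G} (h1 : V ≤ D) (h2 : D ≤ K) (h3 : C₁[v] ≤ N[D]) : K = D :=
  (c.tii_of_le c.card c.h h1 (h2.trans c.h.le) (c.two.to_le h2)
    fun _ hl _ => conj_mem_of_norm (h3 hl)).1

theorem not_le : ¬ C₁[v] ≤ C[V] := fun e => c.h.not_le_TI c.t3 e c.h0

theorem ne : K ≠ V := fun e => c.not_le ((e ▸ c.n).trans c.norm_le_cent)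

theorem KC : K ≤ C[V] := by
  have nU := le_norm_inf c.n (le_norm_centMod c.n c.nv)
  have xH := c.h.mem
  have hV : V ≤ K ⊓ centMod K (zpowers v) := by
    by_contra e
    obtain ⟨w, hw, w1, wv⟩ := exists_ne_two c.card v
    obtain ⟨r, hr, r1, -, rc⟩ := exists_central_mod' c.two le_rfl (N := zpowers v)
      (fun g hg a => conj_mem_of_norm (c.nv (c.h.le hg)))
      (fun g hg a ha => mul_mem (mul_mem hg ha) (inv_mem hg))
      fun e => ((mem_zpowers_two (c.sq c.hv)).1 (e (c.le hw))).elim w1 wv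
    have vU : v ∈ K ⊓ centMod K (zpowers v) := ⟨c.le c.hv, c.n (mem_cent1_iff.2 rfl),
      c.nv (mem_cent1_iff.2 rfl), fun a ha => by
        rw [← mem_cent1_iff.1 (c.h.le ha), mul_inv_cancel_right, mul_inv_cancel]; exact one_mem _⟩
    refine r1 (c.h.L0 c.t3 (D1 := K ⊓ centMod K (zpowers v)) ⟨c.t3.cube, c.t3.ne,
      ⟨fun _ => conj_mem_of_norm (nU xH), fun b hb => c.h.cube b hb.1⟩, zpowers_le.2 vU,
      fun b hb _ => conj_mem_of_norm hb.2.2.1, fun _ => conj_mem_of_norm (c.nv xH),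
      fun b hb hc => by_contra fun e' => e (c.le_of_mem c.card c.hv
        (c.mem_of_commute c.h.cube hb.1 hc) c.v1 e' vU hb)⟩ (c.two.to_le inf_le_left)
      (fun _ hl _ => conj_mem_of_norm (c.nv hl)) (fun _ hl _ => conj_mem_of_norm (nU hl))
      ⟨hr, c.n (c.h.le hr), c.nv (c.h.le hr), fun a ha => ?_⟩)
    simpa [mul_assoc] using inv_mem (rc a ha)
  refine fun k hk => mem_cent_iff.2 fun w hw => (c.comm_of_conj_mem hw ?_).symm
  have := mul_mem (inv_mem (zpowers_le.2 c.hv ((hV hw).2.2.2 k hk))) hw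
  simpa [mul_assoc] using this

theorem ab : IsMulCommutative K := abel_of_le_cent ((c.eq_of_le
  (le_inf c.le (le_cent_comm.1 c.KC)) inf_le_left (le_norm_center c.n)).le.trans inf_le_right)

theorem le0 : K ≤ K0 := c.h0.le_of_inv c.t3 ⟨c.h.nK x c.h.mem, c.h.cube⟩ c.KC

theorem cm : C₁[v] ⊓ centMod K (zpowers v) ≤ K := by
  by_contra e
  have := c.h.max' (le_norm_centMod c.n c.nv) e
  refine c.ne (le_antisymm (fun k hk => (c.fpf ⟨c.h.nK x c.h.mem, c.h.cube⟩ le_rfl c.le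
    (fun _ hb _ => conj_mem_of_norm (le_norm_of_le_cent c.KC hb)) fun d hd => ?_).fix'' hk
    (zpowers_le.2 c.hv (this.2.2 k hk))) c.le)
  rwa [(c.cx hd).eq, mul_inv_cancel_right]

theorem norm : N[K] ≤ C₁[v] := by
  rcases c.str_sub (c.normalizer_ne_top' (ne_bot_of_mem (c.le c.hv) c.v1) c.h.cube)
    (c.n c.h.mem) with ⟨R, t⟩ | ⟨R, M, t⟩
  · exact (c.h.not_le_TI c.t3 c.n t).elim
  · exact (eq_of_le_of_card_le c.n ((c.tii_of_le c.card t c.le (le_norm_self K) c.two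
      fun _ hl _ => conj_mem_of_norm hl).2.2.2.trans c.tii.2.symm).le).ge

theorem cardK : ∃ j, Nat.card K = 4 ^ (j + 1) :=
  c.card_four_pow c.card c.two (c.h.nK x c.h.mem) c.le

theorem card0 : ∃ j, Nat.card K0 = 4 ^ (j + 1) :=
  c.card_four_pow c.card c.h02 c.h0.inv.conj (c.le.trans c.le0)

theorem cardC : Nat.card C[V] = 6 * Nat.card K0 :=
  c.h0.card c.t3 (mem_cent_iff.2 fun a ha => (c.sV a ha).symm) c.sx

theorem cases : K = K0 ∨ Nat.card K0 = 4 * Nat.card K := by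
  obtain ⟨a, ha⟩ := c.cardK
  obtain ⟨b, hb⟩ := c.card0
  have h1 := card_dvd_of_le (cent_le_cent1 c.hv)
  refine or_iff_not_imp_left.2 fun e => ?_
  have h2 := card_lt_of_lt (lt_of_le_of_ne c.le0 e)
  rw [c.cardC, c.tii.2, ha, hb] at h1
  rw [ha, hb, Nat.pow_lt_pow_iff_right (by norm_num)] at h2
  obtain ⟨i, rfl⟩ : ∃ i, b = a + 1 + i := ⟨b - (a + 1), by omega⟩
  rw [ha, hb]
  rcases i with _ | i
  · ring
  · rw [show 6 * 4 ^ (a + 1 + (i + 1) + 1) = 4 ^ (a + 1) * (96 * 4 ^ i) by ring, mul_comm 168,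
      Nat.mul_dvd_mul_iff_left (by positivity)] at h1
    exact absurd ((Dvd.intro _ rfl).trans h1) (by norm_num)

theorem big (h : Nat.card K0 = 4 * Nat.card K) : Nat.card K = 16 ∧ ∃ d ∈ V, d ≠ 1 ∧ d ≠ v ∧
    ∀ k ∈ K, ∀ g ∈ C₁[v], k * g * k⁻¹ * g⁻¹ ∈ V → k * g * k⁻¹ * g⁻¹ ∈ zpowers d := by
  have := factTwo
  obtain ⟨θ, hM, ho, hx, -⟩ := sf7.theta c.t3.cube c.tii.1 c.h.le c.two c.h.mem
  have fL := zpowers_le.2 hM
  have xH := c.h.mem
  have c7 : Nat.card (zpowers θ) = 7 := by rw [Nat.card_zpowers, ho]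
  obtain ⟨a, ha⟩ := c.cardK
  have i0 : zpowers θ ⊓ C[V] = ⊥ := (inf_eq_bot_or_le_of_card_prime _ (by
    rw [c7]; norm_num)).resolve_right fun e => by
      have h1 := card_dvd_of_le e
      rw [c7, c.cardC, h, ha, ← mul_assoc] at h1
      exact absurd ((Nat.Coprime.pow_right _ (by norm_num)).dvd_of_dvd_mul_right h1) (by norm_num)
  have dp := coprime_abelian_cent_dprod (fL.trans c.n) (by
    rw [ha, c7]; exact Nat.Coprime.pow_left _ (by norm_num)) c.ab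
  rw [cent_zpowers] at dp
  have vθ : v ∈ K ⊓ C₁[θ] := ⟨c.le c.hv, mem_cent1_comm.1 hM⟩
  have i1 : K ⊓ C₁[θ] ⊓ C₁[x] = zpowers v := le_antisymm (fun b hb => by_contra fun e =>
    (by simpa [ho] using orderOf_eq_one_iff (x := θ) : θ ≠ 1) (eq_one_of_mem_inf i0
      (mem_zpowers θ) (mem_cent_iff.2 fun w hw => mem_cent1_iff.1 (c.le_of_mem c.card c.hv
        (c.mem_of_commute c.h.cube hb.1.1 (mem_cent1_iff.1 hb.2).symm) c.v1 e vθ.2 hb.1.2 hw))))
    (zpowers_le.2 ⟨vθ, mem_cent1_iff.2 (c.cx c.hv).symm⟩)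
  have e1 := wielandt_theta c.t3 (by norm_num) le_rfl ho hx c.two (c.n hM) (c.n xH)
  rw [i1, c.inf_eq c.h.cube c.le, Nat.card_zpowers, orderOf_two (c.sq c.hv) c.v1, c.card,
    dp.card] at e1
  have e3 : Nat.card ↥⁅K, zpowers θ⁆ = 8 := by
    have := card_pos' (K ⊓ C₁[θ])
    nlinarith
  have e4 := card_mod_three c.t3.cube (B := ⁅K, zpowers θ⁆) fun _ => conj_mem_of_norm
    (le_norm_comm (zpowers_le.2 (c.n xH)) (zpowers_le.2 hx) (mem_zpowers x))
  obtain ⟨d, hd, d1⟩ := exists_ne_one_of_ne_bot (A := ⁅K, zpowers θ⁆ ⊓ C₁[x]) fun e => by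
    rw [e, e3, card_bot] at e4; exact absurd e4 (by decide)
  have dV := c.mem_of_commute c.h.cube (dp.le_left hd.1) (mem_cent1_iff.1 hd.2).symm
  have vW : v ∉ ⁅K, zpowers θ⁆ := fun e => c.v1 (eq_one_of_mem_inf dp.inf e vθ)
  have dv : d ≠ v := fun e => vW (e ▸ hd.1)
  have dD : d ∈ coreOf ⁅K, zpowers θ⁆ C₁[v] := fun g hg => by
    obtain ⟨b, hb, e, he, rfl⟩ := exists_mul_of_card (cent_le_cent1 c.hv) fL ((inf_comm _ _).trans i0)
      (by rw [c7, c.cardC, h, c.tii.2]; omega) hg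
    rw [show b * e * d * (b * e)⁻¹ = b * (e * d * e⁻¹) * b⁻¹ by group,
      ← comm_of_mem_cent he dV, mul_inv_cancel_right]
    exact conj_mem_of_norm (right_le_norm_comm _ _ hb) hd.1
  have nD := le_norm_coreOf ⁅K, zpowers θ⁆ C₁[v]
  have vD := zpowers_le.2 (nD (mem_cent1_iff.2 rfl))
  have e5 := c.eq_of_le (D := coreOf ⁅K, zpowers θ⁆ C₁[v] ⊔ zpowers v) (c.le_of_mem c.card c.hv dV
    c.v1 (fun e => ((mem_zpowers_two (c.sq c.hv)).1 e).elim d1 dv) (mem_sup_right (mem_zpowers v))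
    (mem_sup_left dD)) (sup_le ((coreOf_le _ _).trans dp.le_left) (zpowers_le.2 vθ.1))
    (le_norm_sup nD c.nv)
  refine ⟨?_, d, dV, d1, dv, fun k hk g hg e => by_contra fun e' => vW (c.le_of_mem c.card dV e d1
    e' hd.1 (coreOf_le _ C₁[v] ?_) c.hv)⟩
  · have h1 := Nat.le_of_dvd (Nat.mul_pos (card_pos' _) (card_pos' _)) (card_sup_dvd vD)
    have h2 := card_le_of_le' (coreOf_le ⁅K, zpowers θ⁆ C₁[v])
    have h3 := card_lt_of_lt (lt_of_le_of_ne c.le c.ne.symm)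
    rw [← e5, Nat.card_zpowers, orderOf_two (c.sq c.hv) c.v1] at h1
    rw [c.card] at h3
    rw [ha] at h1 h3 ⊢
    rcases a with _ | _ | a
    · omega
    · rfl
    · have : 0 < 4 ^ a := by positivity
      rw [show 4 ^ (a + 1 + 1 + 1) = 64 * 4 ^ a by ring] at h1
      omega
  · obtain ⟨b, hb, y, hy, rfl⟩ := (mem_sup_of_norm vD).1 (e5.le hk)
    rw [show b * y * g * (b * y)⁻¹ * g⁻¹ = b * (y * g * y⁻¹) * b⁻¹ * g⁻¹ by group,
      comm_of_mem_cent (cent_zpowers v ▸ hg) hy, mul_inv_cancel_right,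
      show b * g * b⁻¹ * g⁻¹ = b * (g * b⁻¹ * g⁻¹) by group]
    exact mul_mem hb (conj_mem_of_norm (nD hg) (inv_mem hb))

theorem ratio' (hu : u ∈ V) (u1 : u ≠ 1) : 48 * Nat.card K ≤ Nat.card C₁[u] := by
  have h1 := c.ratio v u (c.sq c.hv) c.v1 (c.sq hu) u1
  have h2 := c.fcl_pos (c.sq c.hv) c.v1
  have h3 := c.fcl_le hu u1
  rw [c.tii.2] at h1
  nlinarith

theorem cent_of (hu : u ∈ V) (u1 : u ≠ 1) (uv : u ≠ v) : C₁[v] ⊓ C₁[u] ≤ C[V] := fun g hg =>
  mem_cent_iff.2 fun _ hw => mem_cent1_iff.1 (c.le_of_mem c.card c.hv hu c.v1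
    (fun e => ((mem_zpowers_two (c.sq c.hv)).1 e).elim u1 uv) (mem_cent1_comm.1 hg.1)
    (mem_cent1_comm.1 hg.2) hw)

theorem notI (hu : u ∈ V) (u1 : u ≠ 1) (uv : u ≠ v) {T : Subgroup G} (t : TI x C₁[u] T)
    (h2 : IsPGroup 2 T) : False := by
  have := factTwo
  have h1 : K0 ≤ T := t.le_of_inv c.t3 c.h0.inv (c.h0.le.trans (cent_le_cent1 hu))
  have zK : Z[K0] ≤ K := le_trans (le_inf (inf_le_left.trans (c.h0.le.trans (cent_le_cent1 c.hv)))
    (le_centMod (zpowers_le.2 (c.le c.hv)) ((comm_eq_bot_iff'.2 (inf_le_right.trans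
      (cent_anti c.le0))).le.trans bot_le))) c.cm
  have vZ : V ≤ Z[K0] := le_inf (c.le.trans c.le0) (le_cent_comm.1 c.h0.le)
  have hZ : Z[K0] = V ∨ Z[K0] = K := c.cases.elim
    (fun e => Or.inr (le_antisymm zK (le_inf c.le0 (e ▸ le_cent_of_abel c.ab)))) fun e => by
      obtain ⟨j, hj⟩ := c.card_four_pow c.card (c.two.to_le zK) (fun _ => conj_mem_of_norm
        (le_norm_center (zpowers_le.2 (mem_norm_of_conj c.h0.inv.conj)) (mem_zpowers x))) vZ
      have h3 := card_le_of_le' zK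
      rw [(c.big e).1] at h3
      rcases j with _ | j
      · exact Or.inl (eq_of_le_of_card_le vZ (by rw [hj, c.card]; rfl)).symm
      · refine Or.inr (eq_of_le_of_card_le zK ?_)
        have : 0 < 4 ^ j := by positivity
        rw [(c.big e).1, hj, show 4 ^ (j + 1 + 1) = 16 * 4 ^ j by ring]
        omega
  have e := eq_of_nil_of_norm_le (nil_of_pgroup h2) h1 fun g hg => by
    have h3 := le_norm_center le_rfl hg.2
    have xC := c.h0.mem
    refine c.h0.le_of_inv c.t3 (B := T ⊓ C[V]) (t.inv.mono inf_le_left fun b hb =>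
      ⟨t.inv.conj b hb.1, conj_mem_of_norm (le_norm_self _ xC) hb.2⟩) inf_le_right ⟨hg.1, ?_⟩
    rcases hZ with e | e <;> rw [e] at h3
    exacts [c.norm_le_cent h3, c.cent_of hu u1 uv ⟨c.norm h3, t.le hg.1⟩]
  have h3 := c.ratio' hu u1
  have h4 := card_pos' K
  rw [t.card c.t3 (c.s_mem hu) c.sx, ← e] at h3
  rcases c.cases with e | e
  · rw [← e] at h3; omega
  · omega

theorem ne' (c' : CW x s u V K0 K') (uv : u ≠ v) : K ≠ K' := fun e =>
  c'.not_le fun _ hg => c.cent_of c'.hv c'.v1 uv ⟨c.norm (e ▸ c'.n hg), hg⟩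

theorem card_le (c' : CW x s u V K0 K') : Nat.card K ≤ Nat.card K' := by
  have h1 := c.ratio' c'.hv c'.v1
  obtain ⟨a, ha⟩ := c.cardK
  obtain ⟨b, hb⟩ := c'.cardK
  rw [c'.tii.2, ha, hb] at h1
  rw [ha, hb]
  refine Nat.pow_le_pow_right (by norm_num) (Nat.le_of_lt_succ ?_)
  have : 0 < 4 ^ (b + 1) := by positivity
  refine (Nat.pow_lt_pow_iff_right (a := 4) (by norm_num)).1 ?_
  rw [Nat.succ_eq_add_one, pow_succ 4 (b + 1)]
  omega

end CW

theorem C4.caseW (c : C4 x s V)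
    (h2 : ∀ v ∈ V, v ≠ 1 → ∀ K, TI x (centralizer {v}) K → IsPGroup 2 K) {K0 : Subgroup G}
    (h0 : TI x (centralizer (V : Set G)) K0) (h02 : IsPGroup 2 K0)
    (hW : ∀ v ∈ V, v ≠ 1 → ∀ K M, TII x (centralizer {v}) K M → V ≤ K ∧ Quo L7 K M)
    {v : G} (hv : v ∈ V) (h1 : v ≠ 1) {K M : Subgroup G} (h : TII x (centralizer {v}) K M) :
    False := by
  have mk : ∀ u ∈ V, u ≠ 1 → ∀ K M, TII x C₁[u] K M → CW x s u V K0 K := fun u hu u1 K M t =>
    have e := (hW u hu u1 K M t).1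
    ⟨c, h0, h02, hu, u1, (c.tii_of_le c.card t e (t.le.trans t.le') (c.Lodd t) t.nK).2.1 ▸ t, e⟩
  have w := mk v hv h1 K M h
  have key : ∀ u ∈ V, u ≠ 1 → u ≠ v → ∃ K', CW x s u V K0 K' := fun u hu u1 uv =>
    (c.str_sub (c.centralizer_ne_top u1) (c.x_mem hu)).elim
      (fun ⟨T, t⟩ => (w.notI hu u1 uv t (h2 u hu u1 T t)).elim) fun ⟨K', M', t⟩ =>
      ⟨K', mk u hu u1 K' M' t⟩
  obtain ⟨u, hu, u1, uv⟩ := exists_ne_two c.card v
  obtain ⟨K1, w1⟩ := key u hu u1 uv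
  obtain ⟨e, d, hd, d1, dv, hc⟩ := w.big (w.cases.resolve_left fun e => w.ne' w1 uv
    (eq_of_le_of_card_le (e ▸ w1.le0) (w.card_le w1)).symm)
  obtain ⟨K', w'⟩ := key d hd d1 dv
  have nK : C[V] ≤ N[K] := (cent_le_cent1 hv).trans w.n
  have nK' : C[V] ≤ N[K'] := (cent_le_cent1 hd).trans w'.n
  have i : K ⊓ K' ≤ V := by
    obtain ⟨j, hj⟩ := c.card_four_pow c.card (w.two.to_le inf_le_left) (fun _ => conj_mem_of_norm
      (le_norm_inf nK nK' h0.mem)) (le_inf w.le w'.le)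
    have h3 := card_lt_of_lt (lt_of_le_of_ne (inf_le_left : K ⊓ K' ≤ K) fun e' => w.ne' w' dv
      (eq_of_le_of_card_le (inf_eq_left.1 e') (w'.card_le w)))
    rw [e, hj, show 16 = 4 ^ 2 from rfl, Nat.pow_lt_pow_iff_right (by norm_num)] at h3
    exact (eq_of_le_of_card_le (le_inf w.le w'.le) (by
      rw [hj, c.card, show j = 0 by omega]; rfl)).ge
  refine w.ne' w' dv (eq_of_le_of_card_le (le_trans (fun k hk => ?_) w'.cm) (w'.card_le w))
  have kd := cent_le_cent1 hd (w.KC hk)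
  refine ⟨kd, w'.n kd, w'.nv kd, fun g hg => hc k hk g (cent_le_cent1 hv (w'.KC hg)) (i ⟨?_, ?_⟩)⟩
  · rw [mul_assoc, mul_assoc, ← mul_assoc g]
    exact K.mul_mem hk (conj_mem_of_norm (nK (w'.KC hg)) (inv_mem hk))
  · exact K'.mul_mem (conj_mem_of_norm (nK' (w.KC hk)) hg) (inv_mem hg)

end Cfsg.Agent.L0.C12
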