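import Cfsg.Agent.H7.C12T3
import Cfsg.Agent.L0.C12TI
import Cfsg.Agent.H5.C12Solv

/-!
# Normal `2`-complements, normalizers of odd subgroups and invariant odd subgroups
-/

set_option autoImplicit false
set_option linter.dupNamespace false

namespace Cfsg.Agent.L0.C12

open Subgroup Cfsg.Agent.L0.SC3 Cfsg.Agent.H1.T3 Cfsg.Agent.H7
open MulAut (conj)
open scoped commutatorElement Pointwise

universe u

section
variable {G : Type*} [Group G] [Finite G]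

theorem odd_core (K : Subgroup G) : Odd (Nat.card (O[{2}ᶜ] K)) :=
  Nat.not_even_iff_odd.1 fun e => isPi_core {2}ᶜ K 2 Nat.prime_two e.two_dvd rfl

omit [Finite G] in
theorem isPi_of_odd {O : Subgroup G} (h : Odd (Nat.card O)) : IsPi {2}ᶜ O := fun p _ hd e => by
  rw [Set.mem_singleton_iff.1 e] at hd
  exact absurd (h.of_dvd_nat hd) (by decide)

theorem mem_of_odd_compl {K O : Subgroup G} (hO : O ≤ K) (hn : ∀ l ∈ K, ∀ o ∈ O, l * o * l⁻¹ ∈ O)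
    {j : ℕ} (hj : Nat.card K = Nat.card O * 2 ^ j) {g : G} (hg : g ∈ K) (ho : Odd (orderOf g)) :
    g ∈ O := by
  rw [← H9.card_mul_relIndex_of_le hO] at hj
  have := pow_relIndex_mem_of_norm (fun l hl => mem_norm_of_conj (hn l hl)) hg
  rw [Nat.eq_of_mul_eq_mul_left (card_pos' O) hj] at this
  exact mem_of_pow_mem_of_coprime ((Nat.coprime_two_right.2 ho).pow_right j) this

theorem TI.sol {x : G} (h : T3 x) {L K : Subgroup G} (c : TI x L K) : Group.IsSolvable L := by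
  have n : L ≤ N[K] := fun l hl => mem_norm_of_conj (c.normal l hl)
  have k : ∀ g ∈ L, g * x * g⁻¹ * x⁻¹ ∈ K → g ∈ K ⊔ zpowers x := fun g hg e => by
    have x1 : x ∈ K ⊔ zpowers x := mem_sup_right (mem_zpowers x)
    rcases c.decomp h hg e with e | e | e
    · exact mem_sup_left e
    · exact (mul_mem_cancel_right (inv_mem x1)).1 (mem_sup_left e)
    · exact (mul_mem_cancel_right x1).1 (mem_sup_left e)
  refine sol_of_der_sol (sol_of_le (sol_sup (zpowers_le.2 (n c.mem)) (solv3 h.five c.cube)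
    (sol_of_cyclic (cyclic_zpowers x))) (comm_le_iff.2 fun a ha b hb => k _
      (mul_mem (mul_mem (mul_mem ha hb) (inv_mem ha)) (inv_mem hb)) ?_))
  let f := QuotientGroup.mk' (K.subgroupOf N[K])
  have hk : ∀ g : N[K], f g = 1 ↔ (g : G) ∈ K := fun g => QuotientGroup.eq_one_iff g
  have e : ∀ g (hg : g ∈ L), f ⟨g, n hg⟩ * f ⟨x, n c.mem⟩ * (f ⟨g, n hg⟩)⁻¹ = f ⟨x, n c.mem⟩ ∨
      f ⟨g, n hg⟩ * f ⟨x, n c.mem⟩ * (f ⟨g, n hg⟩)⁻¹ = (f ⟨x, n c.mem⟩)⁻¹ := fun g hg =>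
    (c.act g hg).imp (fun e => by
      rw [← mul_inv_eq_one, ← map_inv, ← map_inv, ← map_mul, ← map_mul, ← map_mul, hk]; exact e)
      fun e => by
      rw [← mul_eq_one_iff_eq_inv, ← map_inv, ← map_mul, ← map_mul, ← map_mul, hk]; exact e
  refine (hk (⟨a, n ha⟩ * ⟨b, n hb⟩ * ⟨a, n ha⟩⁻¹ * ⟨b, n hb⟩⁻¹ * ⟨x, n c.mem⟩ *
    (⟨a, n ha⟩ * ⟨b, n hb⟩ * ⟨a, n ha⟩⁻¹ * ⟨b, n hb⟩⁻¹)⁻¹ * ⟨x, n c.mem⟩⁻¹)).1 ?_
  simp only [map_mul, map_inv]
  have ea := e a ha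
  have eb := e b hb
  generalize f ⟨a, n ha⟩ = A at ea
  generalize f ⟨b, n hb⟩ = B at eb
  generalize f ⟨x, n c.mem⟩ = X at ea eb
  have k : A * (B * X * B⁻¹) * A⁻¹ = B * (A * X * A⁻¹) * B⁻¹ := by
    rcases ea with ea | ea <;> rcases eb with eb | eb <;> simp only [ea, eb, ← conj_inv, inv_inv]
  have k2 : A * B * A⁻¹ * B⁻¹ * (B * (A * X * A⁻¹) * B⁻¹) * (A * B * A⁻¹ * B⁻¹)⁻¹ =
      B * (A * X * A⁻¹) * B⁻¹ := by rw [← k, k, ← k]; nth_rw 1 [k]; group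
  have k3 : B * (A * X * A⁻¹) * B⁻¹ = X ∨ B * (A * X * A⁻¹) * B⁻¹ = X⁻¹ := by
    rcases ea with ea | ea <;> rcases eb with eb | eb <;>
      simp only [ea, eb, ← conj_inv, inv_inv, true_or, or_true]
  rcases k3 with k3 | k3 <;> rw [k3] at k2
  · rw [k2, mul_inv_cancel]
  · rw [mul_inv_eq_one, ← inv_inj, conj_inv, k2]

end

variable {G : Type u} [Group G] [Finite G] {x s : G} {V L K : Subgroup G}

theorem Ctx.z6' (c : Ctx x s V) (h : TI x L K) (hs : s ∈ L) {v : G} (vv : v * v = 1) (vL : v ∈ L)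
    (vc : ∀ l ∈ L, Commute v l) (hc : Nat.card ↥(V ⊓ L) ≤ 2 * Nat.card (zpowers v)) :
    ∃ O ≤ K, (∀ l ∈ L, ∀ o ∈ O, l * o * l⁻¹ ∈ O) ∧ Odd (Nat.card O) ∧
      ∃ j, Nat.card K = Nat.card O * 2 ^ j := by
  have n : L ≤ N[K] := fun l hl => mem_norm_of_conj (h.normal l hl)
  have l1 : K ⊓ C₁[x] ≤ V ⊓ L := fun a ha =>
    ⟨c.mem_of_commute h.cube ha.1 (mem_cent1_iff.1 ha.2).symm, h.le ha.1⟩
  refine ⟨_, core_le _ _, fun l hl _ => conj_mem_of_norm (norm_le_norm_core _ _ (n hl)), odd_core K,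
    two_compl c.t3.cube c.t3.ne c.sx (solv3 c.t3.five h.cube) (not_dvd_card_iff.2 h.cube)
      (c.t3.not_five' K) (n h.mem) (n hs)
      (isPGroup_of_el2 fun g hg => El2.of_sq (c.sq (l1 hg).1))
      ((card_le_of_le' l1).trans (hc.trans (Nat.mul_le_mul_left 2 (card_le_of_le' ?_))))⟩
  exact zpowers_le.2 ⟨⟨h.cen v vL (vc x h.mem).symm vv,
    mem_cent_iff.2 fun a ha => (vc a (h.le ha)).symm⟩, mem_cent1_iff.2 (vc x h.mem)⟩

theorem C2.z6 {t : G} (c : C2 x s t) (h : TI x L K) (hs : s ∈ L) :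
    ∃ O ≤ K, (∀ l ∈ L, ∀ o ∈ O, l * o * l⁻¹ ∈ O) ∧ Odd (Nat.card O) ∧
      ∃ j, Nat.card K = Nat.card O * 2 ^ j :=
  c.toCtx.z6' h hs (mul_one 1) (one_mem _) (fun l _ => Commute.one_left l)
    ((card_le_of_le' inf_le_left).trans (by
      rw [Nat.card_zpowers, Nat.card_zpowers, orderOf_one]
      exact orderOf_le_of_pow_eq_one two_pos (by rw [pow_two, c.toCtx.sq (mem_zpowers t)])))

theorem Ctx.norm_odd_TI (c : Ctx x s V) {r : ℕ} (hr : r.Prime) (r2 : r ≠ 2) (r3 : r ≠ 3)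
    {D : Subgroup G} (hD : IsPGroup r D) (h1 : D ≠ ⊥) (hx : x ∈ normalizer (D : Set G)) :
    ∃ K, TI x (normalizer (D : Set G)) K := by
  have := Fact.mk hr
  have h3 := cube_of_pgroup hr r3 hD
  refine (c.str_sub (c.normalizer_ne_top' h1 h3) hx).resolve_right fun ⟨K, M, h⟩ => ?_
  obtain ⟨S, _, p, hS, π, hπ, hk⟩ := h.sf
  exact center_ne_bot_of_nil (nil_of_pgroup hD) h1 (c.odd_triv hS π hπ
    (fun g e g3 => Subtype.ext (h.cube _ ((hk _).1 e) (congrArg Subtype.val g3)))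
    (abel_center D) (le_norm_center h.le')
    (odd_of_le (IsPGroup.odd_card hD (hr.odd_of_ne_two r2)) inf_le_left) fun b hb => h3 b hb.1)

theorem Ctx.norm_odd_sol (c : Ctx x s V) {r : ℕ} (hr : r.Prime) (r2 : r ≠ 2) (r3 : r ≠ 3)
    {D : Subgroup G} (hD : IsPGroup r D) (h1 : D ≠ ⊥) :
    Group.IsSolvable (normalizer (D : Set G)) := by
  by_cases h : ∀ b ∈ normalizer (D : Set G), b ^ 3 = 1 → b = 1
  · exact solv3 c.t3.five h
  push Not at h
  obtain ⟨y, hy, y3, y1⟩ := h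
  obtain ⟨g, c'⟩ := c.of_cube y1 y3
  obtain ⟨K, h⟩ := c'.norm_odd_TI hr r2 r3 hD h1 hy
  exact h.sol c'.t3

theorem Ctx.norm_odd (c : Ctx x s V) {r : ℕ} (hr : r.Prime) (r2 : r ≠ 2) (r3 : r ≠ 3)
    {D : Subgroup G} (hD : IsPGroup r D) (h1 : D ≠ ⊥) :
    Group.IsSolvable (normalizer (D : Set G)) ∧
      (x ∈ normalizer (D : Set G) → ∃ K, TI x (normalizer (D : Set G)) K) :=
  ⟨c.norm_odd_sol hr r2 r3 hD h1, c.norm_odd_TI hr r2 r3 hD h1⟩

/-- `P` is an `A`-invariant `r`-subgroup. -/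
def InvP {G : Type*} [Group G] (r : ℕ) (A P : Subgroup G) : Prop :=
  IsPGroup r P ∧ A ≤ normalizer (P : Set G)

/-- `P` is a maximal `A`-invariant `r`-subgroup. -/
def MaxP {G : Type*} [Group G] (r : ℕ) (A P : Subgroup G) : Prop :=
  InvP r A P ∧ ∀ Q, InvP r A Q → P ≤ Q → Q = P

theorem InvP.exists_max {G : Type*} [Group G] [Finite G] {r : ℕ} {A P : Subgroup G}
    (h : InvP r A P) : ∃ Q, P ≤ Q ∧ MaxP r A Q := exists_maximal_ge h

theorem InvP.smul {G : Type*} [Group G] {r : ℕ} {A P : Subgroup G} (h : InvP r A P) {g : G}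
    (hg : g ∈ centralizer (A : Set G)) : InvP r A (conj g • P) :=
  ⟨IsPGroup.conj_smul h.1 g, conj_smul_of_cent hg ▸ le_norm_smul h.2 g⟩

theorem MaxP.smul {G : Type*} [Group G] {r : ℕ} {A P : Subgroup G} (h : MaxP r A P) {g : G}
    (hg : g ∈ centralizer (A : Set G)) : MaxP r A (conj g • P) :=
  ⟨h.1.smul hg, fun Q hQ e => conj_smul_eq_iff_eq_inv.1
    (h.2 _ (hQ.smul (inv_mem hg)) (conj_smul_le_iff_le_inv.1 e)) ▸ by rw [inv_inv]⟩

/-- Maximal invariant odd subgroups which intersect are conjugate. -/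
theorem Ctx.ODD (c : Ctx x s V) {r : ℕ} (hr : r.Prime) (r2 : r ≠ 2) (r3 : r ≠ 3) {A : Subgroup G}
    (hA : IsPGroup 2 A) {a b : G} (ha : a ∈ A) (hb : b ∈ A) (aa : a * a = 1) (bb : b * b = 1)
    (cab : Commute a b) (a1 : a ≠ 1) (b1 : b ≠ 1) (ab : a ≠ b)
    (cA : ∀ g ∈ A, Commute g a ∧ Commute g b)
    (hyp : ∀ v, v = a ∨ v = b ∨ v = a * b → ∀ R, InvP r A R → R ≤ centralizer {v} →
      ∃ O, R ≤ O ∧ O ≤ centralizer {v} ∧
        (∀ g ∈ centralizer {v}, ∀ o ∈ O, g * o * g⁻¹ ∈ O) ∧ Odd (Nat.card O))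
    {P P' : Subgroup G} (hP : MaxP r A P) (hP' : MaxP r A P') (h : P ⊓ P' ≠ ⊥) :
    ∃ g ∈ centralizer (A : Set G), P' = MulAut.conj g • P := by
  have := Fact.mk hr
  have := factTwo
  induction hn : Nat.card G - Nat.card ↥(P ⊓ P') using Nat.strong_induction_on
    generalizing P P' with | _ n ih => ?_
  by_cases e : P = P'
  · exact ⟨1, one_mem _, by rw [conj_one_smul, e]⟩
  have hD : InvP r A (P ⊓ P') := ⟨hP.1.1.to_le inf_le_left, le_norm_inf hP.1.2 hP'.1.2⟩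
  have hs := c.norm_odd_sol hr r2 r3 hD.1 h
  have hE : klein a b aa bb cab ≤ A := fun g hg => by
    rcases mem_klein.1 hg with rfl | rfl | rfl | rfl
    exacts [one_mem _, ha, hb, mul_mem ha hb]
  have aE : IsMulCommutative (klein a b aa bb cab) := abel_of_comm fun g hg k hk => by
    rcases mem_klein.1 hk with e | e | e | e <;> rw [e]
    exacts [Commute.one_right g, (cA g (hE hg)).1, (cA g (hE hg)).2,
      (cA g (hE hg)).1.mul_right (cA g (hE hg)).2]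
  have cop : ∀ {O B : Subgroup G}, Odd (Nat.card O) → B ≤ A → (Nat.card O).Coprime (Nat.card B) :=
    fun ho hB => by
      obtain ⟨k, hk⟩ := IsPGroup.iff_card.1 (hA.to_le hB)
      rw [hk]; exact (Nat.coprime_two_right.2 ho).pow_right k
  have nO := le_norm_core {2}ᶜ (le_norm_norm hD.2)
  have sO := sol_of_le hs (core_le {2}ᶜ _)
  have key : ∀ {Q}, InvP r A Q → ∃ S, IsSylowIn r S (O[{2}ᶜ] N[P ⊓ P']) ∧ A ≤ N[S] ∧
      Q ⊓ N[P ⊓ P'] ≤ S := fun {Q} hQ => by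
    have hB : InvP r A (Q ⊓ N[P ⊓ P']) :=
      ⟨hQ.1.to_le inf_le_left, le_norm_inf hQ.2 (le_norm_norm hD.2)⟩
    refine coprime_Sylow_subset nO (cop (odd_core _) le_rfl) sO (coprime_abelian_gen_cent1
      aE (Abelem.not_cyclic (p := 2) ⟨aE, fun g hg => by rw [pow_two, klein_sq hg]⟩ (by
        rw [card_klein a1 b1 ab]; rfl)) (hE.trans hB.2)
      (cop (IsPGroup.odd_card hB.1 (hr.odd_of_ne_two r2)) hE) (sol_of_pgroup hB.1)
      fun v hv v1 => ?_) hB.1 hB.2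
    have hv' := (mem_klein.1 hv).resolve_left v1
    obtain ⟨O, h1, h2, h3, h4⟩ := hyp v hv' (Q ⊓ N[P ⊓ P'] ⊓ C₁[v])
      ⟨hB.1.to_le inf_le_left, le_norm_inf hB.2 (le_norm_cent1 fun g hg => mem_cent1_iff.2
        (by rcases hv' with rfl | rfl | rfl
            exacts [(cA g hg).1, (cA g hg).2, (cA g hg).1.mul_right (cA g hg).2]))⟩ inf_le_right
    refine le_trans ?_ (p'core_cent_pgroup (p := 2) (R := zpowers v)
      (zpowers_le.2 (hD.2 (hE hv))) (hA.to_le (zpowers_le.2 (hE hv))) hs)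
    rw [cent_zpowers]
    exact le_core_of_le (h1.trans (le_core_of_norm h2 (fun g hg => mem_norm_of_conj (h3 g hg))
      (isPi_of_odd h4))) (inf_le_inf_right _ inf_le_right) inf_le_right
  obtain ⟨S, hS, nS, lS⟩ := key hP.1
  obtain ⟨S', hS', nS', lS'⟩ := key hP'.1
  obtain ⟨g, hg, eg⟩ := coprime_Sylow_trans nO (cop (odd_core _) le_rfl) sO hS' nS' hS nS
  obtain ⟨Q, hSQ, hQ⟩ := InvP.exists_max (⟨hS.isPGroup, nS⟩ : InvP r A S)
  have lt : ∀ {R T : Subgroup G}, MaxP r A R → P ⊓ P' < R → R ⊓ N[P ⊓ P'] ≤ T →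
      Nat.card G - Nat.card ↥(R ⊓ T) < n ∧ R ⊓ T ≠ ⊥ := fun {R T} hR h1 h2 => by
    have h3 := (lt_inf_norm_of_nil (nil_of_pgroup hR.1.1) h1).trans_le (le_inf inf_le_left h2)
    have h4 := card_lt_of_lt h3
    have h5 := (R ⊓ T).card_le_card_group
    exact ⟨by omega, ne_bot_of_gt h3⟩
  have k1 := lt hP (lt_of_le_of_ne inf_le_left fun e' => e
    (hP.2 _ hP'.1 (inf_eq_left.1 e')).symm) (lS.trans hSQ)
  have k2 := lt hP' (lt_of_le_of_ne inf_le_right fun e' => e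
    (hP'.2 _ hP.1 (inf_eq_right.1 e'))) (lS'.trans (eg.le.trans (conj_smul_mono g hSQ)))
  obtain ⟨g1, h1, e1⟩ := ih _ k1.1 hP hQ k1.2 rfl
  obtain ⟨g2, h2, e2⟩ := ih _ k2.1 hP' (hQ.smul hg.2) k2.2 rfl
  refine ⟨g2⁻¹ * g * g1, mul_mem (mul_mem (inv_mem h2) hg.2) h1, ?_⟩
  rw [map_mul, map_mul, mul_smul, mul_smul, ← e1, e2, conj_inv_smul_smul]

end Cfsg.Agent.L0.C12
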