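import Cfsg.Agent.L0.C12Fpf
import Cfsg.Agent.H7.BG.S3a
import Cfsg.Agent.H3.PSL2Cent
import Cfsg.Agent.H3.FrobCompl

/-!
# Type II subgroups: the lemmas `L0` and `Lodd`
-/

set_option autoImplicit false
set_option linter.dupNamespace false

namespace Cfsg.Agent.L0.C12

open Subgroup Cfsg.Agent.L0.SC3 Cfsg.Agent.H1.T3 Cfsg.Agent.H7
open MulAut (conj)
open scoped commutatorElement Pointwise MatrixGroups

universe u

/-- The facts needed on `L₂(7)` and `L₂(13)`. -/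
structure SF (S : Type) [Group S] (p : ℕ) : Prop where
  simple : IsSimpleGroup S
  card : p = 7 ∧ Nat.card S = 168 ∨ p = 13 ∧ Nat.card S = 1092
  ex : ∃ x s g : S, x ≠ 1 ∧ x ^ 3 = 1 ∧ s * x * s⁻¹ = x⁻¹ ∧ (g * s * g⁻¹ * x) ^ 3 = 1 ∧
    g * s * g⁻¹ * x ≠ 1 ∧ x⁻¹ * (g * s * g⁻¹ * x * (g * s * g⁻¹)⁻¹) ≠ 1 ∧
    (x⁻¹ * (g * s * g⁻¹ * x * (g * s * g⁻¹)⁻¹)) ^ 2 = 1

theorem sf_mk_eq {p : ℕ} [Fact p.Prime] (A B : SL(2, ZMod p)) :
    QuotientGroup.mk' (center SL(2, ZMod p)) A = QuotientGroup.mk' _ B ↔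
      ∃ c : ZMod p, c ^ 2 = 1 ∧ B.1 = c • A.1 := H3.psl_mk_eq_iff A B

/-- A matrix of determinant one. -/
def sfm (p : ℕ) (a b c d : ZMod p) (h : a * d - b * c = 1) : SL(2, ZMod p) :=
  ⟨!![a, b; c, d], by rw [Matrix.det_fin_two_of, h]⟩

instance instFactC12Seven : Fact (Nat.Prime 7) := ⟨by norm_num⟩

instance instFactC12Thirteen : Fact (Nat.Prime 13) := ⟨by norm_num⟩

theorem sf7 : SF L7 7 := by
  refine ⟨Matrix.ProjectiveSpecialLinearGroup.rank_two_simple (by simp), Or.inl ⟨rfl, card_psl27⟩, ?_⟩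
  refine ⟨QuotientGroup.mk' _ (sfm _ 0 1 6 6 rfl),
    QuotientGroup.mk' _ (sfm _ 1 4 3 6 rfl),
    QuotientGroup.mk' _ (sfm _ 0 1 6 4 rfl), ?_⟩
  simp only [← map_mul, ← map_pow, ← map_inv, ← map_one (QuotientGroup.mk' (center SL(2, ZMod 7))),
    sf_mk_eq, ne_eq]
  decide +kernel

theorem card_L13 : Nat.card L13 = 1092 := by
  have := H3.card_psl2_mul (F := ZMod 13)
  rw [ZMod.card, show Nat.gcd (13 - 1) 2 = 2 from rfl] at this
  change Nat.card L13 * 2 = _ at this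
  omega

theorem sf13 : SF L13 13 := by
  refine ⟨Matrix.ProjectiveSpecialLinearGroup.rank_two_simple (by simp), Or.inr ⟨rfl, card_L13⟩, ?_⟩
  refine ⟨QuotientGroup.mk' _ (sfm _ 0 1 12 12 rfl),
    QuotientGroup.mk' _ (sfm _ 0 5 5 0 rfl),
    QuotientGroup.mk' _ (sfm _ 0 2 6 4 rfl), ?_⟩
  simp only [← map_mul, ← map_pow, ← map_inv, ← map_one (QuotientGroup.mk' (center SL(2, ZMod 13))),
    sf_mk_eq, ne_eq]
  decide +kernel

theorem ex6_L13 : ∃ g : L13, (g ^ 2) ^ 3 = 1 ∧ g ^ 2 ≠ 1 ∧ g ^ 3 ≠ 1 := by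
  refine ⟨QuotientGroup.mk' _ (sfm _ 0 1 12 4 rfl), ?_⟩
  simp only [← map_pow, ← map_one (QuotientGroup.mk' (center SL(2, ZMod 13))), sf_mk_eq, ne_eq]
  decide +kernel

theorem SF.prime {S : Type} [Group S] {p : ℕ} (h : SF S p) : p.Prime := by
  rcases h.card with ⟨rfl, -⟩ | ⟨rfl, -⟩ <;> norm_num

theorem SF.ge {S : Type} [Group S] {p : ℕ} (h : SF S p) : 7 ≤ p := by
  rcases h.card with ⟨rfl, -⟩ | ⟨rfl, -⟩ <;> norm_num

theorem SF.finite {S : Type} [Group S] {p : ℕ} (h : SF S p) : Finite S :=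
  Nat.finite_of_card_ne_zero (by rcases h.card with ⟨-, e⟩ | ⟨-, e⟩ <;> omega)

section
variable {G : Type*} [Group G]

theorem TII.sf {x : G} {L K M : Subgroup G} (c : TII x L K M) :
    ∃ (S : Type) (_ : Group S) (p : ℕ), SF S p ∧ Quo S K M :=
  c.quo.elim (fun q => ⟨_, _, 7, sf7, q⟩) fun q => ⟨_, _, 13, sf13, q⟩

theorem zpowers_three {x : G} (h : x ^ 3 = 1) : IsPGroup 3 (zpowers x) :=
  IsPGroup.of_card_dvd_pow (n := 1) (by
    rw [Nat.card_zpowers]; exact orderOf_dvd_of_pow_eq_one h)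

theorem cube_of_pgroup [Finite G] {p : ℕ} (hp : p.Prime) (h3 : p ≠ 3) {P : Subgroup G}
    (hP : IsPGroup p P) : ∀ b ∈ P, b ^ 3 = 1 → b = 1 := fun b hb e => by
  obtain ⟨k, hk⟩ := hP ⟨b, hb⟩
  exact H3.pow_eq_one_of_coprime
    (Nat.Coprime.pow_left k ((Nat.coprime_primes hp Nat.prime_three).2 h3))
    (congrArg Subtype.val hk) e

/-- Lifting an element of order three. -/
theorem lift3 {S : Type*} [Group S] [Finite G] (π : G →* S)
    (hk : ∀ g, π g = 1 → g ^ 3 = 1 → g = 1) {g : G} (h : π g ^ 3 = 1) :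
    ∃ y ∈ zpowers g, y ^ 3 = 1 ∧ π y = π g := by
  have h3 := not_dvd_card_iff.2 (show ∀ b ∈ π.ker, b ^ 3 = 1 → b = 1 from hk)
  have h1 := pow_card_eq_one_of_mem (show g ^ 3 ∈ π.ker by rw [MonoidHom.mem_ker, map_pow, h])
  generalize Nat.card π.ker = n at h1 h3
  refine ⟨g ^ (n * n), pow_mem (mem_zpowers g) _, ?_, ?_⟩
  · rw [← pow_mul, show n * n * 3 = 3 * n * n by ring, pow_mul, pow_mul, h1, one_pow]
  · rw [map_pow, ← Nat.div_add_mod (n * n) 3, pow_add, pow_mul, h, one_pow, one_mul,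
      show n * n % 3 = 1 by
        rw [Nat.mul_mod]; rcases (by omega : n % 3 = 1 ∨ n % 3 = 2) with e | e <;> rw [e], pow_one]

/-- An invariant Sylow subgroup outside the kernel. -/
theorem SF.exists_theta [Finite G] {S : Type} [Group S] {p : ℕ} (h : SF S p) {x : G}
    (x3 : x ^ 3 = 1) {K M : Subgroup G} (q : Quo S K M) (hKM : K ≤ M)
    (hK : ∀ b ∈ K, b ^ 3 = 1 → b = 1) (hx : x ∈ M) :
    ∃ P ≤ M, IsPGroup p P ∧ x ∈ N[P] ∧ ¬ P ≤ K := by
  obtain ⟨π, hπ, hk⟩ := q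
  have := h.finite
  have := Fact.mk h.prime
  have := Fact.mk Nat.prime_three
  have h7 := h.ge
  have hp := zpowers_three (x := π ⟨x, hx⟩) (by
    rw [← map_pow, show (⟨x, hx⟩ : M) ^ 3 = 1 from Subtype.ext x3, map_one])
  obtain ⟨Q, hQ⟩ := hp.nonempty_fixed_point_of_prime_not_dvd_card (Sylow p S) (by
    obtain ⟨P⟩ : Nonempty (Sylow p S) := inferInstance
    have h1 := card_sylow_modEq_one p S
    have h2 := P.card_dvd_index.trans (P : Subgroup S).index_dvd_card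
    generalize Nat.card (Sylow p S) = n at h1 h2
    have k : ∀ N p : ℕ, N ≠ 0 → (∀ n ∈ N.divisors, n % p = 1 % p → ¬ 3 ∣ n) → n ∣ N →
        n ≡ 1 [MOD p] → ¬ 3 ∣ n := fun N p a b c d => b n (Nat.mem_divisors.2 ⟨c, a⟩) d
    rcases h.card with ⟨rfl, e⟩ | ⟨rfl, e⟩ <;>
      exact k _ _ (by norm_num) (by decide +kernel) (e ▸ h2) h1)
  have hxQ : π ⟨x, hx⟩ ∈ normalizer (Q : Set S) :=
    Sylow.smul_eq_iff_mem_normalizer.mp (hQ ⟨_, mem_zpowers _⟩)
  let f : PHom G S := ⟨M, π⟩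
  have fk : f.ker = K := by
    ext g
    exact ⟨fun ⟨a, ha, e⟩ => e ▸ (hk a).1 ha, fun hg => ⟨⟨g, hKM hg⟩, (hk _).2 hg, rfl⟩⟩
  have fM : f.im M = ⊤ := by
    change Subgroup.map _ _ = _
    rw [show M.subgroupOf f.dom = ⊤ from subgroupOf_self M, map_top_of_surjective _ hπ]
  have hB : x ∈ N[f.pre Q] := f.mem_norm_pre hx (by rw [PHom.apply_of_mem hx]; exact hxQ)
  obtain ⟨P, hP⟩ := H3.exists_sylow_normalized (zpowers_three x3) (zpowers_le.2 hB)
    (not_dvd_card_iff.2 fun b ⟨a, ha, e⟩ b3 => hK b (e ▸ (hk a).1 (cube_of_pgroup h.prime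
      (by omega) Q.2 _ ha (by
        rw [← map_pow, show a ^ 3 = 1 from Subtype.ext (e ▸ b3 :), map_one]))) b3) p
  have hS := isSylowIn_map_subtype P
  refine ⟨_, hS.le.trans (f.pre_le_dom _), hS.isPGroup, hP (mem_zpowers x), fun e => hS.not_dvd
    (dvd_trans ?_ (relIndex_dvd_of_le_left' e _))⟩
  rw [← fk, f.relIndex_ker_pre (A := M) (fM ▸ le_top)]
  exact Q.dvd_card_of_dvd_card (by
    rcases h.card with ⟨rfl, e'⟩ | ⟨rfl, e'⟩ <;> rw [e'] <;> norm_num)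

theorem TII.exists_theta [Finite G] {x : G} (h : T3 x) {L K M : Subgroup G} (c : TII x L K M) :
    ∃ p, p.Prime ∧ 7 ≤ p ∧ ∃ P ≤ M, IsPGroup p P ∧ x ∈ N[P] ∧ ¬ P ≤ K := by
  obtain ⟨S, _, p, s, q⟩ := c.sf
  exact ⟨p, s.prime, s.ge, s.exists_theta h.cube q c.le c.cube c.mem⟩

theorem TII.max' [Finite G] {x : G} {L K M : Subgroup G} (c : TII x L K M) {C : Subgroup G}
    (hC : L ≤ N[C]) (h : ¬ L ⊓ C ≤ K) : x ∈ C := by
  by_contra hx
  exact h (c.max _ inf_le_left (fun l hl n hn => conj_mem_of_norm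
    (le_norm_inf (le_norm_self L) hC hl) hn) fun e => hx e.2)

/-- A `2`-section of a type II subgroup on which `x` is fixed point free is trivial. -/
theorem TII.L0 [Finite G] {x : G} (h : T3 x) {L K M : Subgroup G} (c : TII x L K M)
    {D0 D1 : Subgroup G} (f : Fpf x D1 D0) (h2 : IsPGroup 2 D1)
    (n0 : ∀ l ∈ L, ∀ d ∈ D0, l * d * l⁻¹ ∈ D0) (n1 : ∀ l ∈ L, ∀ d ∈ D1, l * d * l⁻¹ ∈ D1) :
    D1 ≤ D0 := by
  obtain ⟨p, hp, h7, P, hPM, hP, hx, hPK⟩ := c.exists_theta h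
  have := Fact.mk hp
  have := factTwo
  have m0 : L ≤ N[D0] := fun l hl => mem_norm_of_conj (n0 l hl)
  have m1 : L ≤ N[D1] := fun l hl => mem_norm_of_conj (n1 l hl)
  have hPL := hPM.trans c.le'
  have xL := c.le' c.mem
  have ho := IsPGroup.odd_card hP (hp.odd_of_ne_two (by omega))
  have i : Inv x (D1 ⊔ P) := ⟨fun b => conj_mem_of_norm (le_norm_sup (zpowers_le.2 (m1 xL))
    (zpowers_le.2 hx) (mem_zpowers x)), not_dvd_card_iff.1 fun e =>
    (Nat.prime_three.dvd_mul.1 (e.trans (card_sup_dvd (hPL.trans m1)))).elim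
      (not_dvd_card_iff.2 f.inv.cube) (not_dvd_card_iff.2 (cube_of_pgroup hp (by omega) hP))⟩
  have f' : Fpf x (D1 ⊔ P) D0 := ⟨f.cube, f.ne, i, f.le.trans le_sup_left,
    fun b hb d => conj_mem_of_norm (sup_le (fun a ha => mem_norm_of_conj (f.nD a ha))
      (hPL.trans m0) hb), f.xD, fun b hb hc => f.fix b (by
      have h1 := h.sq_of_commute i.cube hb hc
      obtain ⟨d, hd, a, ha, rfl⟩ := (mem_sup_of_norm (hPL.trans m1)).1 hb
      refine mul_mem hd (mem_of_odd (ho.of_dvd_nat (orderOf_dvd_card_of_mem ha)) ?_)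
      rw [show a * a = (d * (a * d * a⁻¹))⁻¹ * (d * a * (d * a)) by group, h1, mul_one]
      exact inv_mem (mul_mem hd (n1 a (hPL ha) d hd))) hc⟩
  have k := c.max' (C := centMod D1 D0) (le_norm_centMod m1 m0) fun e => hPK (le_trans
    (le_inf hPL fun a ha => mem_centMod.2 ⟨m1 (hPL ha), m0 (hPL ha), fun u hu => f'.commute_of_coprime
      (mem_sup_right ha) (mem_sup_left hu) (by rw [pow_card_eq_one_of_mem ha]; exact one_mem _)
      (by rw [pow_card_eq_one_of_mem hu]; exact one_mem _) (by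
        obtain ⟨k, hk⟩ := IsPGroup.iff_card.1 h2
        rw [hk]; exact (Nat.coprime_two_right.2 ho).pow_right k)⟩) e)
  exact fun d hd => f.fix'' hd (k.2.2 d hd)

theorem ringQ {H R : Type*} [Group H] [Ring R] (ρ : H →* R) {y z : H}
    (h1 : 1 + ρ y + ρ y⁻¹ = 0) (h2 : 1 + ρ z + ρ z⁻¹ = 0) (h3 : 1 + ρ (z * y) + ρ (z * y)⁻¹ = 0)
    (n : ℕ) : ρ ((y⁻¹ * z) ^ n) = 1 + n • (ρ (y⁻¹ * z) - 1) := by
  have e1 : ρ y⁻¹ = -1 - ρ y := by grind
  have e2 : ρ z⁻¹ = -1 - ρ z := by grind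
  have e : ρ (y⁻¹ * z) + ρ (y⁻¹ * z)⁻¹ = 2 := by
    rw [mul_inv_rev, map_mul, map_mul, e1, e2] at h3
    rw [mul_inv_rev, inv_inv, map_mul, map_mul, e1, e2, ← sub_eq_zero, ← neg_eq_zero, ← h3,
      ← one_add_one_eq_two]
    noncomm_ring
  have e' : ρ (y⁻¹ * z) * ρ (y⁻¹ * z) = 2 * ρ (y⁻¹ * z) - 1 := by
    rw [← e, add_mul, ← map_mul ρ (y⁻¹ * z)⁻¹, inv_mul_cancel, map_one, add_sub_cancel_right]
  induction n with
  | zero => simp
  | succ n ih =>
    rw [pow_succ, map_mul, ih, add_mul, smul_mul_assoc, sub_mul, e', succ_nsmul, two_mul, one_mul,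
      show ∀ a : R, a + a - 1 - a = a - 1 from fun a => by abel]
    abel

open scoped IsMulCommutative in
/-- Three elements with trivial norms give a unipotent element. -/
theorem normQ [Finite G] {W : Subgroup G} (hW : IsMulCommutative W) {y z : G} (hy : y ∈ N[W])
    (hz : z ∈ N[W]) (h : ∀ e, e = y ∨ e = z ∨ e = z * y → ∀ w ∈ W,
      w * (e * w * e⁻¹) * (e⁻¹ * w * e) = 1) : (y⁻¹ * z) ^ Nat.card W ∈ C[W] := by
  let ρ : N[W] →* AddMonoid.End (Additive W) :=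
    { toFun := fun g => H3.conjAddHom (g : G) fun _ => conj_mem_of_norm g.2
      map_one' := AddMonoidHom.ext fun v => H3.additive_ext (by
        change (1 : G) * (v.toMul : G) * (1 : G)⁻¹ = v.toMul
        group)
      map_mul' := fun a b => AddMonoidHom.ext fun v => H3.additive_ext (by
        change ((a : G) * b) * (v.toMul : G) * ((a : G) * b)⁻¹
          = a * (b * (v.toMul : G) * (b : G)⁻¹) * (a : G)⁻¹
        group) }
  have k : ∀ e : N[W], (e : G) = y ∨ (e : G) = z ∨ (e : G) = z * y → 1 + ρ e + ρ e⁻¹ = 0 :=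
    fun e he => AddMonoidHom.ext fun v => H3.additive_ext (by
      have := h e he _ v.toMul.2
      rw [show ∀ a b : G, a⁻¹ * b * a = a⁻¹ * b * a⁻¹⁻¹ from fun _ _ => by rw [inv_inv]] at this
      exact this)
  have := ringQ ρ (k ⟨y, hy⟩ (Or.inl rfl)) (k ⟨z, hz⟩ (Or.inr (Or.inl rfl)))
    (k _ (Or.inr (Or.inr rfl))) (Nat.card W)
  refine mem_cent_of_conj_eq fun w hw => ?_
  have e := congrArg (fun f : AddMonoid.End (Additive W) => f (Additive.ofMul ⟨w, hw⟩)) this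
  change _ = Additive.ofMul (⟨w, hw⟩ : W) + Nat.card (Additive W) • (_ : Additive W) at e
  rw [card_nsmul_eq_zero', add_zero] at e
  exact congrArg (fun a : Additive W => (a.toMul : G)) e

end

/-- An abelian subgroup of order prime to six normalised by a covering group of `L₂(p)`. -/
theorem Ctx.odd_triv {G : Type u} [Group G] [Finite G] {x s : G} {V : Subgroup G} (c : Ctx x s V)
    {S : Type} [Group S] {p : ℕ} (h : SF S p) {M : Subgroup G} (π : M →* S)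
    (hπ : Function.Surjective π) (hk : ∀ g, π g = 1 → g ^ 3 = 1 → g = 1) {W : Subgroup G}
    (hW : IsMulCommutative W) (hn : M ≤ N[W]) (ho : Odd (Nat.card W))
    (h3 : ∀ b ∈ W, b ^ 3 = 1 → b = 1) : W = ⊥ := by
  have fp : ∀ e : M, e ≠ 1 → e ^ 3 = 1 → Fpf (e : G) W ⊥ := fun e e1 e3 =>
    have t := c.t3.of_cube (y := (e : G)) (fun h => e1 (Subtype.ext h)) (congrArg Subtype.val e3)
    ⟨t.cube, t.ne, ⟨fun _ => conj_mem_of_norm (hn e.2), h3⟩, bot_le, by simp, by simp,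
      fun b hb hc => eq_one_of_odd' (ho.of_dvd_nat (orderOf_dvd_card_of_mem hb))
        (t.sq_of_commute h3 hb hc)⟩
  obtain ⟨x0, s0, g0, e1, e2, e3, e4, e5, e6, e7⟩ := h.ex
  obtain ⟨x1, rfl⟩ := hπ x0
  obtain ⟨y, -, y3, hy⟩ := lift3 π hk e2
  rw [← hy] at e1 e2 e3 e4 e5 e6 e7
  have y1 : y ≠ 1 := fun e => e1 (by rw [e, map_one])
  obtain ⟨s1, rfl⟩ := hπ s0
  obtain ⟨g, rfl⟩ := hπ g0
  obtain ⟨f, hf, ef⟩ := conj_of_coset (E := π.ker) hk (b := y⁻¹)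
    (fun e he => π.normal_ker.conj_mem e he _) (by rw [inv_pow, y3, inv_one])
    (y := s1 * y * s1⁻¹) (by rw [conj_pow, y3]; simp)
    (by rw [MonoidHom.mem_ker, map_mul, map_mul, map_mul, map_inv, e3]; simp)
  obtain ⟨t, ht, pt⟩ : ∃ t : M, t * y * t⁻¹ = y⁻¹ ∧ π t = π s1 := ⟨f⁻¹ * s1, by
    rw [show f⁻¹ * s1 * y * (f⁻¹ * s1)⁻¹ = f⁻¹ * (s1 * y * s1⁻¹) * f by group, ef]; group,
    by rw [map_mul, map_inv, hf]; simp⟩
  obtain ⟨l, c'⟩ := c.of_cube (y := (y : G)) (fun h => y1 (Subtype.ext h)) (congrArg Subtype.val y3)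
  have tt : t * t = 1 := Subtype.ext (c'.sq_of_inverts (congrArg Subtype.val ht))
  rw [← pt, ← map_inv π g, ← map_mul, ← map_mul] at e4 e5 e6 e7
  have uu : g * t * g⁻¹ * (g * t * g⁻¹) = 1 := conj_sq tt g
  generalize g * t * g⁻¹ = u at e4 e5 e6 e7 uu
  rw [← map_mul] at e4 e5
  obtain ⟨y', hy', y3', py'⟩ := lift3 π hk e4
  have b6 : (u * y) ^ 6 = 1 := Subtype.ext ((c.t3.of_cube (y := (y' : G))
    (fun e => e5 (by rw [← py', show y' = 1 from Subtype.ext e, map_one]))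
    (congrArg Subtype.val y3')).six _ (by
      obtain ⟨k, rfl⟩ := hy'
      exact congrArg Subtype.val ((Commute.refl (u * y)).zpow_left k).eq))
  have eb : u * y * u⁻¹ * y = (u * y) ^ 2 := by
    rw [inv_eq_of_mul_eq_one_right uu, pow_two, mul_assoc]
  have k := normQ hW (hn y.2) (hn (u * y * u⁻¹).2) (by
    rintro _ (rfl | rfl | rfl) w hw
    · exact (fp y y1 y3).norm hw
    · exact (fp _ (by simpa using y1) (by rw [conj_pow, y3]; simp)).norm hw
    · exact (fp (u * y * u⁻¹ * y) (fun e => e5 (H3.pow_eq_one_of_coprime (m := 2) (n := 3)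
        (by norm_num) (by rw [← map_pow, ← eb, e, map_one]) e4))
        (by rw [eb, ← pow_mul, b6])).norm hw)
  have := h.simple
  have hC : ((C[W]).subgroupOf M).Normal := normal_subgroupOf (le_norm_cent hn)
  rcases (hC.map π hπ).eq_bot_or_eq_top with e | e
  · refine absurd (H3.pow_eq_one_of_coprime (Nat.coprime_two_left.2 ho) e7 ?_) e6
    rw [← mem_bot, ← e, ← map_inv, ← map_inv, ← map_mul, ← map_mul, ← map_mul, ← map_pow]
    exact ⟨_, k, rfl⟩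
  · obtain ⟨a, ha, ea⟩ : π y ∈ ((C[W]).subgroupOf M).map π := e ▸ mem_top _
    obtain ⟨a', ha', a3, pa⟩ := lift3 π hk (g := a) (by rw [ea, e2])
    refine eq_bot_iff.2 fun w hw => (fp a' (fun e => e1 (by rw [← ea, ← pa, e, map_one])) a3).fix
      w hw (comm_of_mem_cent (zpowers_le.2 ha ha') hw).symm

/-- In a type II subgroup `K` is a `2`-group. -/
theorem Ctx.Lodd {G : Type u} [Group G] [Finite G] {x s : G} {V : Subgroup G} (c : Ctx x s V)
    {L K M : Subgroup G} (h : TII x L K M) : IsPGroup 2 K := by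
  refine IsPGroup.of_card (Nat.eq_prime_pow_of_unique_prime_dvd Nat.card_pos.ne'
    fun {r} hr hd => by_contra fun r2 => ?_)
  have := Fact.mk hr
  obtain ⟨S, _, p, hS, π, hπ, hk⟩ := h.sf
  obtain ⟨R, hR⟩ := H9.exists_isSylowIn r K
  refine center_ne_bot_of_nil (nil_of_pgroup hR.isPGroup) (hR.ne_bot hd)
    (c.odd_triv hS (M := M ⊓ N[R]) (π.comp (inclusion inf_le_left)) (fun a => ?_)
      (fun g e g3 => Subtype.ext (h.cube _ ((hk _).1 e) (congrArg Subtype.val g3)))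
      (abel_center R) (le_norm_center inf_le_right)
      (odd_of_le (IsPGroup.odd_card hR.isPGroup (hr.odd_of_ne_two r2)) inf_le_left)
      fun b hb => h.cube b (hR.le hb.1))
  obtain ⟨m, rfl⟩ := hπ a
  obtain ⟨l, hl, e⟩ := hR.frattini (g := m) (mem_norm_of_conj (h.nK m (h.le' m.2)))
  refine ⟨⟨l * m, mul_mem (h.le hl) m.2, e⟩, ?_⟩
  change π (⟨l, h.le hl⟩ * m) = _
  rw [map_mul, (hk _).2 hl, one_mul]

end Cfsg.Agent.L0.C12
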