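import Cfsg.Agent.H7.B24L

/-! Existence of the list of blocks and the application of the search. -/

set_option autoImplicit false

namespace Cfsg.Agent.H7.B24

open Cfsg Cfsg.Agent.H3 Cfsg.Agent.H2.D1 Finset
open Cfsg.Agent.H9.Tri (D1 T TyA TyB bl tri' T_eq bl_of_D1 bl_of_not bl_eq self_mem_bl cj dg_cj)

variable {G : Type*} [Group G] [Fintype G] {x w : G} {F : Finset (IrrCharacter G)}
  {bs : List (List (IrrCharacter G))}

theorem dg_one : dg (triv : IrrCharacter G) = 1 := by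
  have : ((dg (triv : IrrCharacter G) : ℕ) : ℂ) = 1 := (dg_eq (triv : IrrCharacter G)).symm
  exact_mod_cast this

theorem exists_BL (D : Data G x w) (hF : ∀ ψ ∈ F, bl ψ ⊆ F) : ∃ bs, BL F bs := by
  classical
  let S : Finset (IrrCharacter G) := univ.filter fun ψ => ψ ∉ F ∧ ∃ θ ∈ bl ψ, dg θ ∈ DN
  have key : ∀ t ∈ S.image bl, ∃ b : List (IrrCharacter G), b.Nodup ∧ (∀ ψ, ψ ∈ b ↔ ψ ∈ t) ∧
      ((∃ ψ, ¬ D1 ψ ∧ dg ψ ∈ DN ∧ b = [ψ]) ∨ ∃ c1 c2 c3, b = [c1, c2, c3] ∧ D1 c1 ∧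
      D1 c2 ∧ D1 c3 ∧ dg c1 ≤ dg c2 ∧ (TyA c1 c2 c3 ∨ TyB c1 c2 c3) ∧ ∃ ψ ∈ b, dg ψ ∈ DN) := by
    intro t ht
    obtain ⟨χ, hχ, rfl⟩ := mem_image.1 ht
    obtain ⟨-, θ, h1, h2⟩ := (mem_filter.1 hχ).2
    by_cases hD : D1 χ
    · obtain ⟨c1, c2, c3, a1, a2, a3, a4, a5⟩ := tri' hD
      rw [bl_of_D1 hD] at h1 ⊢
      have d1 := (T_eq hD (show c1 ∈ T χ by simp [a4])).1
      have d2 := (T_eq hD (show c2 ∈ T χ by simp [a4])).1
      have d3 := (T_eq hD (show c3 ∈ T χ by simp [a4])).1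
      rw [a4] at h1 ⊢
      rcases le_total (dg c1) (dg c2) with e | e
      · exact ⟨[c1, c2, c3], by simp [a1, a2, a3], by simp,
          Or.inr ⟨c1, c2, c3, rfl, d1, d2, d3, e, a5, θ, by simpa using h1, h2⟩⟩
      · refine ⟨[c2, c1, c3], by simp [a1.symm, a2, a3], fun ψ => by simp; tauto,
          Or.inr ⟨c2, c1, c3, rfl, d2, d1, d3, e, a5.imp (fun a => ⟨fun g hg => ?_, fun g hg => ?_⟩)
            (fun a => ⟨fun g hg => ?_, fun g hg => ?_⟩), θ, by simp at h1 ⊢; tauto, h2⟩⟩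
        · rw [add_comm, a.1 g hg]
        · exact ⟨(a.2 g hg).1.symm, (a.2 g hg).1.trans (a.2 g hg).2⟩
        · exact ⟨(a.1 g hg).1.symm, (a.1 g hg).1.trans (a.1 g hg).2⟩
        · rw [add_comm (c2.1 g), a.2 g hg]
    · rw [bl_of_not hD] at h1 ⊢
      exact ⟨[χ], by simp, by simp, Or.inl ⟨χ, hD, mem_singleton.1 h1 ▸ h2, rfl⟩⟩
  choose! lst hlst using key
  have mem : ∀ ψ, ψ ∈ ((S.image bl).toList.map lst).flatten ↔ ∃ χ ∈ S, ψ ∈ bl χ := fun ψ => by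
    simp only [List.mem_flatten, List.mem_map, mem_toList]
    constructor
    · rintro ⟨_, ⟨t, ht, rfl⟩, h⟩
      obtain ⟨χ, hχ, rfl⟩ := mem_image.1 ht
      exact ⟨χ, hχ, ((hlst _ ht).2.1 ψ).1 h⟩
    · rintro ⟨χ, hχ, h⟩
      have ht := mem_image_of_mem bl hχ
      exact ⟨_, ⟨_, ht, rfl⟩, ((hlst _ ht).2.1 ψ).2 h⟩
  refine ⟨(S.image bl).toList.map lst, List.nodup_flatten.2 ⟨fun b hb => ?_, ?_⟩,
    fun ψ h1 h2 => (mem ψ).2 ⟨ψ, mem_filter.2 ⟨mem_univ _, h2, ψ, self_mem_bl ψ, h1⟩,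
      self_mem_bl ψ⟩, fun ψ h => ?_, fun b hb => ?_⟩
  · obtain ⟨t, ht, rfl⟩ := List.mem_map.1 hb
    exact (hlst t (mem_toList.1 ht)).1
  · rw [List.pairwise_map]
    refine List.Pairwise.imp_of_mem (fun {s t} hs ht hne ψ h1 h2 => hne ?_) (nodup_toList _)
    rw [mem_toList] at hs ht
    rw [(hlst s hs).2.1] at h1
    rw [(hlst t ht).2.1] at h2
    obtain ⟨χ, -, rfl⟩ := mem_image.1 hs
    obtain ⟨θ, -, rfl⟩ := mem_image.1 ht
    rw [← bl_eq h1, ← bl_eq h2]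
  · obtain ⟨χ, hχ, h⟩ := (mem ψ).1 h
    obtain ⟨h1, θ, h2, h3⟩ := (mem_filter.1 hχ).2
    refine ⟨fun e => h1 (hF ψ e (bl_eq h ▸ self_mem_bl χ)), ?_⟩
    rintro rfl
    rw [← bl_eq h, bl_of_not (by rw [D1, dg_one, D.card]; norm_num), mem_singleton] at h2
    rw [h2, dg_one] at h3
    exact absurd h3 (by decide)
  · obtain ⟨t, ht, rfl⟩ := List.mem_map.1 hb
    exact (hlst t (mem_toList.1 ht)).2.2

/-- Indicator of the exceptional degrees. -/
def Ef (d : ℕ) : ℕ := if (Af d).natAbs = 1 then 1 else 0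

/-- The stored data are correct. -/
def Op.ok (o : Op) : Prop := o.ad = (o.ty.map fun d => Af d * d).sum ∧
  o.cd = (o.ty.map fun d => Cf d * d).sum ∧ o.ac = (o.ty.map fun d => Af d * Cf d).sum ∧
  o.a2 = (o.ty.map fun d => (Af d).natAbs).sum ∧ o.c2 = (o.ty.map fun d => (Cf d).natAbs).sum ∧
  o.ex = (o.ty.map Ef).sum ∧ o.d2 = (o.ty.map fun d => d ^ 2).sum

instance decOk (o : Op) : Decidable o.ok := by unfold Op.ok; infer_instance

/-- The degrees exactly divisible by `9`. -/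
def D9 : List ℕ := [45, 252, 495, 990, 1035, 2772, 3312, 5544, 5796, 6336, 12672, 2277, 4554, 9108,
  11385]

theorem ops_ok : ∀ e ∈ exO, (e.2 ++ restO).Pairwise Rl ∧ ∀ o ∈ e.2 ++ restO, Rl o o ∧ o.ok := by
  decide +kernel

theorem mem_D9 : ∀ d ∈ DN ++ DZ, (3 ∣ 244823040 / d ∧ ¬ 9 ∣ 244823040 / d) ↔ d ∈ D9 := by
  decide +kernel

theorem ex_mem : ∀ d ∈ DN ++ DZ, (Af d).natAbs = 1 → ∃ e ∈ exO, e.1 = d := by decide +kernel

theorem ty1 : ∀ e ∈ exO, ∀ d ∈ DN, ((Af d).natAbs = 1 → d = e.1) →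
    (if d ∈ D9 then [d, d, d] else [d]) ∈ (e.2 ++ restO).map Op.ty := by decide +kernel

theorem ty2 : ∀ e ∈ exO, ∀ a ∈ D9, ∀ b ∈ D9, a ≤ b → a + b ∈ D9 → Af a + Af b = Af (a + b) →
    Cf a + Cf b = Cf (a + b) → (∃ d ∈ [a, b, a + b], d ∈ DN) →
    (∀ d ∈ [a, b, a + b], (Af d).natAbs = 1 → d = e.1) →
    [a, b, a + b] ∈ (e.2 ++ restO).map Op.ty := by decide +kernel

theorem Data.deg' (D : Data G x w) {χ : IrrCharacter G} (h : χ ≠ triv) : dg χ ∈ DN ++ DZ :=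
  List.mem_append.2 (D.deg χ h)

theorem BL.mem_ty (D : Data G x w) (h : BL F bs) {e : ℕ × List Op} (he : e ∈ exO)
    (hE : ∀ ψ : IrrCharacter G, (Af (dg ψ)).natAbs = 1 → dg ψ = e.1) :
    ∀ b ∈ bs, b.map dg ∈ (e.2 ++ restO).map Op.ty := by
  intro b hb
  have k : ∀ ψ ∈ b, D1 ψ ↔ dg ψ ∈ D9 := fun ψ hψ => by
    rw [D1, D.card]
    exact mem_D9 _ (D.deg' (h.out ψ (List.mem_flatten.2 ⟨b, hb, hψ⟩)).2)
  rcases h.ty b hb with ⟨ψ, h1, h2, rfl⟩ | ⟨c1, c2, c3, rfl, d1, d2, d3, h1, h2 | h2, ψ, h3, h4⟩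
  · have := ty1 e he _ h2 (hE ψ)
    rwa [if_neg (mt (k ψ (by simp)).2 h1)] at this
  · have r : ∀ g : G, orderOf g = 23 ∨ orderOf g = 11 → IsPReg 3 g := fun g hg =>
      (isPReg_iff_not_dvd Nat.prime_three).2 (by rcases hg with e | e <;> rw [e] <;> norm_num)
    have e1 := h2.dg
    have e2 : Af (dg c1) + Af (dg c2) = Af (dg c3) := by
      have : (Af (dg c1) : ℂ) + Af (dg c2) = Af (dg c3) := by
        rw [← D.vA, ← D.vA, ← D.vA, ← h2.1 x (r _ (Or.inl D.ox)),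
          ← h2.1 x⁻¹ (r _ (Or.inl ((orderOf_inv x).trans D.ox)))]
        ring
      exact_mod_cast this
    have e3 : Cf (dg c1) + Cf (dg c2) = Cf (dg c3) := by
      have := h2.1 w (r _ (Or.inr D.ow))
      simp only [D.vC] at this
      exact_mod_cast this
    have := ty2 e he _ ((k c1 (by simp)).1 d1) _ ((k c2 (by simp)).1 d2) h1
    rw [e1] at this
    refine this ((k c3 (by simp)).1 d3) e2 e3 ⟨dg ψ, List.mem_map_of_mem (f := dg) h3, h4⟩
      fun d hd => ?_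
    obtain ⟨θ, -, rfl⟩ := List.mem_map.1 (show d ∈ [c1, c2, c3].map dg from hd)
    exact hE θ
  · obtain ⟨e1, e2⟩ := h2.dg
    have e3 : dg ψ = dg c1 := by
      simp only [List.mem_cons, List.not_mem_nil, or_false] at h3
      rcases h3 with rfl | rfl | rfl <;> omega
    have := ty1 e he _ (e3 ▸ h4) (hE c1)
    rw [if_pos ((k c1 (by simp)).1 d1)] at this
    simpa only [List.map_cons, List.map_nil, ← e2, ← e1] using this

theorem search (D : Data G x w) (h : BL F bs) {fl : List (IrrCharacter G)} (hfl : fl.Nodup)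
    (hm : ∀ ψ, ψ ∈ fl ↔ ψ ∈ F) (h1 : triv ∉ F) {fd : List ℕ} (hd : fl.map dg = fd)
    {na nc bd : ℕ} {ad cd ac : ℤ} (k1 : na + 2 + (fd.map fun d => (Af d).natAbs).sum = 24)
    (k2 : nc + 1 + (fd.map fun d => (Cf d).natAbs).sum = 11) (k3 : (fd.map Ef).sum = 0)
    (k4 : bd + 1 + (fd.map fun d => d ^ 2).sum = 244823040)
    (k5 : ad = 2 + (fd.map fun d => Af d * d).sum) (k6 : cd = 1 + (fd.map fun d => Cf d * d).sum)
    (k7 : ac = 2 + (fd.map fun d => Af d * Cf d).sum) {lf : List (List ℕ) → Bool}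
    (hlf : ∀ bs', BL F bs' → lf (dgs bs') = true) :
    ∃ e ∈ exO, go lf 100 (e.2 ++ restO) na nc 2 bd ad cd ac [] = true := by
  classical
  obtain ⟨θ, t1, t2⟩ := D.ex
  have t3 := (t2 θ).2 (Or.inl rfl)
  obtain ⟨e, he, he'⟩ := ex_mem _ (D.deg' (χ := θ) (by
    rintro rfl
    rw [dg_one] at t3
    exact absurd t3 (by decide))) t3
  have hty := h.mem_ty D he fun ψ hψ => by
    rcases (t2 ψ).1 hψ with rfl | rfl
    · exact he'.symm
    · rw [dg_cj, he']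
  simp only [List.mem_map] at hty
  haveI : Inhabited Op := ⟨⟨[], 0, 0, 0, 0, 0, 0, 0, 0, 0, false, false⟩⟩
  choose! ent e1 e2 using hty
  obtain ⟨o1, o2⟩ := ops_ok e he
  obtain ⟨Z, z1, z2⟩ := split_sum (a := triv) (l := fl ++ bs.flatten)
    (List.nodup_append.2 ⟨hfl, h.nd, fun a ha b hb e => (h.out b hb).1 (e ▸ (hm a).1 ha)⟩)
    (by simp only [List.mem_append, not_or, hm]; exact ⟨h1, fun e => (h.out _ e).2 rfl⟩)
  have zz : ∀ ψ ∈ Z, Af (dg ψ) = 0 ∧ Cf (dg ψ) = 0 := fun ψ hψ => by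
    obtain ⟨a1, a2⟩ := z1 ψ hψ
    simp only [List.mem_append, not_or, hm] at a2
    exact AC_DZ _ ((D.deg ψ a1).resolve_left fun a => a2.2 (h.cov ψ a a2.1))
  have key : ∀ {M : Type} [AddCommMonoid M] (Φ : ℕ → M) (f : Op → M),
      (∀ o : Op, o.ok → f o = (o.ty.map Φ).sum) → ∑ χ : IrrCharacter G, Φ (dg χ) =
        Φ 1 + (((fd.map Φ).sum + (bs.map fun b => f (ent b)).sum) + ∑ ψ ∈ Z, Φ (dg ψ)) := by
    intro M _ Φ f hf
    rw [z2, dg_one, List.map_append, List.sum_append, ← hd, List.map_map, List.map_flatten,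
      List.sum_flatten, List.map_map]
    congr 4
    refine List.map_congr_left fun b hb => ?_
    rw [hf _ (o2 _ (e1 b hb)).2, e2 b hb, List.map_map]
    rfl
  have s1 := key (fun d => (Af d).natAbs) Op.a2 fun o a => a.2.2.2.1
  have s2 := key (fun d => (Cf d).natAbs) Op.c2 fun o a => a.2.2.2.2.1
  have s3 := key Ef Op.ex fun o a => a.2.2.2.2.2.1
  have s4 := key (fun d => d ^ 2) Op.d2 fun o a => a.2.2.2.2.2.2
  have s5 := key (fun d => Af d * d) Op.ad fun o a => a.1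
  have s6 := key (fun d => Cf d * d) Op.cd fun o a => a.2.1
  have s7 := key (fun d => Af d * Cf d) Op.ac fun o a => a.2.2.1
  rw [D.sA, sum_eq_zero fun ψ hψ => by rw [(zz ψ hψ).1]; rfl] at s1
  rw [D.sC, sum_eq_zero fun ψ hψ => by rw [(zz ψ hψ).2]; rfl] at s2
  rw [D.sAd, sum_eq_zero fun ψ hψ => by rw [(zz ψ hψ).1, zero_mul]] at s5
  rw [D.sCd, sum_eq_zero fun ψ hψ => by rw [(zz ψ hψ).2, zero_mul]] at s6
  rw [D.sAC, sum_eq_zero fun ψ hψ => by rw [(zz ψ hψ).2, mul_zero]] at s7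
  have s3' : ∑ χ : IrrCharacter G, Ef (dg χ) = 2 := by
    simp only [Ef, t2]
    rw [← card_filter, ← card_pair t1]
    congr 1
    ext ψ
    simp
  rw [s3', sum_eq_zero (s := Z) fun ψ hψ => by rw [Ef, (zz ψ hψ).1]; rfl] at s3
  have s4' : ∑ χ : IrrCharacter G, dg χ ^ 2 = 244823040 := by
    have := sum_irr_one_sq (G := G)
    simp only [dg_eq, D.card] at this
    convert (by exact_mod_cast this : _ = 244823040)
  rw [s4'] at s4
  have c1 : Af 1 = 2 := rfl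
  have c2 : Cf 1 = 1 := rfl
  have c3 : Ef 1 = 0 := rfl
  simp only [c1, c2, c3] at s1 s2 s3 s4 s5 s6 s7
  refine ⟨e, he, go_sound ent 100 _ o1 (fun o ho => (o2 o ho).1) bs [] _ _ _ _ _ _ _ e1 (by omega)
    (by omega) (by omega) (by omega) (by omega) (by omega) (by omega) fun l' hl => ?_⟩
  rw [List.append_nil] at hl
  rw [List.map_congr_left fun b hb => e2 b (hl.subset hb)]
  exact hlf l' (h.perm hl)

end Cfsg.Agent.H7.B24
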