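import Cfsg.Agent.H7.B24Def

/-! The search engines for the degree analysis. -/

set_option autoImplicit false

namespace Cfsg.Agent.H7.B24

/-- The coefficient forced by the congruence. -/
def co (p r d : ℕ) : ℤ := bif Nat.blt (2 * (r * d % p)) p then (r * d % p : ℕ) else
  (r * d % p : ℕ) - (p : ℤ)

/-- The part of a relation coming from degrees divisible by `253`. -/
def zr (p r : ℕ) : ℕ → ℤ → Bool
  | 0, D => D == 0
  | 1, D => DZ.any fun z => D == co p r z * z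
  | _, _ => true

/-- Search for a relation. -/
def rgo (p r : ℕ) (W : ℕ → ℤ) (fin : ℤ → Bool) : List ℕ → ℕ → ℤ → ℤ → ℤ → ℤ → Bool
  | [], s, D, A, C, u => A == 0 && (C == 0 && (zr p r s D && fin u))
  | d :: L, s, D, A, C, u => rgo p r W fin L s D A C u || (co p r d != 0 &&
      (Nat.ble ((co p r d).natAbs ^ 2) s && rgo p r W fin L (s - (co p r d).natAbs ^ 2)
        (D - co p r d * d) (A - co p r d * Af d) (C - co p r d * Cf d) (u + co p r d * W d)))

/-- A relation with diagonal coefficient `n`. -/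
def rel (p d i : ℕ) (W : ℕ → ℤ) (fin : ℕ → ℤ → Bool) (L : List ℕ) (n : ℕ) : Bool :=
  rgo p (n * i) W (fin n) L (n * (p - n)) ((p - n : ℕ) * d) ((p - n : ℕ) * Af d)
    ((p - n : ℕ) * Cf d) (n * W d)

/-- A relation with any diagonal coefficient. -/
def relAll (p d i : ℕ) (W : ℕ → ℤ) (fin : ℕ → ℤ → Bool) (L : List ℕ) : Bool :=
  (List.range' 1 (p - 1)).any (rel p d i W fin L)

/-- A block type with its precomputed data. -/
structure Op where
  ty : List ℕ
  ad : ℤ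
  cd : ℤ
  ac : ℤ
  a2 : ℕ
  c2 : ℕ
  ex : ℕ
  d2 : ℕ
  mA : ℕ
  mC : ℕ
  fa : Bool
  fe : Bool

/-- Search through the lists of block types. -/
def go (lf : List (List ℕ) → Bool) : ℕ → List Op → ℕ → ℕ → ℕ → ℕ → ℤ → ℤ → ℤ →
    List (List ℕ) → Bool
  | 0, _, _, _, _, _, _, _, _, _ => true
  | _ + 1, [], _, _, ne, _, ad, cd, ac, acc =>
      ne == 0 && (ad == 0 && (cd == 0 && (ac == 0 && lf acc)))
  | f + 1, o :: os, na, nc, ne, bd, ad, cd, ac, acc =>
      bif na + nc == 0 then ne == 0 && (ad == 0 && (cd == 0 && (ac == 0 && lf acc))) else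
      Nat.ble ad.natAbs (na * o.mA) && (Nat.ble cd.natAbs (nc * o.mC) && (Nat.ble ac.natAbs na &&
      ((o.fa || na == 0) && ((o.fe || ne == 0) &&
      ((!os.isEmpty && go lf f os na nc ne bd ad cd ac acc) ||
        (Nat.ble o.a2 na && (Nat.ble o.c2 nc && (Nat.ble o.ex ne && (Nat.ble o.d2 bd &&
        go lf f (o :: os) (na - o.a2) (nc - o.c2) (ne - o.ex) (bd - o.d2) (ad + o.ad) (cd + o.cd)
          (ac + o.ac) (o.ty :: acc))))))))))

def restO : List Op := [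
  ⟨[12672, 12672, 12672], (-76032), 0, 0, 6, 0, 0, 481738752, 12672, 15456, true, false⟩,
  ⟨[10395], (-20790), 0, 0, 2, 0, 0, 108056025, 10395, 15456, true, false⟩,
  ⟨[5544, 5544, 5544], 33264, 0, 0, 6, 0, 0, 92207808, 5544, 15456, true, false⟩,
  ⟨[3840], (-7680), 3840, (-2), 2, 1, 0, 14745600, 3840, 15456, true, false⟩,
  ⟨[3520], 7040, 0, 0, 2, 0, 0, 12390400, 3520, 15456, true, false⟩,
  ⟨[990, 4554, 5544], 13068, 0, 0, 4, 0, 0, 52454952, 3267, 15456, true, false⟩,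
  ⟨[252, 5544, 5796], 10584, (-6048), 2, 4, 2, 0, 64393056, 2646, 15456, true, false⟩,
  ⟨[1540], (-3080), 0, 0, 2, 0, 0, 2371600, 1540, 15456, true, false⟩,
  ⟨[990, 990, 990], 5940, 0, 0, 6, 0, 0, 2940300, 990, 15456, true, false⟩,
  ⟨[528], (-1056), 0, 0, 2, 0, 0, 278784, 528, 15456, true, false⟩,
  ⟨[45, 990, 1035], 1890, 1080, (-2), 4, 2, 0, 2053350, 473, 15456, true, false⟩,
  ⟨[252, 252, 252], (-1512), (-756), 6, 6, 3, 0, 190512, 252, 15456, true, false⟩,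
  ⟨[231], 462, 0, 0, 2, 0, 0, 53361, 231, 15456, true, false⟩,
  ⟨[45, 45, 45], (-270), 135, (-6), 6, 3, 0, 6075, 45, 15456, true, false⟩,
  ⟨[22], (-44), 0, 0, 2, 0, 0, 484, 22, 15456, true, false⟩,
  ⟨[15456], 0, 15456, 0, 0, 1, 0, 238887936, 0, 15456, false, false⟩,
  ⟨[12880], 0, (-12880), 0, 0, 1, 0, 165894400, 0, 12880, false, false⟩,
  ⟨[12420], 0, 12420, 0, 0, 1, 0, 154256400, 0, 12420, false, false⟩,
  ⟨[8832], 0, (-8832), 0, 0, 1, 0, 78004224, 0, 8832, false, false⟩,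
  ⟨[7360], 0, 7360, 0, 0, 1, 0, 54169600, 0, 7360, false, false⟩,
  ⟨[5796, 5796, 5796], 0, (-17388), 0, 0, 3, 0, 100780848, 0, 5796, false, false⟩,
  ⟨[4830], 0, 4830, 0, 0, 1, 0, 23328900, 0, 4830, false, false⟩,
  ⟨[3312, 3312, 3312], 0, 9936, 0, 0, 3, 0, 32908032, 0, 3312, false, false⟩,
  ⟨[2760], 0, (-2760), 0, 0, 1, 0, 7617600, 0, 2760, false, false⟩,
  ⟨[1035, 2277, 3312], 0, 4347, 0, 0, 2, 0, 17225298, 0, 2174, false, false⟩,
  ⟨[1288], 0, 1288, 0, 0, 1, 0, 1658944, 0, 1288, false, false⟩,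
  ⟨[1242], 0, (-1242), 0, 0, 1, 0, 1542564, 0, 1242, false, false⟩,
  ⟨[3312, 5796, 9108], 0, (-2484), 0, 0, 2, 0, 127518624, 0, 1242, false, false⟩,
  ⟨[1035, 1035, 1035], 0, 3105, 0, 0, 3, 0, 3213675, 0, 1035, false, false⟩,
  ⟨[736], 0, (-736), 0, 0, 1, 0, 541696, 0, 736, false, false⟩,
  ⟨[483], 0, (-483), 0, 0, 1, 0, 233289, 0, 483, false, false⟩,
  ⟨[276], 0, 276, 0, 0, 1, 0, 76176, 0, 276, false, false⟩,
  ⟨[230], 0, (-230), 0, 0, 1, 0, 52900, 0, 230, false, false⟩,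
  ⟨[23], 0, 23, 0, 0, 1, 0, 529, 0, 23, false, false⟩]

def exO : List (ℕ × List Op) := [
  (11, [⟨[11], (-11), 0, 0, 1, 0, 1, 121, 12672, 15456, true, true⟩]),
  (12, [⟨[12], 12, 12, 1, 1, 1, 1, 144, 12672, 15456, true, true⟩]),
  (264, [⟨[264], (-264), 0, 0, 1, 0, 1, 69696, 12672, 15456, true, true⟩]),
  (495, [⟨[495, 495, 495], 1485, 0, 0, 3, 0, 3, 735075, 12672, 15456, true, true⟩, ⟨[495, 495, 990], 2970, 0, 0, 4, 0, 2, 1470150, 12672, 15456, true, true⟩]),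
  (540, [⟨[540], (-540), 540, (-1), 1, 1, 1, 291600, 12672, 15456, true, true⟩]),
  (770, [⟨[770], (-770), 0, 0, 1, 0, 1, 592900, 12672, 15456, true, true⟩]),
  (1024, [⟨[1024], 1024, 1024, 1, 1, 1, 1, 1048576, 12672, 15456, true, true⟩]),
  (1760, [⟨[1760], 1760, 0, 0, 1, 0, 1, 3097600, 12672, 15456, true, true⟩]),
  (2772, [⟨[2772, 2772, 2772], 8316, 0, 0, 3, 0, 3, 23051952, 12672, 15456, true, true⟩, ⟨[2772, 2772, 5544], 16632, 0, 0, 4, 0, 2, 46103904, 12672, 15456, true, true⟩]),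
  (3024, [⟨[3024], (-3024), (-3024), 1, 1, 1, 1, 9144576, 12672, 15456, true, true⟩]),
  (6336, [⟨[6336, 6336, 6336], (-19008), 0, 0, 3, 0, 3, 120434688, 12672, 15456, true, true⟩, ⟨[6336, 6336, 12672], (-38016), 0, 0, 4, 0, 2, 240869376, 12672, 15456, true, true⟩]),
  (9856, [⟨[9856], 9856, 0, 0, 1, 0, 1, 97140736, 12672, 15456, true, true⟩]),
  (11880, [⟨[11880], 11880, 0, 0, 1, 0, 1, 141134400, 12672, 15456, true, true⟩])]

def W0 (_ : ℕ) : ℤ := 0
def W45 (d : ℕ) : ℤ := if d = 45 then 1 else 0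
def W5 (d : ℕ) : ℤ := if d = 45 then 1 else if d = 990 then 1 else if d = 1035 then -1 else 0

/-- The condition coming from the degree `3840`. -/
def fQ (L : List ℕ) : Bool := L.count 3840 == 0 || (Nat.ble 4 (L.count 3840) ||
  (Nat.ble 2 (L.count 45) || ((Nat.ble 2 (L.count 990) && Nat.ble 2 (L.count 4830)) ||
  ((Nat.ble 2 (L.count 528) && Nat.ble 2 (L.count 3312)) ||
  ((Nat.ble 2 (L.count 3520) && Nat.ble 2 (L.count 7360)) ||
  (Nat.ble 2 (L.count 8832) && Nat.ble 2 (L.count 12672)))))))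

/-- The hypotheses of the endgame. -/
def good (L : List ℕ) : Bool := L.count 23 == 1 &&
  L.all fun d => Nat.blt 275 d || (d == 23 || (d == 45 || (d == 231 || (d == 252 || d == 253))))

def f45 (L : List ℕ) : Bool := L.count 45 == 0 ||
  relAll 7 45 5 W45 (fun n u => L.count 45 != 3 || (u - n) % 2 == 0) (1 :: L.erase 45)

def f990 (L : List ℕ) : Bool := L.count 990 == 0 ||
  relAll 7 990 5 W0 (fun _ _ => true) (1 :: L.erase 990)

def s5 (acc : List (List ℕ)) : Bool := (acc.all fun t => t == [45, 990, 1035] ||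
  t.all fun d => d != 45 && (d != 990 && d != 1035)) &&
  (acc.flatten.count 45 == 2 && acc.flatten.count 990 == 2)

def fP5 (acc : List (List ℕ)) : Bool := !s5 acc ||
  (relAll 7 45 5 W5 (fun _ u => u != 6) (1 :: acc.flatten.erase 45) ||
    relAll 7 990 5 W5 (fun _ u => u != 7) (1 :: acc.flatten.erase 990))

def fA (acc : List (List ℕ)) : Bool := rel 5 252 3 W0 (fun _ _ => true) acc.flatten 3 &&
  (f45 acc.flatten && (f990 acc.flatten && fP5 acc))

def fC (L : List ℕ) : Bool := L.count 5796 != 0 &&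
  rel 5 5796 1 W0 (fun _ _ => true) (L.erase 5796) 4

def lf1 (acc : List (List ℕ)) : Bool := fQ acc.flatten && (!good acc.flatten &&
  (fA acc || fC acc.flatten))

def lf2 (acc : List (List ℕ)) : Bool := acc.flatten.count 5796 != 0

def run1 (e : ℕ × List Op) : Bool :=
  go lf1 100 (e.2 ++ restO) 18 8 2 180429983 10586 (-6047) 4 []

def run2 (e : ℕ × List Op) : Bool :=
  go lf2 100 (e.2 ++ restO) 16 10 2 152615231 33266 1 2 []

end Cfsg.Agent.H7.B24
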