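import Cfsg.Agent.H7.B24E

/-! The second kernel search. -/

namespace Cfsg.Agent.H7.B24

set_option maxRecDepth 100000 in
theorem run2_false : exO.all (fun e => !run2 e) = true := by decide +kernel

end Cfsg.Agent.H7.B24
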