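import Cfsg.Agent.H7.B24R

/-! The list of the blocks (singletons and triples) outside a given set. -/

set_option autoImplicit false

namespace Cfsg.Agent.H7.B24

open Cfsg Cfsg.Agent.H3 Cfsg.Agent.H2.D1 Finset
open Cfsg.Agent.H9.Tri (D1 TyA TyB)

/-- The blocks meeting `DN` outside `F`, as lists. -/
structure BL {G : Type*} [Group G] [Fintype G] (F : Finset (IrrCharacter G))
    (bs : List (List (IrrCharacter G))) : Prop where
  nd : bs.flatten.Nodup
  cov : ∀ ψ, dg ψ ∈ DN → ψ ∉ F → ψ ∈ bs.flatten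
  out : ∀ ψ ∈ bs.flatten, ψ ∉ F ∧ ψ ≠ triv
  ty : ∀ b ∈ bs, (∃ ψ, ¬ D1 ψ ∧ dg ψ ∈ DN ∧ b = [ψ]) ∨ ∃ c1 c2 c3, b = [c1, c2, c3] ∧ D1 c1 ∧
    D1 c2 ∧ D1 c3 ∧ dg c1 ≤ dg c2 ∧ (TyA c1 c2 c3 ∨ TyB c1 c2 c3) ∧ ∃ ψ ∈ b, dg ψ ∈ DN

variable {G : Type*} [Group G] [Fintype G] {F : Finset (IrrCharacter G)}
  {bs : List (List (IrrCharacter G))}

theorem BL.perm (h : BL F bs) {bs' : List (List (IrrCharacter G))} (hp : bs'.Perm bs) :
    BL F bs' :=
  ⟨hp.flatten.nodup_iff.2 h.nd, fun ψ a b => hp.flatten.symm.subset (h.cov ψ a b),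
    fun ψ a => h.out ψ (hp.flatten.subset a), fun b a => h.ty b (hp.subset a)⟩

/-- The degree lists. -/
noncomputable def dgs (bs : List (List (IrrCharacter G))) : List (List ℕ) :=
  bs.map (List.map dg)

theorem dgs_flatten : (dgs bs).flatten = bs.flatten.map dg := by
  rw [dgs, List.map_flatten]

theorem BL.count (h : BL F bs) {d : ℕ} (hd : d ∈ DN) (hF : ∀ ψ ∈ F, dg ψ ≠ d) :
    (dgs bs).flatten.count d = cnt G d := by
  classical
  rw [dgs_flatten, List.count_eq_countP, List.countP_map, List.countP_eq_length_filter, cnt,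
    ← List.toFinset_card_of_nodup (h.nd.filter _)]
  congr 1
  ext ψ
  simp only [List.mem_toFinset, List.mem_filter, Function.comp, beq_iff_eq, mem_filter, mem_univ,
    true_and]
  exact ⟨fun a => a.2, fun a => ⟨h.cov ψ (a ▸ hd) fun b => hF ψ b a, a⟩⟩

/-- Removing one character. -/
theorem erase_perm {l : List (IrrCharacter G)} {χ : IrrCharacter G} [DecidableEq (IrrCharacter G)]
    (h : χ ∈ l) : ((l.map dg).erase (dg χ)).Perm ((l.erase χ).map dg) :=
  List.Perm.cons_inv ((List.perm_cons_erase (List.mem_map_of_mem h)).symm.trans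
    ((List.perm_cons_erase h).map dg))

end Cfsg.Agent.H7.B24
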