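import Cfsg.Agent.H7.B24B
import Cfsg.Agent.H7.B24K1
import Cfsg.Agent.H7.B24K2
import Cfsg.Agent.H9.B24T

/-! The small degrees of a simple group of order `244823040`. -/

set_option autoImplicit false

namespace Cfsg.Agent.H7.B24

open Cfsg Cfsg.Agent.H3 Cfsg.Agent.H2.D1 Finset
open Cfsg.Agent.H9.Tri (D1 T bl T_eq bl_of_D1)
open Cfsg.Agent.H9.Def (m)

variable {G : Type*} [Group G] [Fintype G] {x w : G} {F : Finset (IrrCharacter G)}
  {bs : List (List (IrrCharacter G))} {β1 β2 β3 β4 : IrrCharacter G}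

theorem fQ_sound (h : BL F bs) (hF : ∀ ψ ∈ F, dg ψ ∈ [252, 5544, 5796])
    (hq : ∀ χ : IrrCharacter G, dg χ = 3840 → 4 ≤ cnt G 3840 ∨ 2 ≤ cnt G 45 ∨
      (2 ≤ cnt G 990 ∧ 2 ≤ cnt G 4830) ∨ (2 ≤ cnt G 528 ∧ 2 ≤ cnt G 3312) ∨
      (2 ≤ cnt G 3520 ∧ 2 ≤ cnt G 7360) ∨ (2 ≤ cnt G 8832 ∧ 2 ≤ cnt G 12672)) :
    fQ (dgs bs).flatten = true := by
  have k : ∀ d ∈ DN, d ∉ [252, 5544, 5796] → (dgs bs).flatten.count d = cnt G d :=
    fun d h1 h2 => h.count h1 fun ψ hψ e => h2 (e ▸ hF ψ hψ)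
  simp only [fQ, Bool.or_eq_true, Bool.and_eq_true, Nat.ble_eq, beq_iff_eq]
  rw [k 3840 (by decide) (by decide), k 45 (by decide) (by decide), k 990 (by decide) (by decide),
    k 4830 (by decide) (by decide), k 528 (by decide) (by decide), k 3312 (by decide) (by decide),
    k 3520 (by decide) (by decide), k 7360 (by decide) (by decide), k 8832 (by decide) (by decide),
    k 12672 (by decide) (by decide)]
  refine or_iff_not_imp_left.2 fun e => ?_
  obtain ⟨χ, hχ⟩ := card_ne_zero.1 e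
  exact hq χ (mem_filter.1 hχ).2

theorem small_DZ : ∀ d ∈ DZ, d ≤ 275 → d = 253 := by decide

theorem of_good (D : Data G x w) (h : BL F bs) (hF : ∀ ψ ∈ F, dg ψ ∈ [252, 5544, 5796])
    (hg : good (dgs bs).flatten = true) : ∃ χ : IrrCharacter G, dg χ = 23 ∧
      (∀ ψ : IrrCharacter G, dg ψ = 23 → ψ = χ) ∧
      ∀ ψ : IrrCharacter G, dg ψ ≤ 275 → dg ψ ∈ [1, 23, 45, 231, 252, 253] := by
  simp only [good, Bool.or_eq_true, Bool.and_eq_true, Nat.blt_eq, beq_iff_eq,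
    List.all_eq_true] at hg
  rw [h.count (by decide) fun ψ hψ e => absurd (e ▸ hF ψ hψ) (by decide), cnt, card_eq_one] at hg
  obtain ⟨⟨χ, h1⟩, h2⟩ := hg
  have h3 : ∀ ψ : IrrCharacter G, dg ψ = 23 ↔ ψ = χ := fun ψ => by
    simpa using Finset.ext_iff.1 h1 ψ
  refine ⟨χ, (h3 χ).2 rfl, fun ψ => (h3 ψ).1, fun ψ e => ?_⟩
  simp only [List.mem_cons, List.not_mem_nil, or_false] at hF ⊢
  by_cases e1 : ψ = triv
  · rw [e1, dg_one]; omega
  by_cases e2 : ψ ∈ F
  · have := hF ψ e2; omega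
  rcases D.deg ψ e1 with a | a
  · have := h2 _ (dgs_flatten (bs := bs) ▸ List.mem_map_of_mem (h.cov ψ a e2)); omega
  · have := small_DZ _ a e; omega

theorem small (D : Data G x w) (B : B5 β1 β2 β3 β4)
    (hq : ∀ χ : IrrCharacter G, dg χ = 3840 → 4 ≤ cnt G 3840 ∨ 2 ≤ cnt G 45 ∨
      (2 ≤ cnt G 990 ∧ 2 ≤ cnt G 4830) ∨ (2 ≤ cnt G 528 ∧ 2 ≤ cnt G 3312) ∨
      (2 ≤ cnt G 3520 ∧ 2 ≤ cnt G 7360) ∨ (2 ≤ cnt G 8832 ∧ 2 ≤ cnt G 12672))
    (h7 : ∀ (F : Finset (IrrCharacter G)) bs, BL F bs → (∀ ψ ∈ F, dg ψ ∈ [252, 5544, 5796]) →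
      f45 (dgs bs).flatten = true ∧ f990 (dgs bs).flatten = true ∧ fP5 (dgs bs) = true) :
    ∃ χ : IrrCharacter G, dg χ = 23 ∧ (∀ ψ : IrrCharacter G, dg ψ = 23 → ψ = χ) ∧
      ∀ ψ : IrrCharacter G, dg ψ ≤ 275 → dg ψ ∈ [1, 23, 45, 231, 252, 253] := by
  classical
  haveI : Fact (Nat.Prime 5) := ⟨by norm_num⟩
  have d4 : D1 β4 := by rw [D1, D.card, B.d4]; norm_num
  obtain ⟨bs, h⟩ := exists_BL D (F := T β4) fun ψ hψ => by
    rw [bl_of_D1 (T_eq d4 hψ).1, (T_eq d4 hψ).2]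
  have h1 : triv ∉ T β4 := fun e => absurd (T_eq d4 e).1 (by rw [D1, D.card, dg_one]; norm_num)
  have d2 := B.d2
  have d4' := B.d4
  have m2 : ∀ bs', BL (T β4) bs' → β2 ∉ T β4 → (dgs bs').flatten.count 5796 ≠ 0 :=
    fun bs' h' e => (List.count_pos_iff.2 (dgs_flatten (bs := bs') ▸ d2 ▸
      List.mem_map_of_mem (h'.cov β2 (d2 ▸ by decide) e))).ne'
  by_contra hn
  rcases t5 D B with ⟨c2, c3, a1, a2, a3, a4, a5, a6⟩ | ⟨c1, c3, a1, a2, a3, a4⟩
  · obtain ⟨e, he, h2⟩ := search D h (fl := [β4, c2, c3]) (by simp [a1, a2, a3])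
      (fun ψ => by simp [a4]) h1 (fd := [5544, 5544, 5544]) (by simp [a5, a6, d4'])
      (na := 16) (nc := 10) (bd := 152615231) (ad := 33266) (cd := 1) (ac := 2) (by decide)
      (by decide) (by decide) (by decide) (by decide) (by decide) (by decide) (lf := lf2)
      fun bs' h' => bne_iff_ne.2 (m2 bs' h' fun e => by
        simp only [a4, mem_insert, mem_singleton] at e
        rcases e with rfl | rfl | rfl <;> omega)
    have := List.all_eq_true.1 run2_false e he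
    rw [run2, h2] at this
    exact absurd this (by decide)
  have mem : ∀ ψ, ψ ∈ T β4 ↔ ψ = c1 ∨ ψ = β4 ∨ ψ = c3 := fun ψ => by simp [a3]
  have hF : ∀ ψ ∈ T β4, dg ψ ∈ [252, 5544, 5796] := fun ψ hψ => by
    rcases (mem ψ).1 hψ with rfl | rfl | rfl <;> simp [*]
  have ne : ∀ {a b : IrrCharacter G}, dg a ≠ dg b → a ≠ b := fun e1 e2 => e1 (e2 ▸ rfl)
  obtain ⟨e, he, h2⟩ := search D h (fl := [c1, β4, c3]) (by
      simp [ne (show dg c1 ≠ dg β4 by omega), ne (show dg c1 ≠ dg c3 by omega),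
        ne (show dg β4 ≠ dg c3 by omega)])
    (fun ψ => by simp [a3]) h1 (fd := [252, 5544, 5796]) (by simp [a1, a2, d4'])
    (na := 18) (nc := 8) (bd := 180429983) (ad := 10586) (cd := -6047) (ac := 4) (by decide)
    (by decide) (by decide) (by decide) (by decide) (by decide) (by decide) (lf := lf1)
    fun bs' h' => by
      obtain ⟨k1, k2, k3⟩ := h7 _ bs' h' hF
      have k4 : good (dgs bs').flatten = false :=
        Bool.eq_false_iff.2 fun e => hn (of_good D h' hF e)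
      simp only [lf1, fA, fC, fQ_sound h' hF hq, k1, k2, k3, k4, Bool.true_and, Bool.and_true,
        Bool.not_false, Bool.or_eq_true, Bool.and_eq_true, bne_iff_ne]
      have cov : ∀ χ ψ : IrrCharacter G, ψ ≠ triv → ψ ∉ T β4 →
          ψ ∈ bs'.flatten ∨ dg ψ ∈ DZ ∨ 5 ∣ dg ψ := fun χ ψ e1 e2 =>
        (D.deg ψ e1).imp (fun a => h'.cov ψ a e2) Or.inl
      rcases a4 with ⟨b1, b2, b3, b4⟩ | ⟨b1, b2, b3, b4, b5, b6⟩
      · obtain ⟨n, n0, r1, r2, -, -, r3⟩ := rel_sound D (p := 5) (Or.inl rfl) a1 (i := 3) rfl h'.nd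
          (fun e => (h'.out _ e).1 ((mem _).2 (Or.inl rfl))) (fun ψ e1 e2 => cov c1 ψ
            (by rintro rfl; exact e2 b4) fun e3 => by
              rcases (mem ψ).1 e3 with rfl | rfl | rfl <;> contradiction)
          (L := (dgs bs').flatten) (by rw [dgs_flatten])
        obtain rfl : n0 = 3 := by
          have := (r1 c1).symm.trans b1
          rw [r2] at this
          exact_mod_cast this
        exact Or.inl (r3 _ _ (fun _ _ => rfl) rfl)
      · have e2 : β2 ∉ T β4 := fun e => by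
          rcases (mem _).1 e with rfl | rfl | rfl
          exacts [by omega, by omega, b1 rfl]
        have e3 := h'.cov β2 (d2 ▸ by decide) e2
        obtain ⟨n, n0, r1, r2, -, -, r3⟩ := rel_sound D (p := 5) (Or.inl rfl) a2 (i := 1) rfl
          (h'.nd.erase β2) (fun e => (h'.out _ (List.mem_of_mem_erase e)).1
            ((mem _).2 (Or.inr (Or.inr rfl)))) (fun ψ e1 e4 => (cov c3 ψ
            (by rintro rfl; exact e4 b5) fun e3 => by
              rcases (mem ψ).1 e3 with rfl | rfl | rfl <;> contradiction).imp_left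
                fun a => (List.mem_erase_of_ne fun e5 => e4 (by rw [e5]; exact b6)).2 a)
          (L := (dgs bs').flatten.erase 5796) (by rw [dgs_flatten, ← d2]; exact erase_perm e3)
        obtain rfl : n0 = 4 := by
          have := (r1 c3).symm.trans b2
          rw [r2] at this
          exact_mod_cast this
        exact Or.inr ⟨m2 bs' h' e2, r3 _ _ (fun _ _ => rfl) rfl⟩
  have := List.all_eq_true.1 run1_false e he
  rw [run1, h2] at this
  exact absurd this (by decide)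

end Cfsg.Agent.H7.B24
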