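import Cfsg.Agent.H7.B24S

/-! The relations on `5`-regular and `7`-regular elements. -/

set_option autoImplicit false

namespace Cfsg.Agent.H7.B24

open Cfsg Cfsg.Agent.H3 Cfsg.Agent.H2.D1 Finset
open Cfsg.Agent.H9.Def (m defect)
open Cfsg.Agent.H9.Tri (dg_mul)

theorem zr_sound {ι : Type*} {p r : ℕ} (n : ι → ℤ) (d : ι → ℕ) (Z : Finset ι)
    (h : ∀ i ∈ Z, n i ≠ 0 → d i ∈ DZ ∧ n i = co p r (d i)) :
    zr p r (∑ i ∈ Z, (n i).natAbs ^ 2) (∑ i ∈ Z, n i * d i) = true := by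
  classical
  generalize hs : ∑ i ∈ Z, (n i).natAbs ^ 2 = s
  match s with
  | 0 =>
    simp only [zr, beq_iff_eq]
    exact sum_eq_zero fun i hi => by
      have := sum_eq_zero_iff.1 hs i hi
      simp_all
  | 1 =>
    obtain ⟨i, hi, h1⟩ := exists_ne_zero_of_sum_ne_zero (hs.trans_ne one_ne_zero)
    have h2 : n i ≠ 0 := by simpa using h1
    rw [← add_sum_erase _ _ hi] at hs
    have h3 : ∑ j ∈ Z.erase i, (n j).natAbs ^ 2 = 0 := by omega
    simp only [zr, List.any_eq_true, beq_iff_eq]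
    refine ⟨_, (h i hi h2).1, ?_⟩
    rw [← add_sum_erase _ _ hi, ← (h i hi h2).2, sum_eq_zero fun j hj => by
      have := sum_eq_zero_iff.1 h3 j hj
      simp_all, add_zero]
  | _ + 2 => rfl

theorem split_sum {ι : Type*} [Fintype ι] {a : ι} {l : List ι} (hl : l.Nodup) (ha : a ∉ l) :
    ∃ Z : Finset ι, (∀ i ∈ Z, i ≠ a ∧ i ∉ l) ∧ ∀ {M : Type} [AddCommMonoid M] (F : ι → M),
      ∑ i, F i = F a + ((l.map F).sum + ∑ i ∈ Z, F i) := by
  classical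
  refine ⟨univ.filter (fun i => i ≠ a ∧ i ∉ l), fun i hi => (mem_filter.1 hi).2, fun F => ?_⟩
  rw [← List.sum_toFinset _ hl, ← sum_union (disjoint_left.2 fun i h1 h2 => by simp_all),
    ← sum_insert (by simp [ha])]
  refine sum_congr ?_ fun _ _ => rfl
  ext i
  by_cases h1 : i = a <;> by_cases h2 : i ∈ l <;> simp [h1, h2]

theorem AC_DZ : ∀ z ∈ DZ, Af z = 0 ∧ Cf z = 0 := by decide

variable {G : Type*} [Group G] [Fintype G] {x w : G}

theorem rel_sound (D : Data G x w) {p : ℕ} [hp : Fact p.Prime] (pp : p = 5 ∨ p = 7)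
    {χ : IrrCharacter G} {d i : ℕ} (hd : dg χ = d) (hi : i * d % p = 1)
    {l : List (IrrCharacter G)} (hl : l.Nodup) (hχ : χ ∉ l)
    (hc : ∀ ψ, ψ ≠ χ → m p χ ψ ≠ 0 → ψ ∈ l ∨ dg ψ ∈ DZ ∨ p ∣ dg ψ)
    {L : List ℕ} (hL : L.Perm (l.map dg)) :
    ∃ (n : IrrCharacter G → ℤ) (n0 : ℕ), (∀ ψ, (p : ℂ) * m p χ ψ = n ψ) ∧ n χ = n0 ∧ 1 ≤ n0 ∧
      n0 < p ∧ ∀ (W : ℕ → ℤ) (fin : ℕ → ℤ → Bool), (∀ z ∈ DZ, W z = 0) →
        fin n0 (∑ ψ, n ψ * W (dg ψ)) = true → rel p d i W fin L n0 = true := by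
  classical
  obtain ⟨l', hp', rfl⟩ := exists_perm_map dg hL
  have hl' := hp'.nodup_iff.2 hl
  have hχ' : χ ∉ l' := fun e => hχ (hp'.subset e)
  have p2 : ¬ p * p ∣ Nat.card G := by rw [D.card]; rcases pp with rfl | rfl <;> norm_num
  have p1 : p ∣ Nat.card G := by rw [D.card]; rcases pp with rfl | rfl <;> norm_num
  have pd : ¬ p ∣ d := fun e => by
    rw [Nat.mod_eq_zero_of_dvd (e.mul_left i)] at hi
    exact zero_ne_one hi
  obtain ⟨n, z, h1, h2, -, h4, h5, -, h7, h8, h9, h10⟩ := defect (p := p) (k := 1) χ fun e =>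
    p2 (by rw [← sq]; exact e.trans (Dvd.intro_left _ (dg_mul χ)))
  simp only [pow_one] at h1 h2 h4 h7 h9
  replace h7 := h7 ((hp.out.dvd_mul.1 (dg_mul χ ▸ p1)).resolve_left (hd ▸ pd))
  obtain ⟨n0, hn0⟩ := Int.eq_ofNat_of_zero_le h5.le
  refine ⟨n, n0, h1, hn0, by omega, by omega, fun W fin hW hf => ?_⟩
  have q4 : ∑ ψ, (n ψ).natAbs ^ 2 = p * n0 := by
    zify
    simpa only [sq_abs, hn0] using h4
  have hco : ∀ ψ, ψ ≠ χ → n ψ ≠ 0 → n ψ = co p (n0 * i) (dg ψ) := fun ψ e1 e2 => by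
    refine co_eq pp ?_ ?_
    · obtain ⟨N', hN⟩ := p1
      have pz : Prime (p : ℤ) := Nat.prime_iff_prime_int.1 hp.out
      have p0 : (p : ℤ) ≠ 0 := pz.ne_zero
      have k : ∀ θ, (N' : ℤ) * n θ = z θ * dg θ := fun θ => by
        have a1 := congrArg (Nat.cast : ℕ → ℤ) ((dg_mul θ).trans hN)
        rw [Nat.cast_mul, Nat.cast_mul] at a1
        refine mul_left_cancel₀ p0 ?_
        linear_combination (dg θ : ℤ) * h9 θ - n θ * a1
      obtain ⟨c, hc⟩ := h10 ψ e2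
      have a2 : (p : ℤ) ∣ N' * (n ψ * d - n0 * dg ψ) := ⟨c * dg ψ * d, by
        rw [← hn0, ← hd]
        linear_combination (dg χ : ℤ) * k ψ - dg ψ * k χ + dg ψ * dg χ * hc⟩
      have a3 := (pz.dvd_or_dvd a2).resolve_left fun e =>
        p2 (hN ▸ Nat.mul_dvd_mul_left _ (Int.natCast_dvd_natCast.1 e))
      have a4 : (p : ℤ) ∣ i * d - 1 := by
        have := Nat.div_add_mod (i * d) p
        rw [hi] at this
        generalize i * d / p = t at this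
        exact ⟨t, by rw [← Nat.cast_mul, ← this]; push_cast; ring⟩
      have : n ψ - (n0 * i : ℕ) * dg ψ = i * (n ψ * d - n0 * dg ψ) - n ψ * (i * d - 1) := by
        push_cast; ring
      rw [this]
      exact (a3.mul_left _).sub (a4.mul_left _)
    · have a1 : (n χ).natAbs ^ 2 + (n ψ).natAbs ^ 2 ≤ p * n0 := by
        rw [← q4, ← sum_pair (f := fun θ => (n θ).natAbs ^ 2) e1.symm]
        exact sum_le_sum_of_subset (subset_univ _)
      rw [hn0, Int.natAbs_natCast] at a1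
      generalize (n ψ).natAbs = a at a1
      have a2 : 4 * a ^ 2 ≤ p ^ 2 := by zify at a1 ⊢; nlinarith [sq_nonneg ((p : ℤ) - 2 * n0)]
      have a3 : 2 * a ≤ p := by
        by_contra a4
        nlinarith
      rcases pp with rfl | rfl <;> omega
  obtain ⟨Z, hZ1, hZ2⟩ := split_sum hl' hχ'
  have hZ : ∀ ψ ∈ Z, n ψ ≠ 0 →
      dg ψ ∈ DZ ∧ n ψ = co p (n0 * i) (dg ψ) := fun ψ hψ e => by
    obtain ⟨e1, e2⟩ := hZ1 ψ hψ
    refine ⟨?_, hco ψ e1 e⟩
    rcases hc ψ e1 (fun e' => e (Int.cast_eq_zero.1 ((h1 ψ).symm.trans (by rw [e', mul_zero]))))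
      with a | a | a
    · exact absurd (hp'.symm.subset a) e2
    · exact a
    · exact absurd (dg_mul ψ ▸ Nat.mul_dvd_mul a (h8 ψ e e1)) p2
  have hZ0 : ∀ F : ℕ → ℤ, (∀ z ∈ DZ, F z = 0) →
      ∑ ψ, n ψ * F (dg ψ) = n0 * F d + (l'.map fun ψ => n ψ * F (dg ψ)).sum := fun F hF => by
    rw [hZ2, hn0, hd, sum_eq_zero fun ψ hψ => by
      by_cases e : n ψ = 0
      · rw [e, zero_mul]
      · rw [hF _ (hZ ψ hψ e).1, mul_zero], add_zero]
  have rx : ∀ g : G, orderOf g = 23 ∨ orderOf g = 11 → IsPReg p g := fun g hg =>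
    (isPReg_iff_not_dvd hp.out).2 (by
      rcases hg with e | e <;> rw [e] <;> rcases pp with rfl | rfl <;> norm_num)
  have e1 : (p : ℤ) * d = ∑ ψ, n ψ * dg ψ := by
    have := h2 1 (IsPReg.one p)
    simp only [dg_eq, hd] at this
    exact_mod_cast this
  have e2 : (p : ℤ) * Af d = ∑ ψ, n ψ * Af (dg ψ) := by
    have a1 := h2 x (rx _ (Or.inl D.ox))
    have a2 := h2 x⁻¹ (rx _ (Or.inl ((orderOf_inv x).trans D.ox)))
    have : (p : ℂ) * Af d = ∑ ψ, (n ψ : ℂ) * Af (dg ψ) := by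
      rw [← hd, ← D.vA, mul_add, a1, a2, ← sum_add_distrib]
      exact sum_congr rfl fun ψ _ => by rw [← D.vA, mul_add]
    exact_mod_cast this
  have e3 : (p : ℤ) * Cf d = ∑ ψ, n ψ * Cf (dg ψ) := by
    have := h2 w (rx _ (Or.inr D.ow))
    simp only [D.vC, hd] at this
    exact_mod_cast this
  rw [hZ0 _ fun z hz => (AC_DZ z hz).1] at e2
  rw [hZ0 _ fun z hz => (AC_DZ z hz).2] at e3
  rw [hZ2, hn0, hd] at e1
  rw [hZ2, hn0, Int.natAbs_natCast] at q4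
  have c1 : ((p - n0 : ℕ) : ℤ) = p - n0 := Nat.cast_sub (by omega)
  refine rgo_sound n dg l' (fun ψ hψ => or_iff_not_imp_left.2 (hco ψ fun e => hχ' (e ▸ hψ))) _ _ _ _
    _ _ _ _ ?_ ?_ ?_ ?_ (zr_sound n dg _ hZ) (hZ0 W hW) hf
  · rw [Nat.mul_sub, mul_comm n0 p, ← q4, ← sq, Nat.add_sub_cancel_left]
  · rw [c1]; linarith
  · rw [c1]; linarith
  · rw [c1]; linarith

theorem relAll_of {p d i : ℕ} {W : ℕ → ℤ} {fin : ℕ → ℤ → Bool} {L : List ℕ} {n : ℕ} (h1 : 1 ≤ n)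
    (h2 : n < p) (h : rel p d i W fin L n = true) : relAll p d i W fin L = true :=
  List.any_eq_true.2 ⟨n, List.mem_range'_1.2 ⟨h1, by omega⟩, h⟩

end Cfsg.Agent.H7.B24
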