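import Cfsg.Agent.H7.B24E

/-! Soundness of the search engines. -/

set_option autoImplicit false

namespace Cfsg.Agent.H7.B24

theorem natAbs_sum_le {ι : Type*} (a : ι → ℤ) (g : ι → ℕ) (m : ℕ) (l : List ι)
    (h : ∀ i ∈ l, (a i).natAbs ≤ g i * m) : (l.map a).sum.natAbs ≤ (l.map g).sum * m := by
  induction l with
  | nil => simp
  | cons i l ih =>
    simp only [List.map_cons, List.sum_cons, add_mul]
    exact (Int.natAbs_add_le _ _).trans
      (add_le_add (h i (by simp)) (ih fun j hj => h j (by simp [hj])))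

/-- The bounds stored in `o` hold for `o'`. -/
def Rl (o o' : Op) : Prop := o'.ad.natAbs ≤ o'.a2 * o.mA ∧ o'.cd.natAbs ≤ o'.c2 * o.mC ∧
  o'.ac.natAbs ≤ o'.a2 * 1 ∧ (o.fa = false → o'.a2 = 0) ∧ (o.fe = false → o'.ex = 0) ∧
  0 < o'.a2 + o'.c2

instance decRl (o o' : Op) : Decidable (Rl o o') := by unfold Rl; infer_instance

theorem go_sound {ι : Type*} (ent : ι → Op) {lf : List (List ℕ) → Bool} (f : ℕ) (os : List Op)
    (hs : os.Pairwise Rl) (hr : ∀ o ∈ os, Rl o o) (l acc : List ι) (na nc ne bd : ℕ)
    (ad cd ac : ℤ) (h1 : ∀ i ∈ l, ent i ∈ os) (h2 : (l.map fun i => (ent i).a2).sum = na)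
    (h3 : (l.map fun i => (ent i).c2).sum = nc) (h4 : (l.map fun i => (ent i).ex).sum = ne)
    (h5 : (l.map fun i => (ent i).d2).sum ≤ bd) (h6 : ad + (l.map fun i => (ent i).ad).sum = 0)
    (h7 : cd + (l.map fun i => (ent i).cd).sum = 0) (h8 : ac + (l.map fun i => (ent i).ac).sum = 0)
    (h9 : ∀ l' : List ι, l'.Perm (l ++ acc) → lf (l'.map fun i => (ent i).ty) = true) :
    go lf f os na nc ne bd ad cd ac (acc.map fun i => (ent i).ty) = true := by
  classical
  induction f generalizing os l acc na nc ne bd ad cd ac with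
  | zero => simp [go]
  | succ f ih =>
    have fin : l = [] → (ne == 0 && (ad == 0 && (cd == 0 && (ac == 0 &&
        lf (acc.map fun i => (ent i).ty))))) = true := by
      rintro rfl
      simp only [List.map_nil, List.sum_nil, add_zero] at h4 h6 h7 h8
      simpa [← h4, h6, h7, h8] using h9 acc (by simp)
    cases os with
    | nil => exact fin (List.eq_nil_iff_forall_not_mem.2 fun i hi => by simpa using h1 i hi)
    | cons o os =>
      obtain ⟨hs1, hs2⟩ := List.pairwise_cons.1 hs
      have hR : ∀ i ∈ l, Rl o (ent i) := fun i hi => by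
        rcases List.mem_cons.1 (h1 i hi) with e | e
        · rw [e]; exact hr o (by simp)
        · exact hs1 _ e
      simp only [go]
      by_cases hw : na + nc = 0
      · have : l = [] := List.eq_nil_iff_forall_not_mem.2 fun i hi => by
          have a1 := List.sum_eq_zero_iff.1 (h2.trans (by omega)) _ (List.mem_map_of_mem hi)
          have a2 := List.sum_eq_zero_iff.1 (h3.trans (by omega)) _ (List.mem_map_of_mem hi)
          have := (hR i hi).2.2.2.2.2
          omega
        simpa only [hw, beq_self_eq_true, cond_true] using fin this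
      have b1 := natAbs_sum_le _ _ _ l fun i hi => (hR i hi).1
      have b2 := natAbs_sum_le _ _ _ l fun i hi => (hR i hi).2.1
      have b3 := natAbs_sum_le _ _ _ l fun i hi => (hR i hi).2.2.1
      rw [h2, eq_neg_of_add_eq_zero_right h6, Int.natAbs_neg] at b1
      rw [h3, eq_neg_of_add_eq_zero_right h7, Int.natAbs_neg] at b2
      rw [h2, eq_neg_of_add_eq_zero_right h8, Int.natAbs_neg, mul_one] at b3
      have b4 : o.fa = true ∨ na = 0 := by
        cases e : o.fa
        · exact Or.inr (h2 ▸ List.sum_eq_zero fun x hx => by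
            obtain ⟨i, hi, rfl⟩ := List.mem_map.1 hx
            exact (hR i hi).2.2.2.1 e)
        · exact Or.inl rfl
      have b5 : o.fe = true ∨ ne = 0 := by
        cases e : o.fe
        · exact Or.inr (h4 ▸ List.sum_eq_zero fun x hx => by
            obtain ⟨i, hi, rfl⟩ := List.mem_map.1 hx
            exact (hR i hi).2.2.2.2.1 e)
        · exact Or.inl rfl
      simp only [beq_eq_false_iff_ne.2 hw, cond_false, Bool.and_eq_true, Bool.or_eq_true,
        Nat.ble_eq, beq_iff_eq]
      refine ⟨b1, b2, b3, b4, b5, ?_⟩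
      by_cases he : ∃ i ∈ l, ent i = o
      · obtain ⟨i, hi, rfl⟩ := he
        have hp := List.perm_cons_erase hi
        rw [(hp.map _).sum_eq, List.map_cons, List.sum_cons] at h2 h3 h4 h5 h6 h7 h8
        refine Or.inr ⟨by omega, by omega, by omega, by omega, ?_⟩
        exact ih _ hs hr (l.erase i) (i :: acc) _ _ _ _ _ _ _
          (fun j hj => h1 j (List.mem_of_mem_erase hj)) (by omega) (by omega) (by omega) (by omega)
          (by linarith) (by linarith) (by linarith) fun l' hl => h9 l'
            (hl.trans (List.perm_middle.trans (hp.append_right acc).symm))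
      · have h1' : ∀ i ∈ l, ent i ∈ os := fun i hi =>
          (List.mem_cons.1 (h1 i hi)).resolve_left fun e => he ⟨i, hi, e⟩
        refine Or.inl ⟨?_, ih _ hs2 (fun o ho => hr o (by simp [ho])) l acc _ _ _ _ _ _ _ h1'
          h2 h3 h4 h5 h6 h7 h8 h9⟩
        cases l with
        | nil => simp only [List.map_nil, List.sum_nil] at h2 h3; omega
        | cons i l =>
          cases os with
          | nil => simpa using h1' i (by simp)
          | cons _ _ => rfl

theorem rgo_sound {ι : Type*} {p r : ℕ} {W : ℕ → ℤ} {fin : ℤ → Bool} (n : ι → ℤ) (d : ι → ℕ)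
    (l : List ι) (h : ∀ i ∈ l, n i = 0 ∨ n i = co p r (d i)) (s s' : ℕ) (D D' A C u u' : ℤ)
    (hs : s = (l.map fun i => (n i).natAbs ^ 2).sum + s')
    (hD : D = (l.map fun i => n i * d i).sum + D') (hA : A = (l.map fun i => n i * Af (d i)).sum)
    (hC : C = (l.map fun i => n i * Cf (d i)).sum) (hz : zr p r s' D' = true)
    (hu : u' = u + (l.map fun i => n i * W (d i)).sum) (hf : fin u' = true) :
    rgo p r W fin (l.map d) s D A C u = true := by
  induction l generalizing s D A C u with
  | nil => simp_all [rgo]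
  | cons i l ih =>
    simp only [List.map_cons, List.sum_cons] at hs hD hA hC hu
    simp only [List.map_cons, rgo, Bool.or_eq_true, Bool.and_eq_true, Nat.ble_eq, bne_iff_ne]
    have h' : ∀ j ∈ l, n j = 0 ∨ n j = co p r (d j) := fun j hj => h j (by simp [hj])
    by_cases e : n i = 0
    · simp only [e, Int.natAbs_zero, zero_mul, zero_add, ne_eq, OfNat.ofNat_ne_zero,
        not_false_eq_true, zero_pow] at hs hD hA hC hu
      exact Or.inl (ih h' _ _ _ _ _ hs hD hA hC hu)
    · have e' := (h i (by simp)).resolve_left e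
      rw [← e']
      exact Or.inr ⟨e, by omega, ih h' _ _ _ _ _ (by omega) (by linarith) (by linarith)
        (by linarith) (by linarith)⟩

theorem exists_perm_map {ι κ : Type*} (f : ι → κ) {l : List ι} {L : List κ}
    (h : L.Perm (l.map f)) : ∃ l' : List ι, l'.Perm l ∧ l'.map f = L := by
  classical
  induction L generalizing l with
  | nil => exact ⟨[], by rw [List.map_eq_nil_iff.1 h.symm.eq_nil], rfl⟩
  | cons a L ih =>
    obtain ⟨i, hi, rfl⟩ := List.mem_map.1 (h.subset List.mem_cons_self)
    have hp := List.perm_cons_erase hi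
    obtain ⟨l', h1, h2⟩ := ih (List.Perm.cons_inv (h.trans (hp.map f)))
    exact ⟨i :: l', (h1.cons i).trans hp.symm, by rw [List.map_cons, h2]⟩

theorem co_eq {p r d : ℕ} {n : ℤ} (pp : p = 5 ∨ p = 7) (h : (p : ℤ) ∣ n - r * d)
    (h1 : 2 * n.natAbs < p) : n = co p r d := by
  unfold co
  rw [← Nat.cast_mul] at h
  generalize r * d = t at *
  cases e : Nat.blt (2 * (t % p)) p
  · have : ¬ (2 * (t % p) < p) := by rw [← Nat.blt_eq, e]; simp
    simp only [cond_false]
    rcases pp with rfl | rfl <;> omega
  · have : 2 * (t % p) < p := by rw [← Nat.blt_eq, e]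
    simp only [cond_true]
    rcases pp with rfl | rfl <;> omega

end Cfsg.Agent.H7.B24
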