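import Cfsg.Agent.H1.ElA

set_option autoImplicit false

namespace Cfsg.Agent.H1.El

theorem s1b_blk {G Ω : Type*} [Group G] [MulAction G Ω] (hpr : MulAction.IsPreprimitive G Ω)
    (T : Ω → Ω → Prop) (rf : ∀ a, T a a) (sy : ∀ a b, T a b → T b a)
    (tr : ∀ a b c, T a b → T b c → T a c) (inv : ∀ (g : G) a b, T a b → T (g • a) (g • b))
    (w : Ω) : (∀ b, T w b → b = w) ∨ ∀ b, T w b := by
  have hB : MulAction.IsBlock G {b | T w b} := by
    rw [MulAction.isBlock_iff_smul_eq_of_mem]
    intro g a ha hga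
    ext c
    rw [Set.mem_smul_set_iff_inv_smul_mem]
    simp only [Set.mem_ofPred_eq] at *
    constructor
    · intro h
      have h1 := inv g _ _ h
      rw [smul_inv_smul] at h1
      exact tr _ _ _ (tr _ _ _ hga (sy _ _ (inv g _ _ ha))) h1
    · intro h
      have h1 := inv g⁻¹ _ _ h
      have h2 := inv g⁻¹ _ _ hga
      rw [inv_smul_smul] at h2
      exact tr _ _ _ (tr _ _ _ ha (sy _ _ h2)) h1
  rcases hpr.isTrivialBlock_of_isBlock hB with h | h
  · left; intro b hb; exact h hb (rf w)
  · right; intro b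
    have : b ∈ {b | T w b} := h ▸ Set.mem_univ b
    exact this

theorem s1b_dvd {G Ω : Type*} [Group G] [MulAction G Ω] {p : ℕ} (hp : p.Prime) (z : G)
    (hz : z ^ p = 1) (N : Finset Ω) (inv : ∀ a, z • a ∈ N ↔ a ∈ N) (mv : ∀ a ∈ N, z • a ≠ a) :
    p ∣ N.card := by
  classical
  by_contra hn
  haveI := Fact.mk hp
  have inv' : ∀ a, (MulAction.toPerm z : Equiv.Perm Ω) a ∈ N ↔ a ∈ N := fun a => inv a
  let σ : Equiv.Perm {a // a ∈ N} := (MulAction.toPerm z).subtypePerm inv'
  have hσ : σ ^ p ^ 1 = 1 := by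
    rw [pow_one]
    have hk : ∀ (k : ℕ) (a : {a // a ∈ N}), ((σ ^ k) a : Ω) = z ^ k • (a : Ω) := by
      intro k
      induction k with
      | zero => intro a; simp
      | succ k ih =>
        intro a
        rw [pow_succ, pow_succ, Equiv.Perm.mul_apply, ih, mul_smul]
        rfl
    ext a
    rw [hk, hz, one_smul]
    rfl
  obtain ⟨a, ha⟩ := Equiv.Perm.exists_fixed_point_of_prime (p := p) (n := 1)
    (by rw [Fintype.card_coe]; exact hn) hσ
  exact mv a.1 a.2 (congrArg Subtype.val ha)

theorem s1b_arith {p N v : ℕ} (h5 : 5 ≤ p) (hd : p ∣ N) (h : N + v * (p - 1) + 1 = p ^ 2 + p) :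
    N = p ∨ N = p ^ 2 := by
  obtain ⟨m, rfl⟩ := hd
  obtain ⟨r, rfl⟩ : ∃ r, p = r + 1 := ⟨p - 1, by omega⟩
  simp only [Nat.add_sub_cancel] at h
  have hm : m ≤ r + 1 := by
    by_contra hm
    have : r + 2 ≤ m := by omega
    nlinarith
  have h' : ((r : ℤ) + 1) * m + v * r + 1 = (r + 1) ^ 2 + (r + 1) := by exact_mod_cast h
  have ht : (m : ℤ) = 1 + r * (r + 3 - m - v) := by linear_combination h'
  generalize (r : ℤ) + 3 - m - v = t at ht
  have hm' : (m : ℤ) ≤ r + 1 := by exact_mod_cast hm
  have h4 : (4 : ℤ) ≤ r := by exact_mod_cast (show 4 ≤ r by omega)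
  have h0 : (0 : ℤ) ≤ m := by positivity
  have t0 : 0 ≤ t := by by_contra hh; have : t ≤ -1 := by omega
                        nlinarith
  have t1 : t ≤ 1 := by by_contra hh; have : 2 ≤ t := by omega
                        nlinarith
  rcases (show t = 0 ∨ t = 1 by omega) with rfl | rfl
  · left
    have : m = 1 := by omega
    rw [this, mul_one]
  · right
    have : m = r + 1 := by omega
    rw [this, pow_two]

variable {G : Type*} [Group G] [Finite G] {Ω : Type*} [MulAction G Ω] [FaithfulSMul G Ω]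
  [Fintype Ω] [DecidableEq Ω] {p q : ℕ}

variable {P : Sylow p G} {E : Subgroup G} {x : G} {F : Finset Ω}

/-- S1b (helper7) -/
theorem Cx.s1b (h : Cx p q P E x F) (hE : E = Subgroup.zpowers (x ^ p)) (hs : p + 1 = 2 * q)
    (hpr : MulAction.IsPreprimitive G Ω)
    (H : ∀ a ∈ F, ∀ b ∈ F, a ≠ b → ∀ g : G, g • a = a → g • b = b → g ∈ E) : False := by
  classical
  haveI := Fintype.ofFinite G
  have h5 := h.five.1
  have cF : F.card = p := by
    rw [h.cF, show 2 * q - p = 1 by omega, one_mul]
  have cO : Fintype.card Ω = p ^ 2 + p := by rw [h.cardF, cF]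
  let S : Ω → Ω → Prop := fun a b => ∃ g : G, g • a ∈ F ∧ g • b ∈ F
  obtain ⟨w0, hw0⟩ : F.Nonempty := Finset.card_pos.mp (by omega)
  have Srf : ∀ a, S a a := fun a => by
    obtain ⟨g, hg⟩ := h.tr a w0
    exact ⟨g, hg ▸ hw0, hg ▸ hw0⟩
  have Ssy : ∀ a b, S a b → S b a := fun a b ⟨g, h1, h2⟩ => ⟨g, h2, h1⟩
  have Sinv : ∀ (g : G) a b, S a b → S (g • a) (g • b) := fun g a b ⟨k, h1, h2⟩ =>
    ⟨k * g⁻¹, by rwa [mul_smul, inv_smul_smul], by rwa [mul_smul, inv_smul_smul]⟩
  have Sinv' : ∀ (g : G) a b, S (g • a) (g • b) → S a b := fun g a b hh => by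
    have := Sinv g⁻¹ _ _ hh
    rwa [inv_smul_smul, inv_smul_smul] at this
  have uniq : ∀ (a b : Ω) (g k : G), a ≠ b → g • a ∈ F → g • b ∈ F → k • a ∈ F → k • b ∈ F →
      ∀ c, g • c ∈ F → k • c ∈ F := by
    intro a b g k hab ga gb ka kb c gc
    rw [h.memF]
    intro e he
    have key : ∀ d : Ω, (g * k⁻¹ * e * k * g⁻¹) • g • d = g • k⁻¹ • e • k • d := fun d => by
      simp only [mul_smul, inv_smul_smul]
    have hy : g * k⁻¹ * e * k * g⁻¹ ∈ E := by
      refine H _ ga _ gb (fun hh => hab (smul_left_cancel g hh)) _ ?_ ?_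
      · rw [key, (h.memF _).1 ka e he, inv_smul_smul]
      · rw [key, (h.memF _).1 kb e he, inv_smul_smul]
    have := (h.memF _).1 gc _ hy
    rw [key] at this
    have := smul_left_cancel g this
    rw [inv_smul_eq_iff] at this
    exact this
  let N : Ω → Finset Ω := fun a => Finset.univ.filter fun b => ¬ S a b
  have memN : ∀ a b, b ∈ N a ↔ ¬ S a b := fun a b => by simp [N]
  have Nle : ∀ (g : G) a, (N a).card ≤ (N (g • a)).card := fun g a => by
    refine Finset.card_le_card_of_injOn (fun b => g • b) ?_ ?_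
    · intro b hb
      rw [Finset.mem_coe, memN] at *
      exact fun hh => hb (Sinv' g _ _ hh)
    · intro b _ c _ hh
      exact smul_left_cancel g hh
  have Neq : ∀ a, (N a).card = (N w0).card := fun a => by
    obtain ⟨g, hg⟩ := h.tr a w0
    obtain ⟨k, hk⟩ := h.tr w0 a
    exact le_antisymm (hg ▸ Nle g a) (hk ▸ Nle k w0)
  have zp : (x ^ p) ^ p = 1 := (h.om _ (h.le h.zE)).2 h.zE
  have zw : x ^ p • w0 = w0 := (h.memF _).1 hw0 _ h.zE
  have hd : p ∣ (N w0).card := by
    refine s1b_dvd h.hp (x ^ p) zp _ (fun a => ?_) (fun a ha => ?_)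
    · rw [memN, memN]
      constructor
      · intro hh h2
        exact hh (zw ▸ Sinv (x ^ p) _ _ h2)
      · intro hh h2
        rw [← zw] at h2
        exact hh (Sinv' (x ^ p) _ _ h2)
    · refine h.zmv a fun haF => (memN _ _).1 ha ⟨1, by rwa [one_smul], by rwa [one_smul]⟩
  let l : G → Finset Ω := fun g => (Finset.univ.filter fun c => g • c ∈ F).erase w0
  let L : Finset (Finset Ω) := (Finset.univ.filter fun g : G => g • w0 ∈ F).image l
  have meml : ∀ g c, c ∈ l g ↔ c ≠ w0 ∧ g • c ∈ F := fun g c => by simp [l]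
  have cl' : ∀ u ∈ L, u.card = p - 1 := by
    intro u hu
    obtain ⟨g, hg, rfl⟩ := Finset.mem_image.1 hu
    rw [Finset.mem_filter] at hg
    have : (Finset.univ.filter fun c => g • c ∈ F).card = F.card := by
      refine Finset.card_bij (fun c _ => g • c) ?_ ?_ ?_
      · intro c hc; exact (Finset.mem_filter.1 hc).2
      · intro b _ c _ hh; exact smul_left_cancel g hh
      · intro c hc
        exact ⟨g⁻¹ • c, by simpa using hc, smul_inv_smul g c⟩
    simp only [l]
    rw [Finset.card_erase_of_mem (by simpa using hg.2), this, cF]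
  have hdis : (L : Set (Finset Ω)).PairwiseDisjoint id := by
    intro u hu v hv huv
    obtain ⟨g, hg, rfl⟩ := Finset.mem_image.1 hu
    obtain ⟨k, hk, rfl⟩ := Finset.mem_image.1 hv
    rw [Finset.mem_filter] at hg hk
    rw [Function.onFun, Finset.disjoint_left]
    intro c hc hc'
    simp only [id] at hc hc'
    rw [meml] at hc hc'
    apply huv
    ext d
    rw [meml, meml]
    exact ⟨fun hh => ⟨hh.1, uniq c w0 g k hc.1 hc.2 hg.2 hc'.2 hk.2 d hh.2⟩,
      fun hh => ⟨hh.1, uniq c w0 k g hc.1 hc'.2 hk.2 hc.2 hg.2 d hh.2⟩⟩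
  have cD : (L.biUnion id).card = L.card * (p - 1) := by
    rw [Finset.card_biUnion hdis]
    exact Finset.sum_const_nat (m := p - 1) (fun u hu => cl' u hu)
  have hD : (N w0)ᶜ = insert w0 (L.biUnion id) := by
    ext b
    rw [Finset.mem_compl, memN, not_not, Finset.mem_insert, Finset.mem_biUnion]
    constructor
    · rintro ⟨g, h1, h2⟩
      by_cases hb : b = w0
      · exact Or.inl hb
      · exact Or.inr ⟨l g, Finset.mem_image.2 ⟨g, by simpa using h1, rfl⟩, (meml _ _).2 ⟨hb, h2⟩⟩
    · rintro (rfl | ⟨u, hu, hb⟩)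
      · exact Srf _
      · obtain ⟨g, hg, rfl⟩ := Finset.mem_image.1 hu
        exact ⟨g, (Finset.mem_filter.1 hg).2, ((meml _ _).1 hb).2⟩
  have hnw : w0 ∉ L.biUnion id := by
    rw [Finset.mem_biUnion]
    rintro ⟨u, hu, hb⟩
    obtain ⟨g, hg, rfl⟩ := Finset.mem_image.1 hu
    exact ((meml _ _).1 hb).1 rfl
  have hsum : (N w0).card + L.card * (p - 1) + 1 = p ^ 2 + p := by
    have := Finset.card_add_card_compl (N w0)
    rw [hD, Finset.card_insert_of_notMem hnw, cD, cO] at this
    omega
  have xF : ∀ (k : ℕ) a, a ∈ F → x ^ k • a ∈ F := fun k a ha =>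
    (h.invF (h.nrm _ (pow_mem h.xP k)) a).2 ha
  have xw : x • w0 ≠ w0 := fun hh => by
    have := (h.regF hw0 (k := 1)).1 (by rwa [pow_one])
    have := Nat.le_of_dvd one_pos this
    omega
  rcases s1b_arith h5 hd hsum with hN | hN
  · have orbN : ∀ a ∈ F, ∀ w, ¬ S a w → ∀ c, ¬ S a c → ∃ k < p, c = x ^ (p * k) • w := by
      intro a ha w hw c hc
      have hwF : w ∉ F := fun hh => hw ⟨1, by rwa [one_smul], by rwa [one_smul]⟩
      have hsub : (Finset.range p).image (fun k => x ^ (p * k) • w) ⊆ N a := by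
        intro d hd
        obtain ⟨k, -, rfl⟩ := Finset.mem_image.1 hd
        rw [memN]
        intro hh
        have e1 : x ^ (p * k) • a = a := (h.regF ha).2 (Dvd.intro _ rfl)
        rw [← e1] at hh
        exact hw (Sinv' _ _ _ hh)
      have aux : ∀ i j, i < j → j < p → x ^ (p * i) • w ≠ x ^ (p * j) • w := by
        intro i j hij hj hh
        obtain ⟨d, rfl⟩ := Nat.exists_eq_add_of_lt hij
        rw [show p * (i + d + 1) = p * i + p * (d + 1) by ring, pow_add, mul_smul] at hh
        have := (h.reg hwF).1 (smul_left_cancel _ hh).symm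
        rw [pow_two] at this
        have := Nat.le_of_dvd (by omega) (Nat.dvd_of_mul_dvd_mul_left (by omega) this)
        omega
      have hcard : ((Finset.range p).image (fun k => x ^ (p * k) • w)).card = p := by
        rw [Finset.card_image_of_injOn, Finset.card_range]
        intro i hi j hj hh
        rw [Finset.mem_coe, Finset.mem_range] at hi hj
        rcases lt_trichotomy i j with h1 | h1 | h1
        · exact (aux i j h1 hj hh).elim
        · exact h1
        · exact (aux j i h1 hi hh.symm).elim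
      have := Finset.eq_of_subset_of_card_le hsub (by rw [hcard, Neq, hN])
      have hc' := (memN _ _).2 hc
      rw [← this] at hc'
      obtain ⟨k, hk, rfl⟩ := Finset.mem_image.1 hc'
      exact ⟨k, Finset.mem_range.1 hk, rfl⟩
    have orbF : ∀ a ∈ F, ∀ b ∈ F, ∃ j : ℕ, b = x ^ j • a := by
      intro a ha b hb
      have hsub : (Finset.range p).image (fun k => x ^ k • a) ⊆ F := by
        intro d hd
        obtain ⟨k, -, rfl⟩ := Finset.mem_image.1 hd
        exact xF k a ha
      have aux : ∀ i j, i < j → j < p → x ^ i • a ≠ x ^ j • a := by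
        intro i j hij hj hh
        obtain ⟨d, rfl⟩ := Nat.exists_eq_add_of_lt hij
        rw [add_assoc, pow_add, mul_smul] at hh
        have := (h.regF ha).1 (smul_left_cancel _ hh).symm
        have := Nat.le_of_dvd (by omega) this
        omega
      have hcard : ((Finset.range p).image (fun k => x ^ k • a)).card = p := by
        rw [Finset.card_image_of_injOn, Finset.card_range]
        intro i hi j hj hh
        rw [Finset.mem_coe, Finset.mem_range] at hi hj
        rcases lt_trichotomy i j with h1 | h1 | h1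
        · exact (aux i j h1 hj hh).elim
        · exact h1
        · exact (aux j i h1 hi hh.symm).elim
      have := Finset.eq_of_subset_of_card_le hsub (by rw [hcard, cF])
      rw [← this] at hb
      obtain ⟨k, -, rfl⟩ := Finset.mem_image.1 hb
      exact ⟨k, rfl⟩
    have key : ∀ a b w, ¬ S a w → ¬ S b w → S a b → a = b := by
      rintro a b w h1 h2 ⟨g, ga, gb⟩
      have h1' : ¬ S (g • a) (g • w) := fun hh => h1 (Sinv' g _ _ hh)
      have h2' : ¬ S (g • b) (g • w) := fun hh => h2 (Sinv' g _ _ hh)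
      have hwF : g • w ∉ F := fun hh => h1 ⟨g, ga, hh⟩
      obtain ⟨j, hj⟩ := orbF _ ga _ gb
      have h3 : ¬ S (g • b) (x ^ j • g • w) := fun hh => by
        rw [hj] at hh
        exact h1' (Sinv' _ _ _ hh)
      obtain ⟨k, hk, e⟩ := orbN _ gb _ h2' _ h3
      have e2 : x ^ (p * (p - k) + j) • g • w = g • w := by
        rw [pow_add, mul_smul, e, ← mul_smul, ← pow_add]
        refine (h.reg hwF).2 ?_
        rw [← mul_add, Nat.sub_add_cancel hk.le, pow_two]
      have e3 : p ∣ p * (p - k) + j := (Dvd.intro _ (pow_two p).symm).trans ((h.reg hwF).1 e2)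
      have e4 : p ∣ j := (Nat.dvd_add_right (Dvd.intro _ rfl)).1 e3
      rw [(h.regF ga).2 e4] at hj
      exact (smul_left_cancel g hj).symm
    rcases s1b_blk hpr (fun a b => a = b ∨ ¬ S a b) (fun a => Or.inl rfl)
      (fun a b hh => hh.imp Eq.symm fun h1 h2 => h1 (Ssy _ _ h2))
      (by
        rintro a b c (rfl | h1) h2
        · exact h2
        · rcases h2 with rfl | h2
          · exact Or.inr h1
          · by_cases h3 : S a c
            · exact Or.inl (key a c b h1 (fun hh => h2 (Ssy _ _ hh)) h3)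
            · exact Or.inr h3)
      (fun g a b hh => hh.imp (fun e => by rw [e]) fun h1 h2 => h1 (Sinv' g _ _ h2)) w0 with hb | hb
    · obtain ⟨b, hb'⟩ : (N w0).Nonempty := Finset.card_pos.mp (by omega)
      have h1 := (memN _ _).1 hb'
      have := hb b (Or.inr h1)
      subst this
      exact h1 (Srf _)
    · rcases hb (x • w0) with h1 | h1
      · exact xw h1.symm
      · refine h1 ⟨1, by rwa [one_smul], ?_⟩
        rw [one_smul]
        simpa using xF 1 w0 hw0
  · have SF : ∀ a ∈ F, ∀ b, S a b → b ∈ F := by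
      intro a ha b hb
      have hsub : F ⊆ (N a)ᶜ := by
        intro d hd
        rw [Finset.mem_compl, memN, not_not]
        exact ⟨1, by rwa [one_smul], by rwa [one_smul]⟩
      have hc := Finset.card_add_card_compl (N a)
      rw [Neq, hN, cO] at hc
      have := Finset.eq_of_subset_of_card_le hsub (by omega)
      rw [this, Finset.mem_compl, memN, not_not]
      exact hb
    rcases s1b_blk hpr S Srf Ssy
      (by
        rintro a b c ⟨g, ga, gb⟩ h2
        exact ⟨g, ga, SF _ gb _ (Sinv g _ _ h2)⟩) Sinv w0 with hb | hb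
    · refine xw (hb _ ⟨1, by rwa [one_smul], ?_⟩)
      rw [one_smul]
      simpa using xF 1 w0 hw0
    · obtain ⟨b, hb'⟩ : (N w0).Nonempty := Finset.card_pos.mp (by rw [hN]; positivity)
      exact (memN _ _).1 hb' (hb b)

end Cfsg.Agent.H1.El
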