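import Cfsg.Agent.H7.Socle
import Cfsg.Agent.H7.Manning
import Cfsg.Agent.H7.SelfNormCent

/-!
Extremely primitive groups are affine or almost simple.
-/

set_option autoImplicit false

namespace Cfsg.Agent.H7

open Subgroup MulAction
open scoped Pointwise

variable {G Ω : Type*} [Group G] [MulAction G Ω]

/-- A point stabilizer in a primitive constituent is maximal. -/
theorem eq_or_eq_of_isPreprimitive_orbit {H K : Subgroup G} {b : Ω}
    (hp : IsPreprimitive H (orbit H b)) (h1 : H ⊓ stabilizer G b ≤ K) (h2 : K ≤ H) :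
    K = H ⊓ stabilizer G b ∨ K = H := by
  have h3 : stabilizer H (⟨b, mem_orbit_self b⟩ : orbit H b) ≤ K.subgroupOf H := by
    intro x hx
    exact h1 ⟨x.2, congrArg Subtype.val hx⟩
  rcases eq_or_eq_top_of_stabilizer_le h3 with h4 | h4
  · left
    refine le_antisymm (fun x hx => ⟨h2 hx, ?_⟩) h1
    have : (⟨x, h2 hx⟩ : H) ∈ K.subgroupOf H := hx
    rw [h4] at this
    exact congrArg Subtype.val this
  · right
    exact le_antisymm h2 (subgroupOf_eq_top.1 h4)

variable [Finite G] [Finite Ω] [FaithfulSMul G Ω] [IsPreprimitive G Ω]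

theorem normalizer_inf_le_of_ep
    (hep : ∀ α ω : Ω, IsPreprimitive (stabilizer G α) (orbit (stabilizer G α) ω))
    {a b : Ω} (hab : b ≠ a) {X : Subgroup G} (hX : X ≠ ⊥)
    (hn : NormalIn X (stabilizer G a ⊓ stabilizer G b)) :
    normalizer (X : Set G) ⊓ stabilizer G a ≤ stabilizer G b := by
  rcases eq_or_eq_of_isPreprimitive_orbit (hep a b) (K := normalizer (X : Set G) ⊓ stabilizer G a)
    (le_inf hn.2 inf_le_left) inf_le_right with h | h
  · rw [h]; exact inf_le_right
  · exact (hX (manning hep ⟨hn.1.trans inf_le_left, inf_eq_right.1 h⟩ hab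
      (hn.1.trans inf_le_right))).elim

theorem inf_stabilizer_eq_of_ep
    (hep : ∀ α ω : Ω, IsPreprimitive (stabilizer G α) (orbit (stabilizer G α) ω))
    {a b c : Ω} (hH : stabilizer G a ≠ ⊥) (hac : c ≠ a)
    (h : stabilizer G a ⊓ stabilizer G b ≤ stabilizer G c) :
    stabilizer G a ⊓ stabilizer G c = stabilizer G a ⊓ stabilizer G b := by
  refine (eq_or_eq_of_isPreprimitive_orbit (hep a b) (le_inf inf_le_left h)
    inf_le_left).resolve_right fun h' => hH ?_
  exact stabilizer_eq_bot_of_le hac.symm (inf_eq_left.1 h')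

theorem false_of_ep_of_centralizer_transitive
    (hep : ∀ α ω : Ω, IsPreprimitive (stabilizer G α) (orbit (stabilizer G α) ω))
    (a : Ω) (hH : stabilizer G a ≠ ⊥)
    {T C : Subgroup G} [IsSimpleGroup T] (hnc : ¬ IsMulCommutative T)
    (hC : C ≤ centralizer (T : Set G)) (hCt : IsPretransitive C Ω) (hN : (T ⊔ C).Normal)
    (hconj : ∀ g : G, ∀ t ∈ T, g * t * g⁻¹ ∈ T ∨ g * t * g⁻¹ ∈ centralizer (T : Set G)) :
    False := by
  have hsr : ∀ t ∈ T, t • a = a → t = 1 := fun t ht h =>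
    eq_one_of_mem_centralizer hCt (le_centralizer_iff.1 hC ht) h
  have hinj : ∀ s ∈ T, ∀ t ∈ T, s • a = t • a → s = t := fun s hs t ht h => by
    have := hsr (t⁻¹ * s) (T.mul_mem (T.inv_mem ht) hs) (by rw [mul_smul, h, inv_smul_smul])
    exact (inv_mul_eq_one.1 this).symm
  have key : ∀ c ∈ C, ∀ s ∈ T, ∀ t ∈ T, (c * s) • a = a →
      ((c * s) • t • a = t • a ↔ s * t = t * s) := by
    intro c hc s hs t ht h
    have e : t • a = c • (t * s) • a := by
      conv_lhs => rw [← h]
      rw [← mul_smul, ← mul_smul, ← mul_assoc, hC hc t ht, mul_assoc]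
    rw [mul_smul, ← mul_smul s, e]
    conv_lhs => rw [← e]
    rw [e, smul_left_cancel_iff]
    exact ⟨hinj _ (T.mul_mem hs ht) _ (T.mul_mem ht hs), fun h' => by rw [h']⟩
  have hd : ∀ s : G, ∃ c ∈ C, (c * s) • a = a := fun s => by
    obtain ⟨c, hc⟩ := hCt.exists_smul_eq (s • a) a
    exact ⟨c, c.2, by rw [mul_smul]; exact hc⟩
  have hpow : ∀ t ∈ T, ∀ n : ℕ,
      stabilizer G a ⊓ stabilizer G (t • a) ≤ stabilizer G (t ^ n • a) := by
    rintro t ht n h ⟨h1, h2⟩
    have h1' : h⁻¹ • a = a := (stabilizer G a).inv_mem h1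
    have hu : (h * t * h⁻¹) • a = t • a := by
      rw [mul_smul, mul_smul, h1']; exact h2
    have hcomm : Commute t (h * t * h⁻¹) := by
      rcases hconj h t ht with h3 | h3
      · rw [hinj _ h3 _ ht hu]
      · exact h3 t ht
    have : ∀ n : ℕ, (h * t * h⁻¹) ^ n • a = t ^ n • a := by
      intro n
      induction n with
      | zero => simp
      | succ n ih =>
        rw [pow_succ, mul_smul, hu, ← mul_smul, ← (hcomm.pow_right n).eq, mul_smul, ih, ← mul_smul,
          pow_succ']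
    have h4 := this n
    rw [conj_pow, mul_smul, mul_smul, h1'] at h4
    exact h4
  have hne : ∀ t : T, t ≠ 1 → (t : G) • a ≠ a := fun t ht h =>
    ht (Subtype.ext (hsr t t.2 h))
  apply false_of_centralizer_conditions hnc
  · intro t n htn
    have h1 := inf_stabilizer_eq_of_ep hep hH (hne _ htn) (hpow t t.2 n)
    ext s
    obtain ⟨c, hc, hcs⟩ := hd s
    have h2 := key c hc s s.2 _ t.2 hcs
    have h3 := key c hc s s.2 _ (t ^ n).2 hcs
    rw [mem_centralizer_singleton_iff, mem_centralizer_singleton_iff, Subtype.ext_iff,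
      Subtype.ext_iff, coe_mul, coe_mul, coe_mul, coe_mul, ← h2, ← h3]
    have h4 := SetLike.ext_iff.1 h1 (c * s)
    simp only [mem_inf, mem_stabilizer_iff, hcs, true_and] at h4
    exact h4
  · intro t ht s hs
    let X : Subgroup G := (T ⊔ C) ⊓ (stabilizer G a ⊓ stabilizer G ((t : G) • a))
    have hXn : NormalIn X (stabilizer G a ⊓ stabilizer G ((t : G) • a)) :=
      NormalIn.mk' inf_le_right fun b hb x hx =>
        ⟨hN.conj_mem _ hx.1 b, Subgroup.mul_mem _ (Subgroup.mul_mem _ hb hx.2) (Subgroup.inv_mem _ hb)⟩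
    have hX : X ≠ ⊥ := by
      obtain ⟨c, hc, hct⟩ := hd t
      intro h
      have h1 : c * t ∈ X := ⟨mul_mem (mem_sup_right hc) (mem_sup_left t.2), hct,
        (key c hc t t.2 t t.2 hct).2 rfl⟩
      rw [h, mem_bot, mul_eq_one_iff_eq_inv'] at h1
      have h2 : t ∈ center T := by
        rw [mem_center_iff]
        intro u
        apply Subtype.ext
        have := inv_mem (hC hc) u u.2
        rw [← h1] at this
        exact this
      rcases (inferInstance : (center T).Normal).eq_bot_or_eq_top with h3 | h3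
      · rw [h3] at h2; exact ht h2
      · exact hnc ⟨⟨fun x y => (mem_center_iff.1 (h3 ▸ mem_top y) x)⟩⟩
    have h1 := normalizer_inf_le_of_ep hep (hne t ht) hX hXn
    obtain ⟨c, hc, hcs⟩ := hd s
    have h2 : c * s ∈ normalizer (X : Set G) := by
      apply mem_normalizer_fintype
      intro x hx
      have hx1 : x ∈ ((C ⊔ T : Subgroup G) : Set G) := by rw [sup_comm]; exact hx.1
      rw [coe_mul_of_right_le_normalizer_left _ _
        ((le_centralizer_iff.1 hC).trans (centralizer_le_normalizer _))] at hx1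
      obtain ⟨c', hc', s', hs', rfl⟩ := hx1
      have hs'c : (⟨s', hs'⟩ : T) ∈ centralizer ({t} : Set T) := by
        rw [mem_centralizer_singleton_iff]
        exact Subtype.ext ((key c' hc' s' hs' t t.2 hx.2.1).1 hx.2.2)
      have h3 := (mem_normalizer_iff.1 hs _).1 hs'c
      rw [mem_centralizer_singleton_iff, Subtype.ext_iff] at h3
      have e : c * s * (c' * s') * (c * s)⁻¹ = (c * c' * c⁻¹) * (s * s' * (s : G)⁻¹) := by
        have e1 := hC hc' s s.2
        have e2 := inv_mem (hC hc) _ (T.mul_mem (T.mul_mem s.2 hs') (T.inv_mem s.2))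
        calc c * s * (c' * s') * (c * s)⁻¹ = c * (s * c') * s' * (s : G)⁻¹ * c⁻¹ := by group
          _ = c * c' * (s * s' * (s : G)⁻¹ * c⁻¹) := by rw [e1]; group
          _ = _ := by rw [e2]; group
      have h4 : c * s * (c' * s') * (c * s)⁻¹ ∈ stabilizer G a :=
        mul_mem (mul_mem hcs hx.2.1) (inv_mem hcs)
      refine ⟨hN.conj_mem _ hx.1 _, h4, ?_⟩
      rw [e] at h4 ⊢
      exact (key _ (mul_mem (mul_mem hc hc') (inv_mem hc)) _
        (T.mul_mem (T.mul_mem s.2 hs') (T.inv_mem s.2)) t t.2 h4).2 h3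
    have h3 := h1 ⟨h2, hcs⟩
    rw [mem_centralizer_singleton_iff]
    exact Subtype.ext ((key c hc s s.2 t t.2 hcs).1 h3)

omit [Finite G] [Finite Ω] [FaithfulSMul G Ω] [IsPreprimitive G Ω] in
theorem exists_mul_stabilizer {N : Subgroup G} (hN : IsPretransitive N Ω) (a : Ω) (g : G) :
    ∃ n ∈ N, ∃ h ∈ stabilizer G a, g = n * h := by
  obtain ⟨n, hn⟩ := hN.exists_smul_eq a (g • a)
  refine ⟨n, n.2, (n : G)⁻¹ * g, ?_, by group⟩
  rw [mem_stabilizer_iff, mul_smul, inv_smul_eq_iff]
  exact hn.symm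

theorem false_of_ep_of_regular
    (hep : ∀ α ω : Ω, IsPreprimitive (stabilizer G α) (orbit (stabilizer G α) ω))
    (a : Ω) {N T : Subgroup G} (hN : IsMinNormal N) (hc : ⁅N, N⁆ ≠ ⊥) (hT : CompIn T N)
    (hTN : T ≠ N) (hsr : ∀ n ∈ N, n • a = a → n = 1) : False := by
  have := hN.1
  have hF := hN.fittingIn_eq_bot hc
  have hE := hN.layerIn_eq hc
  have hNt : IsPretransitive N Ω := isPretransitive_of_normal_of_ne_bot N hN.ne_bot
  have hTN' : NormalIn T N := hE ▸ hT.normalIn_layerIn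
  have hcomp : ∀ g : G, MulAut.conj g • T = T ∨ ⁅MulAut.conj g • T, T⁆ = ⊥ := fun g => by
    have := hT.smul g
    rw [hN.smul] at this
    exact this.eq_or_commutator hT
  obtain ⟨⟨t, htT⟩, ht⟩ := ne_bot_iff_exists_ne_one.1 hT.ne_bot
  have ht1 : t ≠ 1 := fun h => ht (Subtype.ext h)
  have hfix : ∀ h ∈ stabilizer G a, h • t • a = t • a ↔ h * t * h⁻¹ = t := by
    intro h hh
    have hh' : h⁻¹ • a = a := inv_mem hh
    constructor
    · intro h1
      have := hsr (t⁻¹ * (h * t * h⁻¹)) (N.mul_mem (N.inv_mem (hT.le htT))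
        (hN.1.conj_mem _ (hT.le htT) h))
        (by rw [mul_smul, mul_smul, mul_smul, hh', h1, inv_smul_smul])
      exact (inv_mul_eq_one.1 this).symm
    · intro h1
      conv_rhs => rw [← h1, mul_smul, mul_smul, hh']
  have h1 : stabilizer G a ⊓ stabilizer G (t • a) ≤ normalizer (T : Set G) ⊓ stabilizer G a := by
    rintro h ⟨h1, h2⟩
    refine ⟨conj_smul_eq_iff_mem_normalizer.1 ((hcomp h).resolve_right fun h3 => ht1 ?_), h1⟩
    have h4 : t ∈ MulAut.conj h • T := by
      rw [← (hfix h h1).1 h2]; exact conj_mem_conj_smul.2 htT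
    have h5 : t ∈ centralizer (T : Set G) ⊓ T :=
      ⟨commutator_eq_bot_iff_le_centralizer.1 h3 h4, htT⟩
    rwa [hT.1.centralizer_inf_eq_bot hF, mem_bot] at h5
  rcases eq_or_eq_of_isPreprimitive_orbit (hep a (t • a)) h1 inf_le_right with h2 | h2
  · have h3 : ∀ h ∈ stabilizer G a, Commute (h * t * h⁻¹) t := by
      intro h hh
      rcases hcomp h with h3 | h3
      · have : h ∈ normalizer (T : Set G) ⊓ stabilizer G a :=
          ⟨conj_smul_eq_iff_mem_normalizer.1 h3, hh⟩
        rw [h2] at this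
        rw [(hfix h hh).1 this.2]
      · exact commute_of_commutator_eq_bot h3 (conj_mem_conj_smul.2 htT) htT
    let S : Set G := {x | ∃ h ∈ stabilizer G a, x = h * t * h⁻¹}
    have hS : ∀ x ∈ S, ∀ y ∈ S, x * y = y * x := by
      rintro _ ⟨h, hh, rfl⟩ _ ⟨k, hk, rfl⟩
      have := (h3 (k⁻¹ * h) (mul_mem (inv_mem hk) hh)).eq
      calc h * t * h⁻¹ * (k * t * k⁻¹) = k * (k⁻¹ * h * t * (k⁻¹ * h)⁻¹ * t) * k⁻¹ := by group
        _ = _ := by rw [this]; group
    have hA : closure S ≤ centralizer (closure S : Set G) := by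
      rw [centralizer_closure, closure_le]
      exact fun x hx y hy => hS y hy x hx
    have htS : t ∈ closure S := subset_closure ⟨1, one_mem _, by simp⟩
    have hAH : stabilizer G a ≤ normalizer (closure S : Set G) := by
      rw [le_normalizer_iff]
      intro h hh x hx
      have : closure S ≤ (closure S).comap (MulAut.conj h).toMonoidHom := by
        rw [closure_le]
        rintro _ ⟨k, hk, rfl⟩
        exact subset_closure ⟨h * k, mul_mem hh hk, by simp [mul_assoc]⟩
      exact this hx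
    rcases eq_or_eq_top_of_stabilizer_le hAH with h4 | h4
    · have : t ∈ stabilizer G a := h4 ▸ le_normalizer htS
      exact ht1 (hsr t (hT.le htT) this)
    · have h5 := hN.eq_of_le (normalizer_eq_top_iff.1 h4)
        (fun h => ht1 (by rwa [h, mem_bot] at htS)) (by
          rw [closure_le]
          rintro _ ⟨h, hh, rfl⟩
          exact hN.1.conj_mem _ (hT.le htT) h)
      rw [h5] at hA
      exact hc (commutator_eq_bot_iff_le_centralizer.2 hA)
  · apply hTN
    refine hN.eq_of_le (normalizer_eq_top_iff.1 (eq_top_iff.2 fun g _ => ?_)) hT.ne_bot hT.le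
    obtain ⟨n, hn, h, hh, rfl⟩ := exists_mul_stabilizer hNt a g
    exact mul_mem (hTN'.2 hn) (inf_eq_right.1 h2 hh)

theorem centralizer_transitive_of_ep
    (hep : ∀ α ω : Ω, IsPreprimitive (stabilizer G α) (orbit (stabilizer G α) ω))
    (a : Ω) {N T : Subgroup G} (hN : IsMinNormal N) (hc : ⁅N, N⁆ ≠ ⊥) (hT : CompIn T N)
    (hTN : T ≠ N) (hsr : N ⊓ stabilizer G a ≠ ⊥) :
    IsPretransitive (centralizer (T : Set G) ⊓ N : Subgroup G) Ω := by
  have := hN.1
  have hF := hN.fittingIn_eq_bot hc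
  have hE := hN.layerIn_eq hc
  have hNt : IsPretransitive N Ω := isPretransitive_of_normal_of_ne_bot N hN.ne_bot
  have hNa : NormalIn (N ⊓ stabilizer G a) (stabilizer G a) :=
    NormalIn.mk' inf_le_right fun b hb x hx =>
      ⟨hN.1.conj_mem _ hx.1 b,
        Subgroup.mul_mem _ (Subgroup.mul_mem _ hb hx.2) (Subgroup.inv_mem _ hb)⟩
  have hLN : ∀ L, CompIn L N → NormalIn L N := fun L hL => hE ▸ hL.normalIn_layerIn
  have h1 : ∀ L, CompIn L N → ∀ m ∈ N, m • a = a → m ∈ centralizer (L : Set G) → m = 1 := by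
    intro L hL m hmN hma hmL
    have h2 : ¬ L ≤ stabilizer G a := fun h =>
      hL.ne_bot ((hLN L hL).eq_bot_of_le_stabilizer hNt h)
    obtain ⟨t, htL, hta⟩ := SetLike.not_le_iff_exists.1 h2
    have h3 := orbit_eq_of_normalIn (hep a (t • a)) hNa fun h => hsr (manning hep hNa hta h)
    have h4 := manning hep (coreIn_normalIn (stabilizer G (t • a)) (stabilizer G a)) hta
      (coreIn_le_left _ _)
    rw [← mem_bot, ← h4, mem_coreIn_stabilizer, ← h3]
    refine ⟨hma, ?_⟩
    rintro _ ⟨⟨n, hn⟩, rfl⟩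
    change m • n • t • a = n • t • a
    have hn' : n⁻¹ • a = a := (stabilizer G a).inv_mem hn.2
    have e : n • t • a = (n * t * n⁻¹) • a := by rw [mul_smul, mul_smul, hn']
    rw [e, ← mul_smul, ← hmL _ ((hLN L hL).conj_mem htL hn.1), mul_smul, hma]
  let U : Subgroup G := ⨅ L : {L // CompIn L N},
    (N ⊓ stabilizer G a) ⊔ (centralizer (L.1 : Set G) ⊓ N)
  have hUN : U ≤ N := (iInf_le _ ⟨T, hT⟩).trans (sup_le inf_le_left inf_le_right)
  have hNU : N ⊓ stabilizer G a ≤ U := le_iInf fun L => le_sup_left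
  have hHU : stabilizer G a ≤ normalizer (U : Set G) := by
    rw [le_normalizer_iff]
    intro h hh x hx
    rw [mem_iInf] at hx ⊢
    intro L
    have hL : CompIn (MulAut.conj h⁻¹ • L.1) N := by
      have := L.2.smul h⁻¹
      rwa [hN.smul] at this
    have : (N ⊓ stabilizer G a) ⊔ (centralizer ((MulAut.conj h⁻¹ • L.1 : Subgroup G) : Set G) ⊓ N)
        ≤ ((N ⊓ stabilizer G a) ⊔ (centralizer (L.1 : Set G) ⊓ N)).comap
          (MulAut.conj h).toMonoidHom := by
      refine sup_le (fun y hy => mem_sup_left (hNa.conj_mem hy hh)) fun y hy => mem_sup_right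
        ⟨fun l hl => ?_, hN.1.conj_mem _ hy.2 h⟩
      have := hy.1 (h⁻¹ * l * h⁻¹⁻¹) (conj_mem_conj_smul.2 hl)
      change l * (h * y * h⁻¹) = h * y * h⁻¹ * l
      calc l * (h * y * h⁻¹) = h * (h⁻¹ * l * h⁻¹⁻¹ * y) * h⁻¹ := by group
        _ = _ := by rw [this]; group
    exact this (hx ⟨_, hL⟩)
  rcases eq_or_eq_top_of_stabilizer_le (le_sup_right : stabilizer G a ≤ U ⊔ stabilizer G a)
    with h2 | h2
  · exfalso
    obtain ⟨T₂, hT₂, hne⟩ : ∃ T₂, CompIn T₂ N ∧ T ≠ T₂ := by
      by_contra hcon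
      push Not at hcon
      exact hTN (le_antisymm hT.le (hE ▸ layerIn_le_iff.2 fun L hL => (hcon L hL).ge))
    apply hsr
    rw [eq_bot_iff]
    rintro n ⟨hnN, hna⟩
    obtain ⟨t, ht, c, hcN, hc, rfl⟩ := hT.exists_mul (x := n) (by rw [hE]; exact hnN)
    rw [hE] at hcN
    have h3 : t ∈ U := by
      rw [mem_iInf]
      intro L
      rcases hT.eq_or_commutator L.2 with h3 | h3
      · have : t = t * c * c⁻¹ := by group
        rw [this, ← h3]
        exact mul_mem (mem_sup_left ⟨hnN, hna⟩) (mem_sup_right (inv_mem ⟨hc, hcN⟩))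
      · exact mem_sup_right ⟨commutator_eq_bot_iff_le_centralizer.1 h3 ht, hT.le ht⟩
    have h4 : t = 1 := h1 T₂ hT₂ t (hT.le ht) (sup_eq_right.1 h2 h3)
      (commutator_eq_bot_iff_le_centralizer.1 ((hT.eq_or_commutator hT₂).resolve_left hne) ht)
    rw [h4, one_mul] at hna ⊢
    exact h1 T hT c hcN hna hc
  · have h3 : N ≤ U := by
      intro n hn
      have : n ∈ ((U ⊔ stabilizer G a : Subgroup G) : Set G) := by rw [h2]; trivial
      rw [coe_mul_of_right_le_normalizer_left _ _ hHU] at this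
      obtain ⟨u, hu, h, hh, rfl⟩ := this
      exact mul_mem hu (hNU ⟨(mul_mem_cancel_left (hUN hu)).1 hn, hh⟩)
    have h4 : ∀ x, ∃ c : (centralizer (T : Set G) ⊓ N : Subgroup G), c • a = x := by
      intro x
      obtain ⟨n, rfl⟩ := hNt.exists_smul_eq a x
      have h5 : (n : G) ∈ (((centralizer (T : Set G) ⊓ N) ⊔ (N ⊓ stabilizer G a) : Subgroup G) :
          Set G) := by
        rw [sup_comm]
        exact iInf_le (fun L : {L // CompIn L N} =>
          (N ⊓ stabilizer G a) ⊔ (centralizer (L.1 : Set G) ⊓ N)) ⟨T, hT⟩ (h3 n.2)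
      rw [coe_mul_of_right_le_normalizer_left _ _
        (inf_le_left.trans (NormalIn.centralizer_inf (hLN T hT).2).2)] at h5
      obtain ⟨c, hc, h, hh, e⟩ := h5
      refine ⟨⟨c, hc⟩, ?_⟩
      change c • a = (n : G) • a
      rw [← e, mul_smul, hh.2]
    refine ⟨fun x y => ?_⟩
    obtain ⟨c, rfl⟩ := h4 x
    obtain ⟨d, rfl⟩ := h4 y
    exact ⟨d * c⁻¹, by rw [mul_smul, inv_smul_smul]⟩

/-- An extremely primitive group is affine or almost simple. -/
theorem affine_or_almostSimple_of_ep [Nontrivial Ω]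
    (hep : ∀ α ω : Ω, IsPreprimitive (stabilizer G α) (orbit (stabilizer G α) ω)) :
    (∃ N : Subgroup G, N.Normal ∧ N ≠ ⊥ ∧ IsMulCommutative N ∧ ∀ ω : Ω, stabilizer N ω = ⊥) ∨
    (∃ T : Subgroup G, T.Normal ∧ IsSimpleGroup T ∧ ¬ IsMulCommutative T ∧
      centralizer (T : Set G) = ⊥) := by
  have := nontrivial_of_faithful_of_pretransitive (G := G) (Ω := Ω)
  obtain ⟨N, hN⟩ := exists_isMinNormal G
  have := hN.1
  by_cases hc : ⁅N, N⁆ = ⊥
  · exact Or.inl ⟨N, hN.1, hN.ne_bot, isMulCommutative_iff_commutator.2 hc, fun ω =>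
      stabilizer_subgroup_eq_bot_iff.2 fun n hn => semiregular_of_comm hN.ne_bot hc n hn ω⟩
  right
  obtain ⟨a⟩ : Nonempty Ω := inferInstance
  have hH : stabilizer G a ≠ ⊥ := by
    intro h
    obtain ⟨g, hg⟩ := exists_ne (1 : G)
    rcases eq_or_eq_top_of_stabilizer_le (a := a) (H := zpowers g) (h ▸ bot_le) with h1 | h1
    · rw [h, zpowers_eq_bot] at h1
      exact hg h1
    · apply hc
      apply commutator_eq_bot_of_commute
      intro x _ y _
      obtain ⟨i, rfl⟩ : x ∈ zpowers g := h1 ▸ mem_top x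
      obtain ⟨j, rfl⟩ : y ∈ zpowers g := h1 ▸ mem_top y
      exact Commute.zpow_zpow_self g i j
  have hF := hN.fittingIn_eq_bot hc
  have hE := hN.layerIn_eq hc
  obtain ⟨T, hT⟩ := exists_compIn_of_fittingIn_eq_bot hN.ne_bot hF
  have := hT.isSimpleGroup hF
  have hconj : ∀ g : G, ∀ t ∈ T, g * t * g⁻¹ ∈ T ∨ g * t * g⁻¹ ∈ centralizer (T : Set G) := by
    intro g t ht
    have := hT.smul g
    rw [hN.smul] at this
    rcases this.eq_or_commutator hT with h | h
    · left; rw [← h]; exact conj_mem_conj_smul.2 (h.symm ▸ ht)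
    · right; exact commutator_eq_bot_iff_le_centralizer.1 h (conj_mem_conj_smul.2 ht)
  by_cases hTN : T = N
  · subst hTN
    refine ⟨T, hN.1, hT.isSimpleGroup hF, hT.not_isMulCommutative, ?_⟩
    by_contra hC
    exact false_of_ep_of_centralizer_transitive hep a hH hT.not_isMulCommutative le_rfl
      (isPretransitive_of_normal_of_ne_bot _ hC) inferInstance hconj
  exfalso
  by_cases hsr : N ⊓ stabilizer G a = ⊥
  · exact false_of_ep_of_regular hep a hN hc hT hTN fun n hn ha => by
      rw [← mem_bot, ← hsr]; exact ⟨hn, ha⟩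
  · refine false_of_ep_of_centralizer_transitive hep a hH hT.not_isMulCommutative inf_le_left
      (centralizer_transitive_of_ep hep a hN hc hT hTN hsr) ?_ hconj
    have h1 := hT.layerIn_le_sup
    rw [hE] at h1
    rw [le_antisymm (sup_le hT.le inf_le_right) h1]
    exact hN.1

end Cfsg.Agent.H7
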