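import Cfsg.Agent.H7.ExtPrim
import Cfsg.Agent.H7.GammaL1
import Cfsg.Agent.H3.Frobenius

/-!
Point stabilizers of extremely primitive groups.
-/

set_option autoImplicit false

namespace Cfsg.Agent.H7

open Subgroup MulAction
open scoped Pointwise

variable {G Ω : Type*} [Group G] [MulAction G Ω] [Finite G] [FaithfulSMul G Ω] [IsPreprimitive G Ω]

omit [FaithfulSMul G Ω] in
theorem card_prime_of_stabilizer_eq_bot [Nontrivial G] {a : Ω} (h : stabilizer G a = ⊥) :
    (Nat.card G).Prime := by
  obtain ⟨p, hp, hd⟩ := Nat.exists_prime_and_dvd (Finite.one_lt_card (α := G)).ne'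
  have : Fact p.Prime := ⟨hp⟩
  obtain ⟨x, hx⟩ := exists_prime_orderOf_dvd_card' p hd
  rcases eq_or_eq_top_of_stabilizer_le (a := a) (H := zpowers x) (h ▸ bot_le) with h1 | h1
  · rw [h, zpowers_eq_bot] at h1
    rw [h1, orderOf_one] at hx
    exact (hp.one_lt.ne hx).elim
  · rw [← card_top, ← h1, Nat.card_zpowers, hx]
    exact hp

theorem card_prime_of_center_ne_bot [Nonempty Ω] (h : center G ≠ ⊥) : (Nat.card G).Prime := by
  have : Nontrivial G := by
    by_contra h'
    rw [not_nontrivial_iff_subsingleton] at h'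
    exact h (Subsingleton.elim _ _)
  obtain ⟨a⟩ := ‹Nonempty Ω›
  refine card_prime_of_stabilizer_eq_bot (a := a) (eq_bot_iff.2 fun g hg => ?_)
  exact eq_one_of_mem_centralizer (isPretransitive_of_normal_of_ne_bot _ h)
    (fun z hz => (mem_center_iff.1 hz g).symm) hg

omit [FaithfulSMul G Ω] [IsPreprimitive G Ω] [Finite G] in
theorem card_eq_of_regular {N : Subgroup G} (hN : IsPretransitive N Ω) (a : Ω)
    (h : ∀ n ∈ N, n • a = a → n = 1) : Nat.card N = Nat.card Ω := by
  refine Nat.card_congr (Equiv.ofBijective (fun n : N => (n : G) • a) ⟨fun m n hmn => ?_, ?_⟩)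
  · have := h ((n : G)⁻¹ * m) (N.mul_mem (N.inv_mem n.2) m.2) (by
      rw [mul_smul, inv_smul_eq_iff]; exact hmn)
    exact Subtype.ext (inv_mul_eq_one.1 this).symm
  · exact fun x => hN.exists_smul_eq a x

/-- The Fitting subgroup of a primitive group, if non-trivial, is a regular self-centralizing
minimal normal subgroup. -/
theorem fittingSubgroup_structure [Nonempty Ω] (h : fittingSubgroup G ≠ ⊥) :
    IsMinNormal (fittingSubgroup G) ∧ ⁅fittingSubgroup G, fittingSubgroup G⁆ = ⊥ ∧
      centralizer (fittingSubgroup G : Set G) = fittingSubgroup G ∧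
      Nat.card (fittingSubgroup G) = Nat.card Ω := by
  have hFn : (fittingSubgroup G).Normal :=
    have := fittingSubgroup_characteristic G
    inferInstance
  have h1 := centralizer_inf_ne_bot_of_isNilpotent (fittingSubgroup_isNilpotent G) h
  obtain ⟨M, hM, hMF⟩ := exists_isMinNormal_le
    (N := centralizer (fittingSubgroup G : Set G) ⊓ fittingSubgroup G) inferInstance h1
  have := hM.1
  have hc : ⁅M, M⁆ = ⊥ := commutator_eq_bot_iff_le_centralizer.2
    ((hMF.trans inf_le_left).trans (centralizer_le (hMF.trans inf_le_right)))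
  have hMt : IsPretransitive M Ω := isPretransitive_of_normal_of_ne_bot M hM.ne_bot
  have h2 := centralizer_le_of_transitive_comm hMt (commutator_eq_bot_iff_le_centralizer.1 hc)
  have h3 : fittingSubgroup G = M :=
    le_antisymm ((le_centralizer_iff.1 (hMF.trans inf_le_left)).trans h2) (hMF.trans inf_le_right)
  rw [h3]
  obtain ⟨a⟩ := ‹Nonempty Ω›
  exact ⟨hM, hc, le_antisymm h2 (commutator_eq_bot_iff_le_centralizer.1 hc),
    card_eq_of_regular hMt a fun n hn => semiregular_of_comm hM.ne_bot hc n hn a⟩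

theorem faithful_orbit_of_ep [Finite Ω]
    (hep : ∀ α ω : Ω, IsPreprimitive (stabilizer G α) (orbit (stabilizer G α) ω))
    {a b : Ω} (hab : b ≠ a) : FaithfulSMul (stabilizer G a) (orbit (stabilizer G a) b) := by
  have h := manning hep (coreIn_normalIn (stabilizer G b) (stabilizer G a)) hab
    (coreIn_le_left _ _)
  refine ⟨fun {x y} hxy => ?_⟩
  have : ((y⁻¹ * x : stabilizer G a) : G) ∈ coreIn (stabilizer G b) (stabilizer G a) := by
    rw [mem_coreIn_stabilizer]
    refine ⟨(y⁻¹ * x).2, fun z hz => ?_⟩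
    have := congrArg Subtype.val (hxy ⟨z, hz⟩)
    rw [coe_mul, mul_smul, coe_inv, inv_smul_eq_iff]
    exact this
  rw [h, mem_bot, OneMemClass.coe_eq_one] at this
  exact (inv_mul_eq_one.1 this).symm

omit [Finite G] [IsPreprimitive G Ω] in
theorem exists_ne_of_stabilizer_ne_bot {a : Ω} (h : stabilizer G a ≠ ⊥) : ∃ b, b ≠ a := by
  by_contra h'
  push Not at h'
  exact h (eq_bot_iff.2 fun g _ => eq_of_smul_eq_smul (α := Ω) fun x => by rw [h' (g • x), h' (_ • x)])

end Cfsg.Agent.H7
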