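import Cfsg.Agent.H4.TC

/-!
# Coset enumerations for the presentations of `PSp₄(3)`, `W(E₆)` and `Sp₆(2)`
-/

set_option autoImplicit false
set_option maxRecDepth 100000
set_option linter.unusedSimpArgs false

namespace Cfsg.Agent.H7.P3

open Cfsg.Agent.H4

/-- Certificate data. -/
def k1_par : Trie :=
    (.node (.node (.node (.node (.node (.node (.leaf (nat_lit 0)) (.leaf (nat_lit 4609))) (.leaf
    (nat_lit 1803))) (.node (.leaf (nat_lit 1034)) (.leaf (nat_lit 3339)))) (.node (.node (.node
    (.leaf (nat_lit 263)) (.leaf (nat_lit 4865))) (.leaf (nat_lit 2571))) (.node (.leaf (nat_lit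
    1291)) (.leaf (nat_lit 4099))))) (.node (.node (.node (.node (.leaf (nat_lit 259)) (.leaf
    (nat_lit 4617))) (.leaf (nat_lit 2307))) (.node (.leaf (nat_lit 1289)) (.leaf (nat_lit 3843))))
    (.node (.node (.node (.leaf (nat_lit 520)) (.leaf (nat_lit 4873))) (.leaf (nat_lit 3075)))
    (.node (.leaf (nat_lit 1546)) (.leaf (nat_lit 4355)))))) (.node (.node (.node (.node (.node
    (.leaf (nat_lit 11)) (.leaf (nat_lit 4610))) (.leaf (nat_lit 2059))) (.node (.leaf (nat_lit
    1035)) (.leaf (nat_lit 3595)))) (.node (.node (.node (.leaf (nat_lit 519)) (.leaf (nat_lit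
    4866))) (.leaf (nat_lit 2827))) (.node (.leaf (nat_lit 1545)) (.leaf (nat_lit 4100))))) (.node
    (.node (.node (.node (.leaf (nat_lit 260)) (.leaf (nat_lit 4618))) (.leaf (nat_lit 2308)))
    (.node (.leaf (nat_lit 1290)) (.leaf (nat_lit 3844)))) (.node (.node (.node (.leaf (nat_lit
    1033)) (.leaf (nat_lit 4874))) (.leaf (nat_lit 3076))) (.node (.leaf (nat_lit 1547)) (.leaf
    (nat_lit 4356)))))))

/-- Certificate data. -/
def k1_fact : Trie :=
    (.node (.node (.node (.node (.node (.node (.node (.node (.leaf (nat_lit 1)) (.leaf (nat_lit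
    497928))) (.leaf (nat_lit 167432))) (.node (.node (.leaf (nat_lit 115721)) (.leaf (nat_lit
    594689))) (.leaf (nat_lit 366340)))) (.node (.node (.node (.leaf (nat_lit 33547)) (.leaf
    (nat_lit 532738))) (.leaf (nat_lit 201224))) (.node (.node (.leaf (nat_lit 133889)) (.leaf
    (nat_lit 468491))) (.leaf (nat_lit 334856))))) (.node (.node (.node (.node (.leaf (nat_lit
    16641)) (.leaf (nat_lit 434183))) (.leaf (nat_lit 151558))) (.node (.node (.leaf (nat_lit
    149770)) (.leaf (nat_lit 386311))) (.leaf (nat_lit 416010)))) (.node (.node (.node (.leaf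
    (nat_lit 98824)) (.leaf (nat_lit 369154))) (.leaf (nat_lit 201734))) (.node (.node (.leaf
    (nat_lit 118018)) (.leaf (nat_lit 632583))) (.leaf (nat_lit 384257)))))) (.node (.node (.node
    (.node (.node (.leaf (nat_lit 9)) (.leaf (nat_lit 450306))) (.leaf (nat_lit 151297))) (.node
    (.node (.leaf (nat_lit 133126)) (.leaf (nat_lit 596746))) (.leaf (nat_lit 251910)))) (.node
    (.node (.node (.leaf (nat_lit 17415)) (.leaf (nat_lit 546314))) (.leaf (nat_lit 299787)))
    (.node (.node (.leaf (nat_lit 199690)) (.leaf (nat_lit 386818))) (.leaf (nat_lit 479236)))))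
    (.node (.node (.node (.node (.leaf (nat_lit 33290)) (.leaf (nat_lit 531978))) (.leaf (nat_lit
    151813))) (.node (.node (.leaf (nat_lit 166405)) (.leaf (nat_lit 614154))) (.leaf (nat_lit
    429827)))) (.node (.node (.node (.leaf (nat_lit 99586)) (.leaf (nat_lit 467714))) (.leaf
    (nat_lit 201989))) (.node (.leaf (nat_lit 216586)) (.leaf (nat_lit 351752))))))) (.node (.node
    (.node (.node (.node (.node (.leaf (nat_lit 5)) (.leaf (nat_lit 417544))) (.leaf (nat_lit
    247307))) (.node (.node (.leaf (nat_lit 132106)) (.leaf (nat_lit 549899))) (.leaf (nat_lit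
    396555)))) (.node (.node (.node (.leaf (nat_lit 66564)) (.leaf (nat_lit 418052))) (.leaf
    (nat_lit 313604))) (.node (.node (.leaf (nat_lit 182792)) (.leaf (nat_lit 643850))) (.leaf
    (nat_lit 464904))))) (.node (.node (.node (.node (.leaf (nat_lit 33285)) (.leaf (nat_lit
    368129))) (.leaf (nat_lit 280587))) (.node (.node (.leaf (nat_lit 165129)) (.leaf (nat_lit
    435464))) (.leaf (nat_lit 284929)))) (.node (.node (.node (.leaf (nat_lit 99846)) (.leaf
    (nat_lit 578058))) (.leaf (nat_lit 346891))) (.node (.leaf (nat_lit 183559)) (.leaf (nat_lit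
    480264)))))) (.node (.node (.node (.node (.node (.leaf (nat_lit 16650)) (.leaf (nat_lit
    513288))) (.leaf (nat_lit 263947))) (.node (.node (.leaf (nat_lit 132872)) (.leaf (nat_lit
    611074))) (.leaf (nat_lit 333826)))) (.node (.node (.node (.leaf (nat_lit 83204)) (.leaf
    (nat_lit 561673))) (.leaf (nat_lit 330251))) (.node (.node (.leaf (nat_lit 214537)) (.leaf
    (nat_lit 501515))) (.leaf (nat_lit 400648))))) (.node (.node (.node (.node (.leaf (nat_lit
    49922)) (.leaf (nat_lit 385032))) (.leaf (nat_lit 282888))) (.node (.node (.leaf (nat_lit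
    181514)) (.leaf (nat_lit 452097))) (.leaf (nat_lit 432907)))) (.node (.node (.node (.leaf
    (nat_lit 99079)) (.leaf (nat_lit 516875))) (.leaf (nat_lit 363523))) (.node (.leaf (nat_lit
    183809)) (.leaf (nat_lit 466438)))))))) (.node (.node (.node (.node (.node (.node (.node (.leaf
    (nat_lit 3)) (.leaf (nat_lit 512260))) (.leaf (nat_lit 216583))) (.node (.node (.leaf (nat_lit
    116485)) (.leaf (nat_lit 369671))) (.leaf (nat_lit 366347)))) (.node (.node (.node (.leaf
    (nat_lit 65799)) (.leaf (nat_lit 450823))) (.leaf (nat_lit 298760))) (.node (.node (.leaf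
    (nat_lit 183046)) (.leaf (nat_lit 583175))) (.leaf (nat_lit 302086))))) (.node (.node (.node
    (.node (.leaf (nat_lit 33027)) (.leaf (nat_lit 368646))) (.leaf (nat_lit 266248))) (.node
    (.node (.leaf (nat_lit 149768)) (.leaf (nat_lit 533771))) (.leaf (nat_lit 399622)))) (.node
    (.node (.node (.leaf (nat_lit 67074)) (.leaf (nat_lit 483851))) (.leaf (nat_lit 267266)))
    (.node (.leaf (nat_lit 216325)) (.leaf (nat_lit 449802)))))) (.node (.node (.node (.node (.node
    (.leaf (nat_lit 16395)) (.leaf (nat_lit 384777))) (.leaf (nat_lit 200450))) (.node (.node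
    (.leaf (nat_lit 116744)) (.leaf (nat_lit 597257))) (.leaf (nat_lit 268289)))) (.node (.node
    (.node (.leaf (nat_lit 82439)) (.leaf (nat_lit 546311))) (.leaf (nat_lit 314376))) (.node
    (.node (.leaf (nat_lit 150530)) (.leaf (nat_lit 485121))) (.leaf (nat_lit 466180))))) (.node
    (.node (.node (.node (.leaf (nat_lit 49412)) (.leaf (nat_lit 434186))) (.leaf (nat_lit
    266502))) (.node (.node (.leaf (nat_lit 117251)) (.leaf (nat_lit 627465))) (.leaf (nat_lit
    446212)))) (.node (.node (.node (.leaf (nat_lit 50439)) (.leaf (nat_lit 434945))) (.leaf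
    (nat_lit 283906))) (.node (.leaf (nat_lit 134658)) (.leaf (nat_lit 302597))))))) (.node (.node
    (.node (.node (.node (.node (.leaf (nat_lit 7)) (.leaf (nat_lit 319237))) (.leaf (nat_lit
    249610))) (.node (.node (.leaf (nat_lit 116746)) (.leaf (nat_lit 451592))) (.leaf (nat_lit
    399370)))) (.node (.node (.node (.leaf (nat_lit 66565)) (.leaf (nat_lit 467210))) (.leaf
    (nat_lit 250632))) (.node (.node (.leaf (nat_lit 197899)) (.leaf (nat_lit 632586))) (.leaf
    (nat_lit 465409))))) (.node (.node (.node (.node (.leaf (nat_lit 33281)) (.leaf (nat_lit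
    464393))) (.leaf (nat_lit 282890))) (.node (.node (.leaf (nat_lit 117249)) (.leaf (nat_lit
    386314))) (.leaf (nat_lit 350466)))) (.node (.node (.node (.leaf (nat_lit 82946)) (.leaf
    (nat_lit 566026))) (.leaf (nat_lit 349450))) (.node (.leaf (nat_lit 230922)) (.leaf (nat_lit
    495875)))))) (.node (.node (.node (.node (.node (.leaf (nat_lit 16645)) (.leaf (nat_lit
    528897))) (.leaf (nat_lit 266250))) (.node (.node (.leaf (nat_lit 148491)) (.leaf (nat_lit
    599298))) (.leaf (nat_lit 413195)))) (.node (.node (.node (.leaf (nat_lit 83205)) (.leaf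
    (nat_lit 500225))) (.leaf (nat_lit 332810))) (.node (.node (.leaf (nat_lit 167169)) (.leaf
    (nat_lit 567048))) (.leaf (nat_lit 318726))))) (.node (.node (.node (.node (.leaf (nat_lit
    49929)) (.leaf (nat_lit 545282))) (.leaf (nat_lit 297219))) (.node (.node (.leaf (nat_lit
    166666)) (.leaf (nat_lit 517634))) (.leaf (nat_lit 462851)))) (.node (.node (.node (.leaf
    (nat_lit 99844)) (.leaf (nat_lit 582152))) (.leaf (nat_lit 379908))) (.node (.leaf (nat_lit
    232966)) (.leaf (nat_lit 498186)))))))))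

/-- Certificate data. -/
def k1_just : Trie :=
    (.node (.node (.node (.node (.node (.node (.node (.node (.leaf (nat_lit 1)) (.leaf (nat_lit
    285354955676778534))) (.leaf (nat_lit 29863039375072574111779))) (.node (.node (.leaf (nat_lit
    0)) (.leaf (nat_lit 0))) (.leaf (nat_lit 414236710928426)))) (.node (.node (.node (.leaf
    (nat_lit 5318429176856419041291)) (.leaf (nat_lit 594968934744082))) (.leaf (nat_lit
    120652292839112743))) (.node (.node (.leaf (nat_lit 76682539376508957)) (.leaf (nat_lit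
    255950205114056759))) (.leaf (nat_lit 201858098498043943))))) (.node (.node (.node (.node
    (.leaf (nat_lit 11261245336518661)) (.leaf (nat_lit 243553984604995633))) (.leaf (nat_lit
    87963734835920933))) (.node (.node (.leaf (nat_lit 87906293943304195)) (.leaf (nat_lit
    214298445501104147))) (.leaf (nat_lit 232213346798206979)))) (.node (.node (.node (.leaf
    (nat_lit 0)) (.leaf (nat_lit 335022485768699936))) (.leaf (nat_lit 115029450504208421))) (.node
    (.node (.leaf (nat_lit 72168013352337440)) (.leaf (nat_lit 104955237897830989627428))) (.leaf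
    (nat_lit 109726095947145150509)))))) (.node (.node (.node (.node (.node (.leaf (nat_lit 1))
    (.leaf (nat_lit 125823027653315395593))) (.leaf (nat_lit 87930715127349253))) (.node (.node
    (.leaf (nat_lit 76647251925205015)) (.leaf (nat_lit 96680872536946581504060))) (.leaf (nat_lit
    148859327346835493)))) (.node (.node (.node (.leaf (nat_lit 2954944596046369849358)) (.leaf
    (nat_lit 649905861427222))) (.leaf (nat_lit 46678374789745473814539))) (.node (.node (.leaf
    (nat_lit 114945586972786691)) (.leaf (nat_lit 385789377164541986))) (.leaf (nat_lit 0)))))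
    (.node (.node (.node (.node (.leaf (nat_lit 5319601258429176676360)) (.leaf (nat_lit
    310237084201975861))) (.leaf (nat_lit 87972565288681476))) (.node (.node (.leaf (nat_lit
    94677112316952597)) (.leaf (nat_lit 755407438086166))) (.leaf (nat_lit 0)))) (.node (.node
    (.node (.leaf (nat_lit 112386409365522)) (.leaf (nat_lit 331644820407910434))) (.leaf (nat_lit
    115047077049991172))) (.node (.leaf (nat_lit 238005612838934)) (.leaf (nat_lit
    210887391064555559))))))) (.node (.node (.node (.node (.node (.node (.leaf (nat_lit 1)) (.leaf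
    (nat_lit 240160840182071326))) (.leaf (nat_lit 0))) (.node (.node (.leaf (nat_lit 0)) (.leaf
    (nat_lit 322378187948621882))) (.leaf (nat_lit 0)))) (.node (.node (.node (.leaf (nat_lit
    38318130552045580)) (.leaf (nat_lit 123064790705112350774))) (.leaf (nat_lit 0))) (.node (.node
    (.leaf (nat_lit 109379803278409758)) (.leaf (nat_lit 0))) (.leaf (nat_lit
    255936379614330918))))) (.node (.node (.node (.node (.leaf (nat_lit 20297066253320198)) (.leaf
    (nat_lit 309091384495898675))) (.leaf (nat_lit 0))) (.node (.node (.leaf (nat_lit 0)) (.leaf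
    (nat_lit 80436057374158886338600))) (.leaf (nat_lit 166902356108312581)))) (.node (.node (.node
    (.leaf (nat_lit 54089585470406672)) (.leaf (nat_lit 0))) (.leaf (nat_lit 0))) (.node (.leaf
    (nat_lit 29563260617145148833825)) (.leaf (nat_lit 269464667603271718)))))) (.node (.node
    (.node (.node (.node (.leaf (nat_lit 11270041429540867)) (.leaf (nat_lit 296486299727233072)))
    (.leaf (nat_lit 0))) (.node (.node (.leaf (nat_lit 20093732001591899521049)) (.leaf (nat_lit
    0))) (.leaf (nat_lit 193897522643795999)))) (.node (.node (.node (.leaf (nat_lit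
    47338558306058252)) (.leaf (nat_lit 0))) (.leaf (nat_lit 0))) (.node (.node (.leaf (nat_lit 0))
    (.leaf (nat_lit 282971845827952696))) (.leaf (nat_lit 228879739211939870))))) (.node (.node
    (.node (.node (.leaf (nat_lit 15007150760595292169)) (.leaf (nat_lit 78660034913495438131224)))
    (.leaf (nat_lit 11462320743124344171007508506))) (.node (.node (.leaf (nat_lit 0)) (.leaf
    (nat_lit 371126247146848283))) (.leaf (nat_lit 63828111563149084524555)))) (.node (.node (.node
    (.leaf (nat_lit 15072187986921266675732)) (.leaf (nat_lit 296484637574889528))) (.leaf (nat_lit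
    0))) (.node (.leaf (nat_lit 103708646856392733)) (.leaf (nat_lit 250289489757536299))))))))
    (.node (.node (.node (.node (.node (.node (.node (.leaf (nat_lit 1)) (.leaf (nat_lit 0)))
    (.leaf (nat_lit 34585386691255523934244))) (.node (.node (.leaf (nat_lit 72141436094709781))
    (.leaf (nat_lit 212046594147811377))) (.leaf (nat_lit 55546656063268822777867)))) (.node (.node
    (.node (.leaf (nat_lit 0)) (.leaf (nat_lit 245805853138157587))) (.leaf (nat_lit
    47580586539068655206440))) (.node (.node (.leaf (nat_lit 103686544954687511)) (.leaf (nat_lit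
    94030153720133558009889))) (.leaf (nat_lit 178209802407837739))))) (.node (.node (.node (.node
    (.leaf (nat_lit 0)) (.leaf (nat_lit 108495443531709808690))) (.leaf (nat_lit
    163436424874623014))) (.node (.node (.leaf (nat_lit 6040098581776330277870043162)) (.leaf
    (nat_lit 304363840978747454))) (.leaf (nat_lit 220941153590247461)))) (.node (.node (.node
    (.leaf (nat_lit 46203888075997199)) (.leaf (nat_lit 269463005450928183))) (.leaf (nat_lit
    157815845987483679))) (.node (.leaf (nat_lit 121714206323179541)) (.leaf (nat_lit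
    64419643635854888730670)))))) (.node (.node (.node (.node (.node (.leaf (nat_lit 0)) (.leaf
    (nat_lit 56184381638948354850826))) (.leaf (nat_lit 114967706054361119))) (.node (.node (.leaf
    (nat_lit 18909080322012969500696)) (.leaf (nat_lit 96680871254679800315965))) (.leaf (nat_lit
    157873123671343109)))) (.node (.node (.node (.leaf (nat_lit 0)) (.leaf (nat_lit
    330455011387703345))) (.leaf (nat_lit 49973569888894738300969))) (.node (.node (.leaf (nat_lit
    87941581394608159)) (.leaf (nat_lit 373378089910206493))) (.leaf (nat_lit 489183890243626)))))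
    (.node (.node (.node (.node (.leaf (nat_lit 0)) (.leaf (nat_lit 561957816107030))) (.leaf
    (nat_lit 157780558536179749))) (.node (.node (.leaf (nat_lit 19529432041448674754588)) (.leaf
    (nat_lit 0))) (.leaf (nat_lit 0)))) (.node (.node (.node (.leaf (nat_lit 29361594731528211))
    (.leaf (nat_lit 318098837153710109))) (.leaf (nat_lit 166845069834518559))) (.node (.leaf
    (nat_lit 76671655929380898)) (.leaf (nat_lit 178227497673097222))))))) (.node (.node (.node
    (.node (.node (.node (.leaf (nat_lit 1)) (.leaf (nat_lit 184982948653760559))) (.leaf (nat_lit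
    148733708143362051))) (.node (.node (.leaf (nat_lit 141033841229846)) (.leaf (nat_lit
    85757943039372552372283))) (.leaf (nat_lit 220930115524296707)))) (.node (.node (.node (.leaf
    (nat_lit 38311533482278925)) (.leaf (nat_lit 65604943952733574332424))) (.leaf (nat_lit
    154429315814195230))) (.node (.node (.leaf (nat_lit 0)) (.leaf (nat_lit 762395349876758)))
    (.leaf (nat_lit 131034782957329186823))))) (.node (.node (.node (.node (.leaf (nat_lit
    11549516510368366599)) (.leaf (nat_lit 259518919210106932))) (.leaf (nat_lit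
    166792155837431811))) (.node (.node (.leaf (nat_lit 72178905389400091)) (.leaf (nat_lit
    57124642237082734231560))) (.leaf (nat_lit 202935551173787679)))) (.node (.node (.node (.leaf
    (nat_lit 12424516105601213071377)) (.leaf (nat_lit 661034121691158))) (.leaf (nat_lit
    202878264899993603))) (.node (.leaf (nat_lit 0)) (.leaf (nat_lit 0)))))) (.node (.node (.node
    (.node (.node (.leaf (nat_lit 11276638499307524)) (.leaf (nat_lit 0))) (.leaf (nat_lit
    157773927106674691))) (.node (.node (.leaf (nat_lit 0)) (.leaf (nat_lit 705117666017298)))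
    (.leaf (nat_lit 0)))) (.node (.node (.node (.leaf (nat_lit 47331961236291597)) (.leaf (nat_lit
    316972902887129115))) (.leaf (nat_lit 193851240076214275))) (.node (.node (.leaf (nat_lit
    94701404651978779)) (.leaf (nat_lit 94329914426279078461475))) (.leaf (nat_lit
    184965244798566444))))) (.node (.node (.node (.node (.leaf (nat_lit 7681934028297197649930))
    (.leaf (nat_lit 0))) (.leaf (nat_lit 0))) (.node (.node (.leaf (nat_lit 185117385555990))
    (.leaf (nat_lit 389167033935396896))) (.leaf (nat_lit 0)))) (.node (.node (.node (.leaf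
    (nat_lit 67615829054914572)) (.leaf (nat_lit 24567239227763015046484394041))) (.leaf (nat_lit
    0))) (.node (.leaf (nat_lit 132971049318023191)) (.leaf (nat_lit
    72693132441584025272328)))))))))

/-- Certificate data. -/
def k1_rel : Trie :=
    (.node (.node (.node (.node (.node (.node (.leaf (nat_lit 0)) (.leaf (nat_lit 151128577)))
    (.node (.leaf (nat_lit 65793)) (.leaf (nat_lit 8657109765)))) (.node (.node (.leaf (nat_lit
    3337206694922)) (.leaf (nat_lit 197379))) (.node (.leaf (nat_lit 794897463403547399)) (.leaf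
    (nat_lit 34275851))))) (.node (.node (.node (.leaf (nat_lit 67437318)) (.leaf (nat_lit
    101188871))) (.node (.leaf (nat_lit 592137)) (.leaf (nat_lit 4395893251)))) (.node (.node
    (.leaf (nat_lit 8843455564552)) (.leaf (nat_lit 3324338897929))) (.node (.leaf (nat_lit
    50856455)) (.leaf (nat_lit 17498379)))))) (.node (.node (.node (.node (.leaf (nat_lit
    185142022)) (.leaf (nat_lit 9925787518984))) (.node (.leaf (nat_lit 8800505889032)) (.leaf
    (nat_lit 34144522)))) (.node (.node (.leaf (nat_lit 134350595)) (.leaf (nat_lit 50725893)))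
    (.node (.leaf (nat_lit 11008152241412)) (.leaf (nat_lit 8830620993289))))) (.node (.node (.node
    (.leaf (nat_lit 1121054229257)) (.leaf (nat_lit 1134005651207))) (.node (.leaf (nat_lit
    9925820877063)) (.leaf (nat_lit 151717387)))) (.node (.node (.leaf (nat_lit 117835781)) (.leaf
    (nat_lit 84411911))) (.leaf (nat_lit 167905537)))))) (.node (.node (.node (.node (.node (.leaf
    (nat_lit 184945417)) (.leaf (nat_lit 9930099263239))) (.node (.leaf (nat_lit 17237000)) (.leaf
    (nat_lit 83953154)))) (.node (.node (.leaf (nat_lit 3345830576907)) (.leaf (nat_lit 67502853)))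
    (.node (.leaf (nat_lit 167840002)) (.leaf (nat_lit 2233517344519))))) (.node (.node (.node
    (.leaf (nat_lit 17196844290)) (.leaf (nat_lit 67633415))) (.node (.leaf (nat_lit 151390725))
    (.leaf (nat_lit 168494347)))) (.node (.node (.leaf (nat_lit 117704705)) (.leaf (nat_lit
    50660358))) (.leaf (nat_lit 184617729))))) (.node (.node (.node (.node (.leaf (nat_lit
    184683266)) (.leaf (nat_lit 185207557))) (.node (.leaf (nat_lit 168102150)) (.leaf (nat_lit
    101319945)))) (.node (.node (.leaf (nat_lit 134547206)) (.leaf (nat_lit 12902073346))) (.node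
    (.leaf (nat_lit 151063042)) (.leaf (nat_lit 8830604216074))))) (.node (.node (.node (.leaf
    (nat_lit 12968920065)) (.leaf (nat_lit 7743960779527))) (.node (.leaf (nat_lit 7735370844679))
    (.leaf (nat_lit 794615988426902279)))) (.node (.node (.leaf (nat_lit 8830469998337)) (.leaf
    (nat_lit 34013960))) (.leaf (nat_lit 11025299081224)))))))

/-- Certificate data. -/
def k1_rc : Trie :=
    (.node (.node (.node (.node (.node (.node (.leaf (nat_lit 44)) (.leaf (nat_lit 131081))) (.node
    (.leaf (nat_lit 6)) (.leaf (nat_lit 15)))) (.node (.node (.leaf (nat_lit 524313)) (.leaf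
    (nat_lit 28))) (.node (.leaf (nat_lit 42)) (.leaf (nat_lit 131111))))) (.node (.node (.node
    (.leaf (nat_lit 393247)) (.leaf (nat_lit 23))) (.node (.leaf (nat_lit 0)) (.leaf (nat_lit
    131086)))) (.node (.node (.leaf (nat_lit 655394)) (.leaf (nat_lit 131096))) (.node (.leaf
    (nat_lit 131085)) (.leaf (nat_lit 38)))))) (.node (.node (.node (.node (.leaf (nat_lit 262181))
    (.leaf (nat_lit 393220))) (.node (.leaf (nat_lit 524298)) (.leaf (nat_lit 393224)))) (.node
    (.node (.leaf (nat_lit 13)) (.leaf (nat_lit 131103))) (.node (.leaf (nat_lit 655385)) (.leaf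
    (nat_lit 5))))) (.node (.node (.node (.leaf (nat_lit 262169)) (.leaf (nat_lit 10))) (.node
    (.leaf (nat_lit 20)) (.leaf (nat_lit 131109)))) (.node (.node (.leaf (nat_lit 131095)) (.leaf
    (nat_lit 131094))) (.leaf (nat_lit 8)))))) (.node (.node (.node (.node (.node (.leaf (nat_lit
    37)) (.leaf (nat_lit 131077))) (.node (.leaf (nat_lit 262156)) (.leaf (nat_lit 262161))))
    (.node (.node (.leaf (nat_lit 40)) (.leaf (nat_lit 30))) (.node (.leaf (nat_lit 393225)) (.leaf
    (nat_lit 131083))))) (.node (.node (.node (.leaf (nat_lit 524303)) (.leaf (nat_lit 12))) (.node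
    (.leaf (nat_lit 131091)) (.leaf (nat_lit 36)))) (.node (.node (.leaf (nat_lit 131084)) (.leaf
    (nat_lit 262174))) (.leaf (nat_lit 131110))))) (.node (.node (.node (.node (.leaf (nat_lit 39))
    (.leaf (nat_lit 131108))) (.node (.leaf (nat_lit 393235)) (.leaf (nat_lit 19)))) (.node (.node
    (.leaf (nat_lit 393239)) (.leaf (nat_lit 262158))) (.node (.leaf (nat_lit 262152)) (.leaf
    (nat_lit 655364))))) (.node (.node (.node (.leaf (nat_lit 262159)) (.leaf (nat_lit 262178)))
    (.node (.leaf (nat_lit 262149)) (.leaf (nat_lit 262186)))) (.node (.node (.leaf (nat_lit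
    655370)) (.leaf (nat_lit 393229))) (.leaf (nat_lit 524293)))))))

/-- Certificate data. -/
def k1_lv : Trie :=
    (.node (.node (.node (.node (.node (.node (.leaf (nat_lit 0)) (.leaf (nat_lit 32))) (.leaf
    (nat_lit 16))) (.node (.leaf (nat_lit 8)) (.leaf (nat_lit 24)))) (.node (.node (.node (.leaf
    (nat_lit 4)) (.leaf (nat_lit 36))) (.leaf (nat_lit 20))) (.node (.leaf (nat_lit 12)) (.leaf
    (nat_lit 28))))) (.node (.node (.node (.node (.leaf (nat_lit 2)) (.leaf (nat_lit 34))) (.leaf
    (nat_lit 18))) (.node (.leaf (nat_lit 10)) (.leaf (nat_lit 26)))) (.node (.node (.node (.leaf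
    (nat_lit 6)) (.leaf (nat_lit 38))) (.leaf (nat_lit 22))) (.node (.leaf (nat_lit 14)) (.leaf
    (nat_lit 30)))))) (.node (.node (.node (.node (.node (.leaf (nat_lit 1)) (.leaf (nat_lit 33)))
    (.leaf (nat_lit 17))) (.node (.leaf (nat_lit 9)) (.leaf (nat_lit 25)))) (.node (.node (.node
    (.leaf (nat_lit 5)) (.leaf (nat_lit 37))) (.leaf (nat_lit 21))) (.node (.leaf (nat_lit 13))
    (.leaf (nat_lit 29))))) (.node (.node (.node (.node (.leaf (nat_lit 3)) (.leaf (nat_lit 35)))
    (.leaf (nat_lit 19))) (.node (.leaf (nat_lit 11)) (.leaf (nat_lit 27)))) (.node (.node (.node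
    (.leaf (nat_lit 7)) (.leaf (nat_lit 39))) (.leaf (nat_lit 23))) (.node (.leaf (nat_lit 15))
    (.leaf (nat_lit 31)))))))

/-- Certificate data. -/
def k1_tb : Trie :=
    (.node (.node (.node (.node (.node (.node (.node (.node (.leaf (nat_lit 0)) (.leaf (nat_lit
    8852))) (.leaf (nat_lit 15085))) (.node (.leaf (nat_lit 17185)) (.leaf (nat_lit 8335)))) (.node
    (.node (.node (.leaf (nat_lit 10419)) (.leaf (nat_lit 6853))) (.leaf (nat_lit 8))) (.node
    (.leaf (nat_lit 3661)) (.leaf (nat_lit 15641))))) (.node (.node (.node (.node (.leaf (nat_lit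
    7291)) (.leaf (nat_lit 3725))) (.leaf (nat_lit 13584))) (.node (.leaf (nat_lit 6)) (.leaf
    (nat_lit 12487)))) (.node (.node (.node (.leaf (nat_lit 8394)) (.leaf (nat_lit 19283))) (.leaf
    (nat_lit 2117))) (.node (.leaf (nat_lit 8339)) (.leaf (nat_lit 522)))))) (.node (.node (.node
    (.node (.node (.leaf (nat_lit 3123)) (.leaf (nat_lit 2663))) (.leaf (nat_lit 12517))) (.node
    (.leaf (nat_lit 19279)) (.leaf (nat_lit 10415)))) (.node (.node (.node (.leaf (nat_lit 12493))
    (.leaf (nat_lit 19809))) (.leaf (nat_lit 3648))) (.node (.leaf (nat_lit 9377)) (.leaf (nat_lit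
    14153))))) (.node (.node (.node (.node (.leaf (nat_lit 7819)) (.leaf (nat_lit 5293))) (.leaf
    (nat_lit 11586))) (.node (.leaf (nat_lit 552)) (.leaf (nat_lit 17191)))) (.node (.node (.node
    (.leaf (nat_lit 18233)) (.leaf (nat_lit 17220))) (.leaf (nat_lit 6249))) (.node (.leaf (nat_lit
    14561)) (.leaf (nat_lit 4686))))))) (.node (.node (.node (.node (.node (.node (.leaf (nat_lit
    1046)) (.leaf (nat_lit 10412))) (.leaf (nat_lit 19285))) (.node (.leaf (nat_lit 15662)) (.leaf
    (nat_lit 17708)))) (.node (.node (.node (.leaf (nat_lit 16654)) (.leaf (nat_lit 14045))) (.leaf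
    (nat_lit 1049))) (.node (.leaf (nat_lit 7297)) (.leaf (nat_lit 18231))))) (.node (.node (.node
    (.node (.leaf (nat_lit 3670)) (.leaf (nat_lit 9897))) (.leaf (nat_lit 20335))) (.node (.leaf
    (nat_lit 2602)) (.leaf (nat_lit 16667)))) (.node (.node (.node (.leaf (nat_lit 14566)) (.leaf
    (nat_lit 15154))) (.leaf (nat_lit 5727))) (.node (.leaf (nat_lit 7843)) (.leaf (nat_lit
    1569)))))) (.node (.node (.node (.node (.node (.leaf (nat_lit 2617)) (.leaf (nat_lit 13006)))
    (.leaf (nat_lit 13057))) (.node (.leaf (nat_lit 14172)) (.leaf (nat_lit 14614)))) (.node (.node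
    (.node (.leaf (nat_lit 17713)) (.leaf (nat_lit 20333))) (.leaf (nat_lit 6764))) (.node (.leaf
    (nat_lit 6786)) (.leaf (nat_lit 20327))))) (.node (.node (.node (.node (.leaf (nat_lit 5756))
    (.leaf (nat_lit 11971))) (.leaf (nat_lit 18274))) (.node (.leaf (nat_lit 1073)) (.leaf (nat_lit
    13567)))) (.node (.node (.node (.leaf (nat_lit 11540)) (.leaf (nat_lit 14688))) (.leaf (nat_lit
    3191))) (.node (.leaf (nat_lit 17194)) (.leaf (nat_lit 7812)))))))) (.node (.node (.node (.node
    (.node (.node (.node (.leaf (nat_lit 528)) (.leaf (nat_lit 2127))) (.leaf (nat_lit 16133)))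
    (.node (.leaf (nat_lit 9503)) (.leaf (nat_lit 8855)))) (.node (.node (.node (.leaf (nat_lit
    10939)) (.leaf (nat_lit 7375))) (.leaf (nat_lit 525))) (.node (.leaf (nat_lit 4691)) (.leaf
    (nat_lit 11561))))) (.node (.node (.node (.node (.leaf (nat_lit 6251)) (.leaf (nat_lit 4245)))
    (.leaf (nat_lit 14114))) (.node (.leaf (nat_lit 2082)) (.leaf (nat_lit 13009)))) (.node (.node
    (.node (.leaf (nat_lit 8916)) (.leaf (nat_lit 18757))) (.leaf (nat_lit 4689))) (.node (.leaf
    (nat_lit 8861)) (.leaf (nat_lit 11)))))) (.node (.node (.node (.node (.node (.leaf (nat_lit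
    2103)) (.leaf (nat_lit 12484))) (.leaf (nat_lit 10485))) (.node (.leaf (nat_lit 10061)) (.leaf
    (nat_lit 10935)))) (.node (.node (.node (.leaf (nat_lit 13015)) (.leaf (nat_lit 17715))) (.leaf
    (nat_lit 5204))) (.node (.leaf (nat_lit 5748)) (.leaf (nat_lit 16217))))) (.node (.node (.node
    (.node (.leaf (nat_lit 5230)) (.leaf (nat_lit 5813))) (.leaf (nat_lit 12112))) (.node (.leaf
    (nat_lit 1594)) (.leaf (nat_lit 18762)))) (.node (.node (.node (.leaf (nat_lit 12016)) (.leaf
    (nat_lit 16722))) (.leaf (nat_lit 7289))) (.node (.leaf (nat_lit 15609)) (.leaf (nat_lit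
    6246))))))) (.node (.node (.node (.node (.node (.node (.leaf (nat_lit 1565)) (.leaf (nat_lit
    10932))) (.leaf (nat_lit 18759))) (.node (.leaf (nat_lit 13626)) (.leaf (nat_lit 19802))))
    (.node (.node (.node (.leaf (nat_lit 18752)) (.leaf (nat_lit 13532))) (.leaf (nat_lit 1566)))
    (.node (.leaf (nat_lit 5221)) (.leaf (nat_lit 9525))))) (.node (.node (.node (.node (.leaf
    (nat_lit 4192)) (.leaf (nat_lit 9384))) (.leaf (nat_lit 17727))) (.node (.leaf (nat_lit 3132))
    (.leaf (nat_lit 15091)))) (.node (.node (.node (.leaf (nat_lit 16137)) (.leaf (nat_lit 16188)))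
    (.leaf (nat_lit 2653))) (.node (.leaf (nat_lit 6315)) (.leaf (nat_lit 1056)))))) (.node (.node
    (.node (.node (.node (.leaf (nat_lit 6769)) (.leaf (nat_lit 3205))) (.leaf (nat_lit 11021)))
    (.node (.leaf (nat_lit 15210)) (.leaf (nat_lit 19287)))) (.node (.node (.node (.leaf (nat_lit
    20329)) (.leaf (nat_lit 18237))) (.leaf (nat_lit 4167))) (.node (.leaf (nat_lit 9895)) (.leaf
    (nat_lit 10085))))) (.node (.node (.node (.node (.leaf (nat_lit 4744)) (.leaf (nat_lit 11458)))
    (.leaf (nat_lit 19824))) (.node (.leaf (nat_lit 4171)) (.leaf (nat_lit 12042)))) (.node (.node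
    (.node (.leaf (nat_lit 19807)) (.leaf (nat_lit 15724))) (.leaf (nat_lit 7815))) (.node (.leaf
    (nat_lit 16669)) (.leaf (nat_lit 8332)))))))))

/-- Certificate data. -/
def k1_C : TC.Cert := ⟨6, 63, 9, 511, 3415262793781239368172765696, 2046, k1_par, k1_fact, k1_just, k1_rel, 61⟩

/-- Certificate data. -/
def k1_rs : List (List ℕ) := [[9, 9, 9], [7, 7, 7, 7], [7, 7, 9, 8, 8, 10], [1, 1, 1], [1, 9, 2, 10], [7, 7, 1, 8, 8, 1], [7, 1, 8, 4], [1, 3, 2, 4, 6], [5, 1, 6, 2], [5, 9, 6, 10], [7, 9, 7, 9, 7, 9], [5, 7, 6, 8], [3, 9, 4, 10, 2, 6], [5, 5, 5], [3, 3, 3], [5, 3, 6, 4], [11, 11], [11, 7, 7, 11, 8, 8], [11, 5, 11, 10], [11, 1, 11, 1], [11, 3, 11, 3, 11, 3], [7, 11, 7, 11, 8, 11, 8, 11]]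

/-- Certificate data. -/
def k1_gl : List ℕ := [1, 10247, 20489, 30731]

theorem k1_h1 : allB k1_C.factChk 185 = true := by decide +kernel

theorem k1_h2 : k1_C.finChk 185 40 k1_lv k1_tb k1_gl = true := by decide +kernel

theorem k1_h3 : TC.relChk k1_C.ivc k1_rs k1_C.rel k1_rc k1_C.nrel = true := by decide +kernel

theorem k1_bound {G : Type*} [Group G] {c y z s u w : G}
    (r0 : u * u * u = 1)
    (r1 : s * s * s * s = 1)
    (r2 : s * s * u * s⁻¹ * s⁻¹ * u⁻¹ = 1)
    (r3 : c * c * c = 1)
    (r4 : c * u * c⁻¹ * u⁻¹ = 1)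
    (r5 : s * s * c * s⁻¹ * s⁻¹ * c = 1)
    (r6 : s * c * s⁻¹ * y⁻¹ = 1)
    (r7 : c * y * c⁻¹ * y⁻¹ * z⁻¹ = 1)
    (r8 : z * c * z⁻¹ * c⁻¹ = 1)
    (r9 : z * u * z⁻¹ * u⁻¹ = 1)
    (r10 : s * u * s * u * s * u = 1)
    (r11 : z * s * z⁻¹ * s⁻¹ = 1)
    (r12 : y * u * y⁻¹ * u⁻¹ * c⁻¹ * z⁻¹ = 1)
    (r13 : z * z * z = 1)
    (r14 : y * y * y = 1)
    (r15 : z * y * z⁻¹ * y⁻¹ = 1)
    (r16 : w * w = 1)
    (r17 : w * s * s * w * s⁻¹ * s⁻¹ = 1)
    (r18 : w * z * w * u⁻¹ = 1)
    (r19 : w * c * w * c = 1)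
    (r20 : w * y * w * y * w * y = 1)
    (r21 : s * w * s * w * s⁻¹ * w * s⁻¹ * w = 1)
    (H : Subgroup G) [Finite H] (m1 : c ∈ H) (m3 : y ∈ H) (m5 : z ∈ H) (m7 : s ∈ H) (m9 : u ∈ H) :
    Finite (Subgroup.closure ({c, s, u, w} : Set G)) ∧
      Nat.card (Subgroup.closure ({c, s, u, w} : Set G)) ≤ 40 * Nat.card H := by
  have hL : TC.Lett (TC.lett [c, c⁻¹, y, y⁻¹, z, z⁻¹, s, s⁻¹, u, u⁻¹, w]) k1_C.ivc :=
    TC.lett_ok (show Nat.shiftRight k1_C.ivc (8 * 12) = 0 by decide +kernel) (by
      intro a ha
      change a < 12 at ha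
      interval_cases a
      · exact inv_one.symm
      · rfl
      · exact (inv_inv _).symm
      · rfl
      · exact (inv_inv _).symm
      · rfl
      · exact (inv_inv _).symm
      · rfl
      · exact (inv_inv _).symm
      · rfl
      · exact (inv_inv _).symm
      · exact (inv_eq_of_mul_eq_one_right r16).symm)
  have h := TC.card_le k1_h1 k1_h2 k1_h3 (by decide) hL (by
    simp only [k1_rs, List.forall_mem_cons]
    refine ⟨?_, ?_, ?_, ?_, ?_, ?_, ?_, ?_, ?_, ?_, ?_, ?_, ?_, ?_, ?_, ?_, ?_, ?_, ?_, ?_, ?_, ?_,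
    List.forall_mem_nil _⟩
    · show u * (u * (u * 1)) = 1
      simp only [mul_assoc, mul_one] at r0 ⊢
      exact r0
    · show s * (s * (s * (s * 1))) = 1
      simp only [mul_assoc, mul_one] at r1 ⊢
      exact r1
    · show s * (s * (u * (s⁻¹ * (s⁻¹ * (u⁻¹ * 1))))) = 1
      simp only [mul_assoc, mul_one] at r2 ⊢
      exact r2
    · show c * (c * (c * 1)) = 1
      simp only [mul_assoc, mul_one] at r3 ⊢
      exact r3
    · show c * (u * (c⁻¹ * (u⁻¹ * 1))) = 1
      simp only [mul_assoc, mul_one] at r4 ⊢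
      exact r4
    · show s * (s * (c * (s⁻¹ * (s⁻¹ * (c * 1))))) = 1
      simp only [mul_assoc, mul_one] at r5 ⊢
      exact r5
    · show s * (c * (s⁻¹ * (y⁻¹ * 1))) = 1
      simp only [mul_assoc, mul_one] at r6 ⊢
      exact r6
    · show c * (y * (c⁻¹ * (y⁻¹ * (z⁻¹ * 1)))) = 1
      simp only [mul_assoc, mul_one] at r7 ⊢
      exact r7
    · show z * (c * (z⁻¹ * (c⁻¹ * 1))) = 1
      simp only [mul_assoc, mul_one] at r8 ⊢
      exact r8
    · show z * (u * (z⁻¹ * (u⁻¹ * 1))) = 1
      simp only [mul_assoc, mul_one] at r9 ⊢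
      exact r9
    · show s * (u * (s * (u * (s * (u * 1))))) = 1
      simp only [mul_assoc, mul_one] at r10 ⊢
      exact r10
    · show z * (s * (z⁻¹ * (s⁻¹ * 1))) = 1
      simp only [mul_assoc, mul_one] at r11 ⊢
      exact r11
    · show y * (u * (y⁻¹ * (u⁻¹ * (c⁻¹ * (z⁻¹ * 1))))) = 1
      simp only [mul_assoc, mul_one] at r12 ⊢
      exact r12
    · show z * (z * (z * 1)) = 1
      simp only [mul_assoc, mul_one] at r13 ⊢
      exact r13
    · show y * (y * (y * 1)) = 1
      simp only [mul_assoc, mul_one] at r14 ⊢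
      exact r14
    · show z * (y * (z⁻¹ * (y⁻¹ * 1))) = 1
      simp only [mul_assoc, mul_one] at r15 ⊢
      exact r15
    · show w * (w * 1) = 1
      simp only [mul_one] at r16 ⊢
      exact r16
    · show w * (s * (s * (w * (s⁻¹ * (s⁻¹ * 1))))) = 1
      simp only [mul_assoc, mul_one] at r17 ⊢
      exact r17
    · show w * (z * (w * (u⁻¹ * 1))) = 1
      simp only [mul_assoc, mul_one] at r18 ⊢
      exact r18
    · show w * (c * (w * (c * 1))) = 1
      simp only [mul_assoc, mul_one] at r19 ⊢
      exact r19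
    · show w * (y * (w * (y * (w * (y * 1))))) = 1
      simp only [mul_assoc, mul_one] at r20 ⊢
      exact r20
    · show s * (w * (s * (w * (s⁻¹ * (w * (s⁻¹ * (w * 1))))))) = 1
      simp only [mul_assoc, mul_one] at r21 ⊢
      exact r21) H
    (TC.forall_subs (K := 12) (by decide +kernel) (by
      intro a ha hb
      interval_cases a
      · exact absurd hb (by decide +kernel)
      · exact m1
      · exact H.inv_mem m1
      · exact m3
      · exact H.inv_mem m3
      · exact m5
      · exact H.inv_mem m5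
      · exact m7
      · exact H.inv_mem m7
      · exact m9
      · exact H.inv_mem m9
      · exact absurd hb (by decide +kernel)))
  have e : {g₀ | ∃ ak ∈ k1_gl, TC.lett [c, c⁻¹, y, y⁻¹, z, z⁻¹, s, s⁻¹, u, u⁻¹, w] (ak % 256) = g₀} =
      {c, s, u, w} := by
    ext g₀
    simp only [k1_gl, List.mem_cons, List.not_mem_nil, or_false, exists_eq_or_imp,
      exists_eq_left, Set.mem_ofPred_eq, Set.mem_insert_iff, Set.mem_singleton_iff]
    exact or_congr eq_comm (or_congr eq_comm (or_congr eq_comm (eq_comm)))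
  rw [e] at h
  exact h

theorem k1_card {G : Type*} [Group G] {c y z s u w : G}
    (e0 : u ^ 3 = 1)
    (e1 : s ^ 4 = 1)
    (e2 : s ^ 2 * u = u * s ^ 2)
    (e3 : c ^ 3 = 1)
    (e4 : c * u = u * c)
    (e5 : s ^ 2 * c = c⁻¹ * s ^ 2)
    (e6 : s * c * s⁻¹ = y)
    (e7 : c * y = z * y * c)
    (e8 : z * c = c * z)
    (e9 : z * u = u * z)
    (e10 : (s * u) ^ 3 = 1)
    (e11 : z * s = s * z)
    (e12 : y * u = z * c * u * y)
    (e13 : z ^ 3 = 1)
    (e14 : y ^ 3 = 1)
    (e15 : z * y = y * z)
    (e16 : w * w = 1)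
    (e17 : w * s ^ 2 = s ^ 2 * w)
    (e18 : w * z = u * w)
    (e19 : w * c = c⁻¹ * w)
    (e20 : (w * y) ^ 3 = 1)
    (e21 : s * (w * s * w) = w * s * w * s)
    (H : Subgroup G) [Finite H] (mc : c ∈ H) (my : y ∈ H) (mz : z ∈ H) (ms : s ∈ H) (mu : u ∈ H) :
    Finite (Subgroup.closure ({c, s, u, w} : Set G)) ∧
      Nat.card (Subgroup.closure ({c, s, u, w} : Set G)) ≤ 40 * Nat.card H := by
  have iw : w⁻¹ = w := inv_eq_of_mul_eq_one_right e16
  refine k1_bound ?_ ?_ ?_ ?_ ?_ ?_ ?_ ?_ ?_ ?_ ?_ ?_ ?_ ?_ ?_ ?_ ?_ ?_ ?_ ?_ ?_ ?_ H mc my mz ms mu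
  · have h := mul_inv_eq_one.mpr e0
    simp only [pow_succ, pow_zero, mul_inv_rev, inv_inv, inv_one, one_mul, mul_one, mul_assoc,
      mul_inv_cancel_left, inv_mul_cancel_left, mul_inv_cancel, inv_mul_cancel, iw] at h ⊢
    exact h
  · have h := mul_inv_eq_one.mpr e1
    simp only [pow_succ, pow_zero, mul_inv_rev, inv_inv, inv_one, one_mul, mul_one, mul_assoc,
      mul_inv_cancel_left, inv_mul_cancel_left, mul_inv_cancel, inv_mul_cancel, iw] at h ⊢
    exact h
  · have h := mul_inv_eq_one.mpr e2
    simp only [pow_succ, pow_zero, mul_inv_rev, inv_inv, inv_one, one_mul, mul_one, mul_assoc,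
      mul_inv_cancel_left, inv_mul_cancel_left, mul_inv_cancel, inv_mul_cancel, iw] at h ⊢
    exact h
  · have h := mul_inv_eq_one.mpr e3
    simp only [pow_succ, pow_zero, mul_inv_rev, inv_inv, inv_one, one_mul, mul_one, mul_assoc,
      mul_inv_cancel_left, inv_mul_cancel_left, mul_inv_cancel, inv_mul_cancel, iw] at h ⊢
    exact h
  · have h := mul_inv_eq_one.mpr e4
    simp only [pow_succ, pow_zero, mul_inv_rev, inv_inv, inv_one, one_mul, mul_one, mul_assoc,
      mul_inv_cancel_left, inv_mul_cancel_left, mul_inv_cancel, inv_mul_cancel, iw] at h ⊢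
    exact h
  · have h := mul_inv_eq_one.mpr e5
    simp only [pow_succ, pow_zero, mul_inv_rev, inv_inv, inv_one, one_mul, mul_one, mul_assoc,
      mul_inv_cancel_left, inv_mul_cancel_left, mul_inv_cancel, inv_mul_cancel, iw] at h ⊢
    exact h
  · have h := mul_inv_eq_one.mpr e6
    simp only [pow_succ, pow_zero, mul_inv_rev, inv_inv, inv_one, one_mul, mul_one, mul_assoc,
      mul_inv_cancel_left, inv_mul_cancel_left, mul_inv_cancel, inv_mul_cancel, iw] at h ⊢
    exact h
  · have h := mul_inv_eq_one.mpr e7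
    simp only [pow_succ, pow_zero, mul_inv_rev, inv_inv, inv_one, one_mul, mul_one, mul_assoc,
      mul_inv_cancel_left, inv_mul_cancel_left, mul_inv_cancel, inv_mul_cancel, iw] at h ⊢
    exact h
  · have h := mul_inv_eq_one.mpr e8
    simp only [pow_succ, pow_zero, mul_inv_rev, inv_inv, inv_one, one_mul, mul_one, mul_assoc,
      mul_inv_cancel_left, inv_mul_cancel_left, mul_inv_cancel, inv_mul_cancel, iw] at h ⊢
    exact h
  · have h := mul_inv_eq_one.mpr e9
    simp only [pow_succ, pow_zero, mul_inv_rev, inv_inv, inv_one, one_mul, mul_one, mul_assoc,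
      mul_inv_cancel_left, inv_mul_cancel_left, mul_inv_cancel, inv_mul_cancel, iw] at h ⊢
    exact h
  · have h := mul_inv_eq_one.mpr e10
    simp only [pow_succ, pow_zero, mul_inv_rev, inv_inv, inv_one, one_mul, mul_one, mul_assoc,
      mul_inv_cancel_left, inv_mul_cancel_left, mul_inv_cancel, inv_mul_cancel, iw] at h ⊢
    exact h
  · have h := mul_inv_eq_one.mpr e11
    simp only [pow_succ, pow_zero, mul_inv_rev, inv_inv, inv_one, one_mul, mul_one, mul_assoc,
      mul_inv_cancel_left, inv_mul_cancel_left, mul_inv_cancel, inv_mul_cancel, iw] at h ⊢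
    exact h
  · have h := mul_inv_eq_one.mpr e12
    simp only [pow_succ, pow_zero, mul_inv_rev, inv_inv, inv_one, one_mul, mul_one, mul_assoc,
      mul_inv_cancel_left, inv_mul_cancel_left, mul_inv_cancel, inv_mul_cancel, iw] at h ⊢
    exact h
  · have h := mul_inv_eq_one.mpr e13
    simp only [pow_succ, pow_zero, mul_inv_rev, inv_inv, inv_one, one_mul, mul_one, mul_assoc,
      mul_inv_cancel_left, inv_mul_cancel_left, mul_inv_cancel, inv_mul_cancel, iw] at h ⊢
    exact h
  · have h := mul_inv_eq_one.mpr e14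
    simp only [pow_succ, pow_zero, mul_inv_rev, inv_inv, inv_one, one_mul, mul_one, mul_assoc,
      mul_inv_cancel_left, inv_mul_cancel_left, mul_inv_cancel, inv_mul_cancel, iw] at h ⊢
    exact h
  · have h := mul_inv_eq_one.mpr e15
    simp only [pow_succ, pow_zero, mul_inv_rev, inv_inv, inv_one, one_mul, mul_one, mul_assoc,
      mul_inv_cancel_left, inv_mul_cancel_left, mul_inv_cancel, inv_mul_cancel, iw] at h ⊢
    exact h
  · have h := mul_inv_eq_one.mpr e16
    simp only [pow_succ, pow_zero, mul_inv_rev, inv_inv, inv_one, one_mul, mul_one, mul_assoc,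
      mul_inv_cancel_left, inv_mul_cancel_left, mul_inv_cancel, inv_mul_cancel, iw] at h ⊢
    exact h
  · have h := mul_inv_eq_one.mpr e17
    simp only [pow_succ, pow_zero, mul_inv_rev, inv_inv, inv_one, one_mul, mul_one, mul_assoc,
      mul_inv_cancel_left, inv_mul_cancel_left, mul_inv_cancel, inv_mul_cancel, iw] at h ⊢
    exact h
  · have h := mul_inv_eq_one.mpr e18
    simp only [pow_succ, pow_zero, mul_inv_rev, inv_inv, inv_one, one_mul, mul_one, mul_assoc,
      mul_inv_cancel_left, inv_mul_cancel_left, mul_inv_cancel, inv_mul_cancel, iw] at h ⊢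
    exact h
  · have h := mul_inv_eq_one.mpr e19
    simp only [pow_succ, pow_zero, mul_inv_rev, inv_inv, inv_one, one_mul, mul_one, mul_assoc,
      mul_inv_cancel_left, inv_mul_cancel_left, mul_inv_cancel, inv_mul_cancel, iw] at h ⊢
    exact h
  · have h := mul_inv_eq_one.mpr e20
    simp only [pow_succ, pow_zero, mul_inv_rev, inv_inv, inv_one, one_mul, mul_one, mul_assoc,
      mul_inv_cancel_left, inv_mul_cancel_left, mul_inv_cancel, inv_mul_cancel, iw] at h ⊢
    exact h
  · have h := mul_inv_eq_one.mpr e21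
    simp only [pow_succ, pow_zero, mul_inv_rev, inv_inv, inv_one, one_mul, mul_one, mul_assoc,
      mul_inv_cancel_left, inv_mul_cancel_left, mul_inv_cancel, inv_mul_cancel, iw] at h ⊢
    exact h

/-- Certificate data. -/
def k2_par : Trie :=
    (.node (.leaf (nat_lit 0)) (.leaf (nat_lit 13)))

/-- Certificate data. -/
def k2_fact : Trie :=
    (.node (.node (.node (.node (.leaf (nat_lit 1)) (.leaf (nat_lit 780))) (.leaf (nat_lit 525)))
    (.node (.leaf (nat_lit 9)) (.leaf (nat_lit 777)))) (.node (.node (.leaf (nat_lit 7)) (.leaf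
    (nat_lit 769))) (.node (.leaf (nat_lit 11)) (.leaf (nat_lit 775)))))

/-- Certificate data. -/
def k2_just : Trie :=
    (.node (.node (.node (.node (.leaf (nat_lit 1)) (.leaf (nat_lit 36185099665414))) (.leaf
    (nat_lit 0))) (.node (.leaf (nat_lit 1)) (.leaf (nat_lit 35910221758468)))) (.node (.node
    (.leaf (nat_lit 1)) (.leaf (nat_lit 35360465944579))) (.node (.leaf (nat_lit 1)) (.leaf
    (nat_lit 35635343851525)))))

/-- Certificate data. -/
def k2_rel : Trie :=
    (.node (.node (.node (.leaf (nat_lit 0)) (.leaf (nat_lit 218893579))) (.leaf (nat_lit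
    218762506))) (.node (.leaf (nat_lit 218238210)) (.leaf (nat_lit 218631432))))

/-- Certificate data. -/
def k2_rc : Trie :=
    (.node (.node (.node (.leaf (nat_lit 14)) (.leaf (nat_lit 131084))) (.leaf (nat_lit 7))) (.node
    (.leaf (nat_lit 5)) (.leaf (nat_lit 11))))

/-- Certificate data. -/
def k2_lv : Trie :=
    (.node (.leaf (nat_lit 0)) (.leaf (nat_lit 1)))

/-- Certificate data. -/
def k2_tb : Trie :=
    (.node (.node (.node (.node (.leaf (nat_lit 0)) (.leaf (nat_lit 40))) (.leaf (nat_lit 4)))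
    (.node (.leaf (nat_lit 2)) (.leaf (nat_lit 6)))) (.node (.node (.node (.leaf (nat_lit 42))
    (.leaf (nat_lit 9))) (.leaf (nat_lit 44))) (.node (.leaf (nat_lit 46)) (.leaf (nat_lit 49)))))

/-- Certificate data. -/
def k2_C : TC.Cert := ⟨1, 1, 5, 31, 264546559382932225809280147718656, 8190, k2_par, k2_fact, k2_just, k2_rel, 5⟩

/-- Certificate data. -/
def k2_rs : List (List ℕ) := [[13, 13], [13, 5, 13, 5], [13, 1, 13, 1], [13, 9, 13, 9], [13, 3, 13, 4], [13, 7, 13, 7], [13, 11, 13, 12]]

/-- Certificate data. -/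
def k2_gl : List ℕ := [1, 519, 1033, 1547, 2061]

theorem k2_h1 : allB k2_C.factChk 9 = true := by decide +kernel

theorem k2_h2 : k2_C.finChk 9 2 k2_lv k2_tb k2_gl = true := by decide +kernel

theorem k2_h3 : TC.relChk k2_C.ivc k2_rs k2_C.rel k2_rc k2_C.nrel = true := by decide +kernel

theorem k2_bound {G : Type*} [Group G] {c y z s u w p : G}
    (r0 : p * p = 1)
    (r1 : p * z * p * z = 1)
    (r2 : p * c * p * c = 1)
    (r3 : p * u * p * u = 1)
    (r4 : p * y * p * y⁻¹ = 1)
    (r5 : p * s * p * s = 1)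
    (r6 : p * w * p * w⁻¹ = 1)
    (H : Subgroup G) [Finite H] (m1 : c ∈ H) (m3 : y ∈ H) (m5 : z ∈ H) (m7 : s ∈ H) (m9 : u ∈ H) (m11 : w ∈ H) :
    Finite (Subgroup.closure ({c, s, u, w, p} : Set G)) ∧
      Nat.card (Subgroup.closure ({c, s, u, w, p} : Set G)) ≤ 2 * Nat.card H := by
  have hL : TC.Lett (TC.lett [c, c⁻¹, y, y⁻¹, z, z⁻¹, s, s⁻¹, u, u⁻¹, w, w⁻¹, p]) k2_C.ivc :=
    TC.lett_ok (show Nat.shiftRight k2_C.ivc (8 * 14) = 0 by decide +kernel) (by
      intro a ha
      change a < 14 at ha
      interval_cases a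
      · exact inv_one.symm
      · rfl
      · exact (inv_inv _).symm
      · rfl
      · exact (inv_inv _).symm
      · rfl
      · exact (inv_inv _).symm
      · rfl
      · exact (inv_inv _).symm
      · rfl
      · exact (inv_inv _).symm
      · rfl
      · exact (inv_inv _).symm
      · exact (inv_eq_of_mul_eq_one_right r0).symm)
  have h := TC.card_le k2_h1 k2_h2 k2_h3 (by decide) hL (by
    simp only [k2_rs, List.forall_mem_cons]
    refine ⟨?_, ?_, ?_, ?_, ?_, ?_, ?_, List.forall_mem_nil _⟩
    · show p * (p * 1) = 1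
      simp only [mul_one] at r0 ⊢
      exact r0
    · show p * (z * (p * (z * 1))) = 1
      simp only [mul_assoc, mul_one] at r1 ⊢
      exact r1
    · show p * (c * (p * (c * 1))) = 1
      simp only [mul_assoc, mul_one] at r2 ⊢
      exact r2
    · show p * (u * (p * (u * 1))) = 1
      simp only [mul_assoc, mul_one] at r3 ⊢
      exact r3
    · show p * (y * (p * (y⁻¹ * 1))) = 1
      simp only [mul_assoc, mul_one] at r4 ⊢
      exact r4
    · show p * (s * (p * (s * 1))) = 1
      simp only [mul_assoc, mul_one] at r5 ⊢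
      exact r5
    · show p * (w * (p * (w⁻¹ * 1))) = 1
      simp only [mul_assoc, mul_one] at r6 ⊢
      exact r6) H
    (TC.forall_subs (K := 14) (by decide +kernel) (by
      intro a ha hb
      interval_cases a
      · exact absurd hb (by decide +kernel)
      · exact m1
      · exact H.inv_mem m1
      · exact m3
      · exact H.inv_mem m3
      · exact m5
      · exact H.inv_mem m5
      · exact m7
      · exact H.inv_mem m7
      · exact m9
      · exact H.inv_mem m9
      · exact m11
      · exact H.inv_mem m11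
      · exact absurd hb (by decide +kernel)))
  have e : {g₀ | ∃ ak ∈ k2_gl, TC.lett [c, c⁻¹, y, y⁻¹, z, z⁻¹, s, s⁻¹, u, u⁻¹, w, w⁻¹, p] (ak % 256) = g₀} =
      {c, s, u, w, p} := by
    ext g₀
    simp only [k2_gl, List.mem_cons, List.not_mem_nil, or_false, exists_eq_or_imp,
      exists_eq_left, Set.mem_ofPred_eq, Set.mem_insert_iff, Set.mem_singleton_iff]
    exact or_congr eq_comm (or_congr eq_comm (or_congr eq_comm (or_congr eq_comm (eq_comm))))
  rw [e] at h
  exact h

theorem k2_card {G : Type*} [Group G] {c y z s u w p : G}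
    (e0 : p * p = 1)
    (e1 : p * z = z⁻¹ * p)
    (e2 : p * c = c⁻¹ * p)
    (e3 : p * u = u⁻¹ * p)
    (e4 : p * y = y * p)
    (e5 : p * s = s⁻¹ * p)
    (e6 : p * w = w * p)
    (H : Subgroup G) [Finite H] (mc : c ∈ H) (my : y ∈ H) (mz : z ∈ H) (ms : s ∈ H) (mu : u ∈ H) (mw : w ∈ H) :
    Finite (Subgroup.closure ({c, s, u, w, p} : Set G)) ∧
      Nat.card (Subgroup.closure ({c, s, u, w, p} : Set G)) ≤ 2 * Nat.card H := by
  have ip : p⁻¹ = p := inv_eq_of_mul_eq_one_right e0
  refine k2_bound ?_ ?_ ?_ ?_ ?_ ?_ ?_ H mc my mz ms mu mw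
  · have h := mul_inv_eq_one.mpr e0
    simp only [pow_succ, pow_zero, mul_inv_rev, inv_inv, inv_one, one_mul, mul_one, mul_assoc,
      mul_inv_cancel_left, inv_mul_cancel_left, mul_inv_cancel, inv_mul_cancel, ip] at h ⊢
    exact h
  · have h := mul_inv_eq_one.mpr e1
    simp only [pow_succ, pow_zero, mul_inv_rev, inv_inv, inv_one, one_mul, mul_one, mul_assoc,
      mul_inv_cancel_left, inv_mul_cancel_left, mul_inv_cancel, inv_mul_cancel, ip] at h ⊢
    exact h
  · have h := mul_inv_eq_one.mpr e2
    simp only [pow_succ, pow_zero, mul_inv_rev, inv_inv, inv_one, one_mul, mul_one, mul_assoc,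
      mul_inv_cancel_left, inv_mul_cancel_left, mul_inv_cancel, inv_mul_cancel, ip] at h ⊢
    exact h
  · have h := mul_inv_eq_one.mpr e3
    simp only [pow_succ, pow_zero, mul_inv_rev, inv_inv, inv_one, one_mul, mul_one, mul_assoc,
      mul_inv_cancel_left, inv_mul_cancel_left, mul_inv_cancel, inv_mul_cancel, ip] at h ⊢
    exact h
  · have h := mul_inv_eq_one.mpr e4
    simp only [pow_succ, pow_zero, mul_inv_rev, inv_inv, inv_one, one_mul, mul_one, mul_assoc,
      mul_inv_cancel_left, inv_mul_cancel_left, mul_inv_cancel, inv_mul_cancel, ip] at h ⊢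
    exact h
  · have h := mul_inv_eq_one.mpr e5
    simp only [pow_succ, pow_zero, mul_inv_rev, inv_inv, inv_one, one_mul, mul_one, mul_assoc,
      mul_inv_cancel_left, inv_mul_cancel_left, mul_inv_cancel, inv_mul_cancel, ip] at h ⊢
    exact h
  · have h := mul_inv_eq_one.mpr e6
    simp only [pow_succ, pow_zero, mul_inv_rev, inv_inv, inv_one, one_mul, mul_one, mul_assoc,
      mul_inv_cancel_left, inv_mul_cancel_left, mul_inv_cancel, inv_mul_cancel, ip] at h ⊢
    exact h

/-- Certificate data. -/
def k3_par : Trie :=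
    (.node (.node (.node (.node (.node (.leaf (nat_lit 0)) (.leaf (nat_lit 774))) (.node (.leaf
    (nat_lit 515)) (.leaf (nat_lit 1282)))) (.node (.node (.leaf (nat_lit 259)) (.leaf (nat_lit
    1029))) (.node (.leaf (nat_lit 525)) (.leaf (nat_lit 2054))))) (.node (.node (.node (.leaf
    (nat_lit 257)) (.leaf (nat_lit 1025))) (.node (.leaf (nat_lit 517)) (.leaf (nat_lit 1286))))
    (.node (.node (.leaf (nat_lit 261)) (.leaf (nat_lit 1037))) (.node (.leaf (nat_lit 772)) (.leaf
    (nat_lit 2309)))))) (.node (.node (.node (.node (.leaf (nat_lit 13)) (.leaf (nat_lit 781)))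
    (.node (.leaf (nat_lit 516)) (.leaf (nat_lit 1285)))) (.node (.node (.leaf (nat_lit 260))
    (.leaf (nat_lit 1030))) (.node (.leaf (nat_lit 771)) (.leaf (nat_lit 2305))))) (.node (.node
    (.node (.leaf (nat_lit 258)) (.leaf (nat_lit 1026))) (.node (.leaf (nat_lit 518)) (.leaf
    (nat_lit 2049)))) (.node (.node (.leaf (nat_lit 262)) (.leaf (nat_lit 1281))) (.leaf (nat_lit
    773))))))

/-- Certificate data. -/
def k3_fact : Trie :=
    (.node (.node (.node (.node (.node (.node (.node (.node (.leaf (nat_lit 1)) (.leaf (nat_lit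
    64003))) (.leaf (nat_lit 131846))) (.node (.node (.leaf (nat_lit 50956)) (.leaf (nat_lit
    154630))) (.leaf (nat_lit 161033)))) (.node (.node (.node (.leaf (nat_lit 33027)) (.leaf
    (nat_lit 109837))) (.leaf (nat_lit 152332))) (.node (.node (.leaf (nat_lit 75017)) (.leaf
    (nat_lit 244749))) (.leaf (nat_lit 194572))))) (.node (.node (.node (.node (.leaf (nat_lit
    8456)) (.leaf (nat_lit 92941))) (.leaf (nat_lit 140045))) (.node (.node (.leaf (nat_lit 67844))
    (.leaf (nat_lit 239873))) (.leaf (nat_lit 71431)))) (.node (.node (.node (.leaf (nat_lit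
    42251)) (.leaf (nat_lit 223233))) (.leaf (nat_lit 111618))) (.node (.node (.leaf (nat_lit
    115978)) (.leaf (nat_lit 253451))) (.leaf (nat_lit 55555)))))) (.node (.node (.node (.node
    (.node (.leaf (nat_lit 9)) (.leaf (nat_lit 20736))) (.leaf (nat_lit 28682))) (.node (.node
    (.leaf (nat_lit 58891)) (.leaf (nat_lit 162826))) (.leaf (nat_lit 169228)))) (.node (.node
    (.node (.leaf (nat_lit 41220)) (.leaf (nat_lit 76045))) (.leaf (nat_lit 107529))) (.node (.node
    (.leaf (nat_lit 68876)) (.leaf (nat_lit 212490))) (.leaf (nat_lit 80129))))) (.node (.node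
    (.node (.node (.leaf (nat_lit 24834)) (.leaf (nat_lit 84493))) (.leaf (nat_lit 156674))) (.node
    (.node (.leaf (nat_lit 90630)) (.leaf (nat_lit 204038))) (.leaf (nat_lit 197890)))) (.node
    (.node (.node (.leaf (nat_lit 50696)) (.leaf (nat_lit 162565))) (.leaf (nat_lit 111627)))
    (.node (.leaf (nat_lit 52993)) (.leaf (nat_lit 121346))))))) (.node (.node (.node (.node (.node
    (.node (.leaf (nat_lit 5)) (.leaf (nat_lit 211468))) (.leaf (nat_lit 61441))) (.node (.node
    (.leaf (nat_lit 49418)) (.leaf (nat_lit 171010))) (.leaf (nat_lit 95496)))) (.node (.node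
    (.node (.leaf (nat_lit 33804)) (.leaf (nat_lit 194317))) (.leaf (nat_lit 157703))) (.node
    (.node (.leaf (nat_lit 98829)) (.leaf (nat_lit 220674))) (.leaf (nat_lit 200197))))) (.node
    (.node (.node (.node (.leaf (nat_lit 8460)) (.leaf (nat_lit 177421))) (.leaf (nat_lit 111111)))
    (.node (.node (.leaf (nat_lit 51714)) (.leaf (nat_lit 195850))) (.leaf (nat_lit 120584))))
    (.node (.node (.node (.leaf (nat_lit 41480)) (.leaf (nat_lit 170762))) (.leaf (nat_lit 87048)))
    (.node (.node (.leaf (nat_lit 123653)) (.leaf (nat_lit 228877))) (.leaf (nat_lit 214278))))))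
    (.node (.node (.node (.node (.node (.leaf (nat_lit 12)) (.leaf (nat_lit 25101))) (.leaf
    (nat_lit 86028))) (.node (.node (.leaf (nat_lit 66051)) (.leaf (nat_lit 236555))) (.leaf
    (nat_lit 103944)))) (.node (.node (.node (.leaf (nat_lit 25864)) (.leaf (nat_lit 152077)))
    (.leaf (nat_lit 108554))) (.node (.node (.leaf (nat_lit 110084)) (.leaf (nat_lit 245256)))
    (.leaf (nat_lit 129288))))) (.node (.node (.node (.node (.leaf (nat_lit 17163)) (.leaf (nat_lit
    168973))) (.leaf (nat_lit 119559))) (.node (.node (.leaf (nat_lit 60162)) (.leaf (nat_lit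
    228616))) (.leaf (nat_lit 79879)))) (.node (.node (.node (.leaf (nat_lit 50950)) (.leaf
    (nat_lit 113414))) (.leaf (nat_lit 169222))) (.node (.leaf (nat_lit 93964)) (.leaf (nat_lit
    96775)))))))) (.node (.node (.node (.node (.node (.node (.node (.leaf (nat_lit 3)) (.leaf
    (nat_lit 121355))) (.leaf (nat_lit 126982))) (.node (.node (.leaf (nat_lit 9994)) (.leaf
    (nat_lit 113665))) (.leaf (nat_lit 136455)))) (.node (.node (.node (.leaf (nat_lit 17416))
    (.leaf (nat_lit 67597))) (.leaf (nat_lit 158982))) (.node (.node (.leaf (nat_lit 92682)) (.leaf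
    (nat_lit 248069))) (.leaf (nat_lit 112648))))) (.node (.node (.node (.node (.leaf (nat_lit
    8459)) (.leaf (nat_lit 219661))) (.leaf (nat_lit 148481))) (.node (.node (.leaf (nat_lit
    82437)) (.leaf (nat_lit 212225))) (.leaf (nat_lit 96003)))) (.node (.node (.node (.leaf
    (nat_lit 33803)) (.leaf (nat_lit 178945))) (.leaf (nat_lit 152586))) (.node (.node (.leaf
    (nat_lit 77322)) (.leaf (nat_lit 245260))) (.leaf (nat_lit 80139)))))) (.node (.node (.node
    (.node (.node (.leaf (nat_lit 11)) (.leaf (nat_lit 46592))) (.leaf (nat_lit 86027))) (.node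
    (.node (.leaf (nat_lit 50957)) (.leaf (nat_lit 228359))) (.leaf (nat_lit 181261)))) (.node
    (.node (.node (.leaf (nat_lit 34052)) (.leaf (nat_lit 202765))) (.leaf (nat_lit 34825))) (.node
    (.node (.leaf (nat_lit 115460)) (.leaf (nat_lit 204297))) (.leaf (nat_lit 203018))))) (.node
    (.node (.node (.node (.leaf (nat_lit 17154)) (.leaf (nat_lit 211213))) (.leaf (nat_lit
    152322))) (.node (.node (.leaf (nat_lit 84742)) (.leaf (nat_lit 245003))) (.leaf (nat_lit
    194562)))) (.node (.node (.node (.leaf (nat_lit 57606)) (.leaf (nat_lit 228107))) (.leaf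
    (nat_lit 173062))) (.node (.leaf (nat_lit 93963)) (.leaf (nat_lit 195081))))))) (.node (.node
    (.node (.node (.node (.node (.leaf (nat_lit 7)) (.leaf (nat_lit 27648))) (.leaf (nat_lit
    94210))) (.node (.node (.leaf (nat_lit 58890)) (.leaf (nat_lit 179209))) (.leaf (nat_lit
    70923)))) (.node (.node (.node (.leaf (nat_lit 25607)) (.leaf (nat_lit 160525))) (.leaf
    (nat_lit 78344))) (.node (.node (.leaf (nat_lit 107267)) (.leaf (nat_lit 122369))) (.leaf
    (nat_lit 206085))))) (.node (.node (.node (.node (.leaf (nat_lit 16641)) (.leaf (nat_lit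
    126733))) (.leaf (nat_lit 70150))) (.node (.node (.leaf (nat_lit 82442)) (.leaf (nat_lit
    220425))) (.leaf (nat_lit 79621)))) (.node (.node (.node (.leaf (nat_lit 49413)) (.leaf
    (nat_lit 154377))) (.leaf (nat_lit 128007))) (.node (.leaf (nat_lit 85762)) (.leaf (nat_lit
    211462)))))) (.node (.node (.node (.node (.node (.leaf (nat_lit 8205)) (.leaf (nat_lit 34061)))
    (.leaf (nat_lit 134922))) (.node (.node (.leaf (nat_lit 74244)) (.leaf (nat_lit 228364)))
    (.leaf (nat_lit 189697)))) (.node (.node (.node (.leaf (nat_lit 42252)) (.leaf (nat_lit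
    118285))) (.leaf (nat_lit 164869))) (.node (.node (.leaf (nat_lit 77324)) (.leaf (nat_lit
    237063))) (.leaf (nat_lit 88327))))) (.node (.node (.node (.node (.leaf (nat_lit 17164)) (.leaf
    (nat_lit 135181))) (.leaf (nat_lit 152331))) (.node (.node (.leaf (nat_lit 19210)) (.leaf
    (nat_lit 122117))) (.leaf (nat_lit 194571)))) (.node (.node (.node (.leaf (nat_lit 59143))
    (.leaf (nat_lit 231430))) (.leaf (nat_lit 70913))) (.node (.leaf (nat_lit 123658)) (.leaf
    (nat_lit 137736)))))))))

/-- Certificate data. -/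
def k3_just : Trie :=
    (.node (.node (.node (.node (.node (.node (.node (.node (.leaf (nat_lit 1)) (.leaf (nat_lit
    65393406817534006))) (.leaf (nat_lit 0))) (.node (.node (.leaf (nat_lit 60845027861135381))
    (.leaf (nat_lit 333422606286867))) (.leaf (nat_lit 182766023974518830)))) (.node (.node (.node
    (.leaf (nat_lit 0)) (.leaf (nat_lit 207790900032766011))) (.leaf (nat_lit 164463407389671432)))
    (.node (.node (.leaf (nat_lit 23072946467146513580062)) (.leaf (nat_lit
    13850896368541383729953964032060))) (.leaf (nat_lit 232039666910691336))))) (.node (.node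
    (.node (.node (.leaf (nat_lit 15778056283291651)) (.leaf (nat_lit
    163990980692475107184396392442081283865401248045683122042405543428423736))) (.leaf (nat_lit
    0))) (.node (.node (.leaf (nat_lit 167465069969420)) (.leaf (nat_lit 0))) (.leaf (nat_lit
    85685830211010598)))) (.node (.node (.node (.leaf (nat_lit 954858898125522893535257607864335))
    (.leaf (nat_lit 0))) (.leaf (nat_lit 183856687969665051))) (.node (.node (.leaf (nat_lit
    125186193460756511)) (.leaf (nat_lit 406985753734873122))) (.leaf (nat_lit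
    60889747060621365)))))) (.node (.node (.node (.node (.node (.leaf (nat_lit 1)) (.leaf (nat_lit
    114294856477769730))) (.leaf (nat_lit 132007920081764376))) (.node (.node (.leaf (nat_lit
    65342073368412185)) (.leaf (nat_lit 182775387003224088))) (.leaf (nat_lit
    195988750810152981)))) (.node (.node (.node (.leaf (nat_lit 0)) (.leaf (nat_lit
    8732687228474370139965274718268))) (.leaf (nat_lit 43778267113065185345579))) (.node (.node
    (.leaf (nat_lit 85634805999534090)) (.leaf (nat_lit 259171808543178775))) (.leaf (nat_lit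
    241396570992607265))))) (.node (.node (.node (.node (.leaf (nat_lit 0)) (.leaf (nat_lit
    9446507445760932535526140411964))) (.leaf (nat_lit 0))) (.node (.node (.leaf (nat_lit 0))
    (.leaf (nat_lit 247046317002653763))) (.leaf (nat_lit 0)))) (.node (.node (.node (.leaf
    (nat_lit 60834015564988434)) (.leaf (nat_lit 174847848037417025))) (.leaf (nat_lit
    189264086155067426))) (.node (.leaf (nat_lit 60854073062260769)) (.leaf (nat_lit
    258307119957344285))))))) (.node (.node (.node (.node (.node (.node (.leaf (nat_lit 1)) (.leaf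
    (nat_lit 259061384933998613))) (.leaf (nat_lit 65357724229238820))) (.node (.node (.leaf
    (nat_lit 60943979612667927)) (.leaf (nat_lit 212090566022987805))) (.leaf (nat_lit
    99154761751920687)))) (.node (.node (.node (.leaf (nat_lit 36075118241447946)) (.leaf (nat_lit
    235951690627612729))) (.leaf (nat_lit 181597990438502411))) (.node (.node (.leaf (nat_lit 0))
    (.leaf (nat_lit 278611174122258459))) (.leaf (nat_lit 255938393953992756))))) (.node (.node
    (.node (.node (.leaf (nat_lit 15791250422824965)) (.leaf (nat_lit 222401257787293754))) (.leaf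
    (nat_lit 114925984742047782))) (.node (.node (.leaf (nat_lit 60849528986861595)) (.leaf
    (nat_lit 232150133469544476))) (.leaf (nat_lit 46130739250071609868337)))) (.node (.node (.node
    (.leaf (nat_lit 3798000156992106042338246673)) (.leaf (nat_lit 199663825476321308))) (.leaf
    (nat_lit 92399310771257362))) (.node (.node (.leaf (nat_lit 0)) (.leaf (nat_lit
    93659035556046637957189))) (.leaf (nat_lit 0)))))) (.node (.node (.node (.node (.node (.leaf
    (nat_lit 1)) (.leaf (nat_lit 319996538519554))) (.leaf (nat_lit 92390317109739541))) (.node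
    (.node (.leaf (nat_lit 0)) (.leaf (nat_lit 368608245260156965))) (.leaf (nat_lit
    112665629353508867)))) (.node (.node (.node (.leaf (nat_lit 27056958230167565)) (.leaf (nat_lit
    188676908291129402))) (.leaf (nat_lit 370166051504160))) (.node (.node (.leaf (nat_lit
    224759933698060)) (.leaf (nat_lit 388922976713768978))) (.leaf (nat_lit 130702138354630674)))))
    (.node (.node (.node (.node (.leaf (nat_lit 24811686766772231)) (.leaf (nat_lit
    204404382744379450))) (.leaf (nat_lit 119429610139222056))) (.node (.node (.leaf (nat_lit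
    65353154384035869)) (.leaf (nat_lit 97585260472990928535601))) (.leaf (nat_lit
    87937672974368808)))) (.node (.node (.node (.leaf (nat_lit 119000659001363)) (.leaf (nat_lit
    58829566667189911591))) (.leaf (nat_lit 383433205481491))) (.node (.leaf (nat_lit
    99145665011187747)) (.leaf (nat_lit 99196792301879316)))))))) (.node (.node (.node (.node
    (.node (.node (.node (.leaf (nat_lit 1)) (.leaf (nat_lit 126209593973080101))) (.leaf (nat_lit
    255640748556307))) (.node (.node (.leaf (nat_lit 4137264482019956817942)) (.leaf (nat_lit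
    356454243726721060))) (.leaf (nat_lit 144199554118647828)))) (.node (.node (.node (.leaf
    (nat_lit 24805124056743945)) (.leaf (nat_lit 50571492556256166871101))) (.leaf (nat_lit
    181602384190046249))) (.node (.node (.leaf (nat_lit 99286290830393368)) (.leaf (nat_lit 0)))
    (.leaf (nat_lit 43766097244165916393523))))) (.node (.node (.node (.node (.leaf (nat_lit
    15786852376313860)) (.leaf (nat_lit 285451893088649273))) (.leaf (nat_lit 0))) (.node (.node
    (.leaf (nat_lit 0)) (.leaf (nat_lit 513819822653503))) (.leaf (nat_lit 50753407049663774768))))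
    (.node (.node (.node (.leaf (nat_lit 12424503670116112990224)) (.leaf (nat_lit
    421323406966847))) (.leaf (nat_lit 170387670529409047))) (.node (.node (.leaf (nat_lit
    211591563968544)) (.leaf (nat_lit 395436483596714019))) (.leaf (nat_lit
    108195135334055970)))))) (.node (.node (.node (.node (.node (.leaf (nat_lit 1)) (.leaf (nat_lit
    51242516074397698))) (.leaf (nat_lit 96889518690598949))) (.node (.node (.leaf (nat_lit
    2694841631489819515275910316058)) (.leaf (nat_lit 352768680750415892))) (.leaf (nat_lit 0))))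
    (.node (.node (.node (.leaf (nat_lit 70544837967884)) (.leaf (nat_lit 249475735188865081)))
    (.leaf (nat_lit 42030382455128108))) (.node (.node (.leaf (nat_lit 0)) (.leaf (nat_lit
    256959591148093508))) (.leaf (nat_lit 256952461502382103))))) (.node (.node (.node (.node
    (.leaf (nat_lit 48485885935622)) (.leaf (nat_lit 269706826449354809))) (.leaf (nat_lit
    321714525437958))) (.node (.node (.leaf (nat_lit 180702159175699)) (.leaf (nat_lit
    382215878474924098))) (.leaf (nat_lit 453930798678022)))) (.node (.node (.node (.leaf (nat_lit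
    0)) (.leaf (nat_lit 346090186993762370))) (.leaf (nat_lit 0))) (.node (.leaf (nat_lit
    107022566312575010)) (.leaf (nat_lit 242280638470881326))))))) (.node (.node (.node (.node
    (.node (.node (.leaf (nat_lit 1)) (.leaf (nat_lit 1116394747337133469132184173790494775)))
    (.leaf (nat_lit 99136920457773085))) (.node (.node (.leaf (nat_lit 65447592124940312)) (.leaf
    (nat_lit 209792586720935982))) (.leaf (nat_lit 192641837415202853)))) (.node (.node (.node
    (.leaf (nat_lit 34977818521829387)) (.leaf (nat_lit 185286010136100922))) (.leaf (nat_lit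
    124192728870486058))) (.node (.node (.leaf (nat_lit 0)) (.leaf (nat_lit 394805363922370593)))
    (.leaf (nat_lit 0))))) (.node (.node (.node (.node (.leaf (nat_lit 0)) (.leaf (nat_lit
    139084346853359675))) (.leaf (nat_lit 43835860172138610727))) (.node (.node (.leaf (nat_lit
    95851124447445020)) (.leaf (nat_lit 280603411882377280))) (.leaf (nat_lit
    24006829874045673340978)))) (.node (.node (.node (.leaf (nat_lit 0)) (.leaf (nat_lit
    164756530317688896))) (.leaf (nat_lit 130688703696928813))) (.node (.leaf (nat_lit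
    92381469477109787)) (.leaf (nat_lit 506827615895571)))))) (.node (.node (.node (.node (.node
    (.leaf (nat_lit 0)) (.leaf (nat_lit 447548477276162))) (.leaf (nat_lit 144414817879523352)))
    (.node (.node (.leaf (nat_lit 0)) (.leaf (nat_lit 357142538005708821))) (.leaf (nat_lit 0))))
    (.node (.node (.node (.leaf (nat_lit 45082351855927310)) (.leaf (nat_lit 125626272989773886)))
    (.leaf (nat_lit 0))) (.node (.node (.leaf (nat_lit 87886622993088526)) (.leaf (nat_lit
    361782631693746221))) (.leaf (nat_lit 92441332731281453))))) (.node (.node (.node (.node (.leaf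
    (nat_lit 24816084813283336)) (.leaf (nat_lit 157116406268362811))) (.leaf (nat_lit
    164494193715249159))) (.node (.node (.leaf (nat_lit 93639190520201240)) (.leaf (nat_lit
    32268014573485180649522))) (.leaf (nat_lit 232044064957202439)))) (.node (.node (.node (.leaf
    (nat_lit 65339831395483668)) (.leaf (nat_lit 0))) (.leaf (nat_lit 169206846580785188))) (.node
    (.leaf (nat_lit 140946524413820959)) (.leaf (nat_lit 144212997366284335)))))))))

/-- Certificate data. -/
def k3_rel : Trie :=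
    (.node (.node (.node (.node (.node (.node (.node (.leaf (nat_lit 0)) (.leaf (nat_lit
    34275851))) (.leaf (nat_lit 101386507))) (.node (.leaf (nat_lit 101188871)) (.leaf (nat_lit
    2242040627974)))) (.node (.node (.leaf (nat_lit 67896076)) (.leaf (nat_lit 201788423))) (.node
    (.leaf (nat_lit 166672885209723898381)) (.leaf (nat_lit 135071501))))) (.node (.node (.node
    (.leaf (nat_lit 65793)) (.leaf (nat_lit 34013960))) (.node (.leaf (nat_lit 5553494035721))
    (.leaf (nat_lit 84084228)))) (.node (.node (.leaf (nat_lit 51119116)) (.leaf (nat_lit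
    84477450))) (.node (.leaf (nat_lit 3337206694922)) (.leaf (nat_lit 202181645)))))) (.node
    (.node (.node (.node (.node (.leaf (nat_lit 218828043)) (.leaf (nat_lit 101254410))) (.leaf
    (nat_lit 83953154))) (.node (.leaf (nat_lit 84346376)) (.leaf (nat_lit 134547206)))) (.node
    (.node (.leaf (nat_lit 197379)) (.leaf (nat_lit 201985034))) (.node (.leaf (nat_lit 34210057))
    (.leaf (nat_lit 185406732685986432781))))) (.node (.node (.node (.leaf (nat_lit 17563916))
    (.leaf (nat_lit 17237000))) (.node (.leaf (nat_lit 84542985)) (.leaf (nat_lit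
    99137799451574011861289044109647911194160787483424524557)))) (.node (.node (.leaf (nat_lit
    4445358982155)) (.leaf (nat_lit 8640333316))) (.node (.leaf (nat_lit 592137)) (.leaf (nat_lit
    34144522))))))) (.node (.node (.node (.node (.node (.node (.leaf (nat_lit 218631431)) (.leaf
    (nat_lit 33947909))) (.leaf (nat_lit 101451276))) (.node (.leaf (nat_lit 328965)) (.leaf
    (nat_lit 1134005651207)))) (.node (.node (.leaf (nat_lit 201853960)) (.leaf (nat_lit
    8830604216074))) (.node (.leaf (nat_lit 100795649)) (.leaf (nat_lit 185404173))))) (.node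
    (.node (.node (.leaf (nat_lit 17498379)) (.leaf (nat_lit 8657109765))) (.node (.leaf (nat_lit
    101319945)) (.leaf (nat_lit 61465347268188801075971)))) (.node (.node (.leaf (nat_lit
    14407198461375298145291)) (.leaf (nat_lit 84411911))) (.node (.leaf (nat_lit 201919497)) (.leaf
    (nat_lit 131586)))))) (.node (.node (.node (.node (.node (.leaf (nat_lit 218893580)) (.leaf
    (nat_lit 6640238134541))) (.leaf (nat_lit 84609547))) (.node (.leaf (nat_lit 84673804)) (.leaf
    (nat_lit 100861188)))) (.node (.node (.leaf (nat_lit 50856455)) (.leaf (nat_lit 101123336)))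
    (.node (.leaf (nat_lit 84018689)) (.leaf (nat_lit 9917297986061))))) (.node (.node (.node
    (.leaf (nat_lit 67633415)) (.leaf (nat_lit 201657349))) (.node (.leaf (nat_lit 151717387))
    (.leaf (nat_lit 118294541)))) (.node (.node (.leaf (nat_lit 794897463403547399)) (.leaf
    (nat_lit 2233517344519))) (.node (.leaf (nat_lit 100730114)) (.leaf (nat_lit 33882374))))))))

/-- Certificate data. -/
def k3_rc : Trie :=
    (.node (.node (.node (.node (.node (.node (.node (.leaf (nat_lit 74)) (.leaf (nat_lit 131111)))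
    (.leaf (nat_lit 393253))) (.node (.leaf (nat_lit 23)) (.leaf (nat_lit 655384)))) (.node (.node
    (.leaf (nat_lit 52)) (.leaf (nat_lit 131126))) (.node (.leaf (nat_lit 786501)) (.leaf (nat_lit
    60))))) (.node (.node (.node (.leaf (nat_lit 6)) (.leaf (nat_lit 393229))) (.node (.leaf
    (nat_lit 262210)) (.leaf (nat_lit 262175)))) (.node (.node (.leaf (nat_lit 262196)) (.leaf
    (nat_lit 262163))) (.node (.leaf (nat_lit 524313)) (.leaf (nat_lit 64)))))) (.node (.node
    (.node (.node (.node (.leaf (nat_lit 131134)) (.leaf (nat_lit 393234))) (.leaf (nat_lit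
    262161))) (.node (.leaf (nat_lit 262167)) (.leaf (nat_lit 393239)))) (.node (.node (.leaf
    (nat_lit 28)) (.leaf (nat_lit 51))) (.node (.leaf (nat_lit 9)) (.leaf (nat_lit 1048645)))))
    (.node (.node (.node (.leaf (nat_lit 48)) (.leaf (nat_lit 262156))) (.node (.leaf (nat_lit
    131090)) (.leaf (nat_lit 917577)))) (.node (.node (.leaf (nat_lit 131113)) (.leaf (nat_lit
    393230))) (.node (.leaf (nat_lit 0)) (.leaf (nat_lit 393224))))))) (.node (.node (.node (.node
    (.node (.node (.leaf (nat_lit 131132)) (.leaf (nat_lit 16))) (.leaf (nat_lit 131119))) (.node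
    (.leaf (nat_lit 26)) (.leaf (nat_lit 10)))) (.node (.node (.leaf (nat_lit 55)) (.leaf (nat_lit
    655364))) (.node (.leaf (nat_lit 17)) (.leaf (nat_lit 62))))) (.node (.node (.node (.leaf
    (nat_lit 38)) (.leaf (nat_lit 15))) (.node (.leaf (nat_lit 19)) (.leaf (nat_lit 131142))))
    (.node (.node (.leaf (nat_lit 262214)) (.leaf (nat_lit 131094))) (.node (.leaf (nat_lit
    131122)) (.leaf (nat_lit 7)))))) (.node (.node (.node (.node (.node (.leaf (nat_lit 131136))
    (.leaf (nat_lit 66))) (.leaf (nat_lit 262180))) (.node (.leaf (nat_lit 46)) (.leaf (nat_lit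
    393246)))) (.node (.node (.leaf (nat_lit 131085)) (.leaf (nat_lit 393238))) (.node (.leaf
    (nat_lit 131088)) (.leaf (nat_lit 393282))))) (.node (.node (.node (.leaf (nat_lit 12)) (.leaf
    (nat_lit 131118))) (.node (.leaf (nat_lit 131109)) (.leaf (nat_lit 262204)))) (.node (.node
    (.leaf (nat_lit 42)) (.leaf (nat_lit 131083))) (.node (.leaf (nat_lit 393232)) (.leaf (nat_lit
    393233))))))))

/-- Certificate data. -/
def k3_lv : Trie :=
    (.node (.node (.node (.node (.node (.leaf (nat_lit 0)) (.leaf (nat_lit 18))) (.node (.leaf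
    (nat_lit 8)) (.leaf (nat_lit 27)))) (.node (.node (.leaf (nat_lit 4)) (.leaf (nat_lit 23)))
    (.leaf (nat_lit 13)))) (.node (.node (.node (.leaf (nat_lit 2)) (.leaf (nat_lit 20))) (.node
    (.leaf (nat_lit 10)) (.leaf (nat_lit 29)))) (.node (.node (.leaf (nat_lit 6)) (.leaf (nat_lit
    25))) (.leaf (nat_lit 15))))) (.node (.node (.node (.node (.leaf (nat_lit 1)) (.leaf (nat_lit
    19))) (.node (.leaf (nat_lit 9)) (.leaf (nat_lit 28)))) (.node (.node (.leaf (nat_lit 5))
    (.leaf (nat_lit 24))) (.leaf (nat_lit 14)))) (.node (.node (.node (.leaf (nat_lit 3)) (.leaf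
    (nat_lit 21))) (.node (.leaf (nat_lit 11)) (.leaf (nat_lit 30)))) (.node (.node (.leaf (nat_lit
    7)) (.leaf (nat_lit 26))) (.leaf (nat_lit 16))))))

/-- Certificate data. -/
def k3_tb : Trie :=
    (.node (.node (.node (.node (.node (.node (.node (.node (.leaf (nat_lit 0)) (.leaf (nat_lit
    8865))) (.leaf (nat_lit 2218))) (.node (.node (.leaf (nat_lit 1574)) (.leaf (nat_lit 10533)))
    (.leaf (nat_lit 9401)))) (.node (.node (.node (.leaf (nat_lit 8859)) (.leaf (nat_lit 2831)))
    (.leaf (nat_lit 8502))) (.node (.leaf (nat_lit 4304)) (.leaf (nat_lit 13))))) (.node (.node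
    (.node (.node (.leaf (nat_lit 12592)) (.leaf (nat_lit 13135))) (.leaf (nat_lit 9395))) (.node
    (.leaf (nat_lit 10979)) (.leaf (nat_lit 10975)))) (.node (.node (.node (.leaf (nat_lit 10034))
    (.leaf (nat_lit 6433))) (.leaf (nat_lit 2099))) (.node (.leaf (nat_lit 8)) (.leaf (nat_lit
    6249)))))) (.node (.node (.node (.node (.node (.leaf (nat_lit 8338)) (.leaf (nat_lit 10977)))
    (.leaf (nat_lit 4269))) (.node (.node (.leaf (nat_lit 8868)) (.leaf (nat_lit 14197))) (.leaf
    (nat_lit 8863)))) (.node (.node (.node (.leaf (nat_lit 10971)) (.leaf (nat_lit 4387))) (.leaf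
    (nat_lit 11))) (.node (.leaf (nat_lit 13661)) (.leaf (nat_lit 2085))))) (.node (.node (.node
    (.node (.leaf (nat_lit 9393)) (.leaf (nat_lit 526))) (.leaf (nat_lit 13653))) (.node (.leaf
    (nat_lit 6292)) (.leaf (nat_lit 12603)))) (.node (.node (.node (.leaf (nat_lit 6)) (.leaf
    (nat_lit 8493))) (.leaf (nat_lit 9927))) (.node (.leaf (nat_lit 6312)) (.leaf (nat_lit
    4200))))))) (.node (.node (.node (.node (.node (.node (.leaf (nat_lit 1563)) (.leaf (nat_lit
    9929))) (.leaf (nat_lit 1111))) (.node (.node (.leaf (nat_lit 3129)) (.leaf (nat_lit 11547)))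
    (.leaf (nat_lit 5754)))) (.node (.node (.node (.leaf (nat_lit 13125)) (.leaf (nat_lit 3659)))
    (.leaf (nat_lit 12118))) (.node (.leaf (nat_lit 5358)) (.leaf (nat_lit 1567))))) (.node (.node
    (.node (.node (.leaf (nat_lit 7287)) (.leaf (nat_lit 14195))) (.leaf (nat_lit 12597))) (.node
    (.leaf (nat_lit 11501)) (.leaf (nat_lit 4850)))) (.node (.node (.node (.leaf (nat_lit 11602))
    (.leaf (nat_lit 7447))) (.leaf (nat_lit 3656))) (.node (.leaf (nat_lit 5727)) (.leaf (nat_lit
    7821)))))) (.node (.node (.node (.node (.node (.leaf (nat_lit 5205)) (.leaf (nat_lit 12037)))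
    (.leaf (nat_lit 1663))) (.node (.node (.leaf (nat_lit 9397)) (.leaf (nat_lit 13153))) (.leaf
    (nat_lit 6328)))) (.node (.node (.node (.leaf (nat_lit 4840)) (.leaf (nat_lit 5401))) (.leaf
    (nat_lit 1565))) (.node (.leaf (nat_lit 14189)) (.leaf (nat_lit 3649))))) (.node (.node (.node
    (.node (.leaf (nat_lit 3192)) (.leaf (nat_lit 1804))) (.leaf (nat_lit 14185))) (.node (.leaf
    (nat_lit 7350)) (.leaf (nat_lit 13659)))) (.node (.node (.node (.leaf (nat_lit 2083)) (.leaf
    (nat_lit 9501))) (.leaf (nat_lit 7819))) (.node (.leaf (nat_lit 581)) (.leaf (nat_lit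
    5756)))))))) (.node (.node (.node (.node (.node (.node (.node (.leaf (nat_lit 1046)) (.leaf
    (nat_lit 8352))) (.leaf (nat_lit 6771))) (.node (.node (.leaf (nat_lit 1077)) (.leaf (nat_lit
    11051))) (.leaf (nat_lit 12035)))) (.node (.node (.node (.leaf (nat_lit 2201)) (.leaf (nat_lit
    2318))) (.leaf (nat_lit 10054))) (.node (.leaf (nat_lit 4828)) (.leaf (nat_lit 533))))) (.node
    (.node (.node (.node (.leaf (nat_lit 13648)) (.leaf (nat_lit 12622))) (.leaf (nat_lit 13129)))
    (.node (.leaf (nat_lit 10453)) (.leaf (nat_lit 10462)))) (.node (.node (.node (.leaf (nat_lit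
    6466)) (.leaf (nat_lit 6959))) (.leaf (nat_lit 2609))) (.node (.leaf (nat_lit 3651)) (.leaf
    (nat_lit 6767)))))) (.node (.node (.node (.node (.node (.leaf (nat_lit 10446)) (.leaf (nat_lit
    10464))) (.leaf (nat_lit 2673))) (.node (.node (.leaf (nat_lit 8359)) (.leaf (nat_lit 13664)))
    (.leaf (nat_lit 8350)))) (.node (.node (.node (.leaf (nat_lit 2777)) (.leaf (nat_lit 4905)))
    (.leaf (nat_lit 531))) (.node (.leaf (nat_lit 12618)) (.leaf (nat_lit 2607))))) (.node (.node
    (.node (.node (.leaf (nat_lit 12025)) (.leaf (nat_lit 15))) (.leaf (nat_lit 11499))) (.node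
    (.leaf (nat_lit 6812)) (.leaf (nat_lit 13133)))) (.node (.node (.node (.leaf (nat_lit 529))
    (.leaf (nat_lit 8999))) (.leaf (nat_lit 11507))) (.node (.leaf (nat_lit 4704)) (.leaf (nat_lit
    4718))))))) (.node (.node (.node (.node (.node (.node (.leaf (nat_lit 537)) (.leaf (nat_lit
    9416))) (.leaf (nat_lit 5219))) (.node (.node (.leaf (nat_lit 3646)) (.leaf (nat_lit 12051)))
    (.leaf (nat_lit 5258)))) (.node (.node (.node (.leaf (nat_lit 4286)) (.leaf (nat_lit 3146)))
    (.leaf (nat_lit 11114))) (.node (.leaf (nat_lit 5884)) (.leaf (nat_lit 1054))))) (.node (.node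
    (.node (.node (.leaf (nat_lit 7815)) (.leaf (nat_lit 13682))) (.leaf (nat_lit 8896))) (.node
    (.leaf (nat_lit 12031)) (.leaf (nat_lit 6914)))) (.node (.node (.node (.leaf (nat_lit 7014))
    (.leaf (nat_lit 7967))) (.leaf (nat_lit 3145))) (.node (.leaf (nat_lit 7817)) (.leaf (nat_lit
    7293)))))) (.node (.node (.node (.node (.node (.leaf (nat_lit 5725)) (.leaf (nat_lit 11524)))
    (.leaf (nat_lit 7311))) (.node (.node (.leaf (nat_lit 9925)) (.leaf (nat_lit 12660))) (.leaf
    (nat_lit 4294)))) (.node (.node (.node (.leaf (nat_lit 14181)) (.leaf (nat_lit 5905))) (.leaf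
    (nat_lit 1052))) (.node (.leaf (nat_lit 13166)) (.leaf (nat_lit 3136))))) (.node (.node (.node
    (.node (.leaf (nat_lit 3716)) (.leaf (nat_lit 1293))) (.leaf (nat_lit 10490))) (.node (.leaf
    (nat_lit 7874)) (.leaf (nat_lit 14193)))) (.node (.node (.node (.leaf (nat_lit 2605)) (.leaf
    (nat_lit 10005))) (.leaf (nat_lit 7291))) (.node (.leaf (nat_lit 3143)) (.leaf (nat_lit
    5260)))))))))

/-- Certificate data. -/
def k3_C : TC.Cert := ⟨5, 31, 9, 511, 264625478060436668801804966887936, 8190, k3_par, k3_fact, k3_just, k3_rel, 68⟩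

/-- Certificate data. -/
def k3_rs : List (List ℕ) := [[9, 9, 9], [7, 7, 7, 7], [7, 7, 9, 8, 8, 10], [1, 1, 1], [1, 9, 2, 10], [7, 7, 1, 8, 8, 1], [7, 1, 8, 4], [1, 3, 2, 4, 6], [5, 1, 6, 2], [5, 9, 6, 10], [7, 9, 7, 9, 7, 9], [5, 7, 6, 8], [3, 9, 4, 10, 2, 6], [5, 5, 5], [3, 3, 3], [5, 3, 6, 4], [11, 11], [11, 7, 7, 11, 8, 8], [11, 5, 11, 10], [11, 1, 11, 1], [11, 3, 11, 3, 11, 3], [7, 11, 7, 11, 8, 11, 8, 11], [12, 12], [12, 5, 12, 5], [12, 1, 12, 1], [12, 9, 12, 9], [12, 3, 12, 4], [12, 7, 12, 7], [12, 11, 12, 11], [13, 13], [13, 7, 13, 8], [13, 11, 13, 11], [13, 12, 13, 12], [13, 5, 9, 13, 10, 6], [13, 9, 13, 10, 10, 13, 9, 8, 8], [13, 3, 11, 12, 4, 13, 3, 12, 11, 4], [13, 3, 11, 12, 4, 5, 2, 10, 13, 3, 11, 12, 4, 5, 2, 10, 13, 3, 11, 12, 4, 5, 2, 10]]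

/-- Certificate data. -/
def k3_gl : List ℕ := [1, 7175, 14345, 21515, 28684, 35853]

theorem k3_h1 : allB k3_C.factChk 187 = true := by decide +kernel

theorem k3_h2 : k3_C.finChk 187 28 k3_lv k3_tb k3_gl = true := by decide +kernel

theorem k3_h3 : TC.relChk k3_C.ivc k3_rs k3_C.rel k3_rc k3_C.nrel = true := by decide +kernel

theorem k3_bound {G : Type*} [Group G] {c y z s u w p x : G}
    (r0 : u * u * u = 1)
    (r1 : s * s * s * s = 1)
    (r2 : s * s * u * s⁻¹ * s⁻¹ * u⁻¹ = 1)
    (r3 : c * c * c = 1)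
    (r4 : c * u * c⁻¹ * u⁻¹ = 1)
    (r5 : s * s * c * s⁻¹ * s⁻¹ * c = 1)
    (r6 : s * c * s⁻¹ * y⁻¹ = 1)
    (r7 : c * y * c⁻¹ * y⁻¹ * z⁻¹ = 1)
    (r8 : z * c * z⁻¹ * c⁻¹ = 1)
    (r9 : z * u * z⁻¹ * u⁻¹ = 1)
    (r10 : s * u * s * u * s * u = 1)
    (r11 : z * s * z⁻¹ * s⁻¹ = 1)
    (r12 : y * u * y⁻¹ * u⁻¹ * c⁻¹ * z⁻¹ = 1)
    (r13 : z * z * z = 1)
    (r14 : y * y * y = 1)
    (r15 : z * y * z⁻¹ * y⁻¹ = 1)
    (r16 : w * w = 1)
    (r17 : w * s * s * w * s⁻¹ * s⁻¹ = 1)
    (r18 : w * z * w * u⁻¹ = 1)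
    (r19 : w * c * w * c = 1)
    (r20 : w * y * w * y * w * y = 1)
    (r21 : s * w * s * w * s⁻¹ * w * s⁻¹ * w = 1)
    (r22 : p * p = 1)
    (r23 : p * z * p * z = 1)
    (r24 : p * c * p * c = 1)
    (r25 : p * u * p * u = 1)
    (r26 : p * y * p * y⁻¹ = 1)
    (r27 : p * s * p * s = 1)
    (r28 : p * w * p * w = 1)
    (r29 : x * x = 1)
    (r30 : x * s * x * s⁻¹ = 1)
    (r31 : x * w * x * w = 1)
    (r32 : x * p * x * p = 1)
    (r33 : x * z * u * x * u⁻¹ * z⁻¹ = 1)
    (r34 : x * u * x * u⁻¹ * u⁻¹ * x * u * s⁻¹ * s⁻¹ = 1)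
    (r35 : x * y * w * p * y⁻¹ * x * y * p * w * y⁻¹ = 1)
    (r36 : x * y * w * p * y⁻¹ * z * c⁻¹ * u⁻¹ * x * y * w * p * y⁻¹ * z * c⁻¹ * u⁻¹ * x * y * w *
    p * y⁻¹ * z * c⁻¹ * u⁻¹ = 1)
    (H : Subgroup G) [Finite H] (m1 : c ∈ H) (m3 : y ∈ H) (m5 : z ∈ H) (m7 : s ∈ H) (m9 : u ∈ H) (m11 : w ∈ H) (m12 : p ∈ H) :
    Finite (Subgroup.closure ({c, s, u, w, p, x} : Set G)) ∧
      Nat.card (Subgroup.closure ({c, s, u, w, p, x} : Set G)) ≤ 28 * Nat.card H := by
  have hL : TC.Lett (TC.lett [c, c⁻¹, y, y⁻¹, z, z⁻¹, s, s⁻¹, u, u⁻¹, w, p, x]) k3_C.ivc :=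
    TC.lett_ok (show Nat.shiftRight k3_C.ivc (8 * 14) = 0 by decide +kernel) (by
      intro a ha
      change a < 14 at ha
      interval_cases a
      · exact inv_one.symm
      · rfl
      · exact (inv_inv _).symm
      · rfl
      · exact (inv_inv _).symm
      · rfl
      · exact (inv_inv _).symm
      · rfl
      · exact (inv_inv _).symm
      · rfl
      · exact (inv_inv _).symm
      · exact (inv_eq_of_mul_eq_one_right r16).symm
      · exact (inv_eq_of_mul_eq_one_right r22).symm
      · exact (inv_eq_of_mul_eq_one_right r29).symm)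
  have h := TC.card_le k3_h1 k3_h2 k3_h3 (by decide) hL (by
    simp only [k3_rs, List.forall_mem_cons]
    refine ⟨?_, ?_, ?_, ?_, ?_, ?_, ?_, ?_, ?_, ?_, ?_, ?_, ?_, ?_, ?_, ?_, ?_, ?_, ?_, ?_, ?_, ?_,
    ?_, ?_, ?_, ?_, ?_, ?_, ?_, ?_, ?_, ?_, ?_, ?_, ?_, ?_, ?_, List.forall_mem_nil _⟩
    · show u * (u * (u * 1)) = 1
      simp only [mul_assoc, mul_one] at r0 ⊢
      exact r0
    · show s * (s * (s * (s * 1))) = 1
      simp only [mul_assoc, mul_one] at r1 ⊢
      exact r1
    · show s * (s * (u * (s⁻¹ * (s⁻¹ * (u⁻¹ * 1))))) = 1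
      simp only [mul_assoc, mul_one] at r2 ⊢
      exact r2
    · show c * (c * (c * 1)) = 1
      simp only [mul_assoc, mul_one] at r3 ⊢
      exact r3
    · show c * (u * (c⁻¹ * (u⁻¹ * 1))) = 1
      simp only [mul_assoc, mul_one] at r4 ⊢
      exact r4
    · show s * (s * (c * (s⁻¹ * (s⁻¹ * (c * 1))))) = 1
      simp only [mul_assoc, mul_one] at r5 ⊢
      exact r5
    · show s * (c * (s⁻¹ * (y⁻¹ * 1))) = 1
      simp only [mul_assoc, mul_one] at r6 ⊢
      exact r6
    · show c * (y * (c⁻¹ * (y⁻¹ * (z⁻¹ * 1)))) = 1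
      simp only [mul_assoc, mul_one] at r7 ⊢
      exact r7
    · show z * (c * (z⁻¹ * (c⁻¹ * 1))) = 1
      simp only [mul_assoc, mul_one] at r8 ⊢
      exact r8
    · show z * (u * (z⁻¹ * (u⁻¹ * 1))) = 1
      simp only [mul_assoc, mul_one] at r9 ⊢
      exact r9
    · show s * (u * (s * (u * (s * (u * 1))))) = 1
      simp only [mul_assoc, mul_one] at r10 ⊢
      exact r10
    · show z * (s * (z⁻¹ * (s⁻¹ * 1))) = 1
      simp only [mul_assoc, mul_one] at r11 ⊢
      exact r11
    · show y * (u * (y⁻¹ * (u⁻¹ * (c⁻¹ * (z⁻¹ * 1))))) = 1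
      simp only [mul_assoc, mul_one] at r12 ⊢
      exact r12
    · show z * (z * (z * 1)) = 1
      simp only [mul_assoc, mul_one] at r13 ⊢
      exact r13
    · show y * (y * (y * 1)) = 1
      simp only [mul_assoc, mul_one] at r14 ⊢
      exact r14
    · show z * (y * (z⁻¹ * (y⁻¹ * 1))) = 1
      simp only [mul_assoc, mul_one] at r15 ⊢
      exact r15
    · show w * (w * 1) = 1
      simp only [mul_one] at r16 ⊢
      exact r16
    · show w * (s * (s * (w * (s⁻¹ * (s⁻¹ * 1))))) = 1
      simp only [mul_assoc, mul_one] at r17 ⊢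
      exact r17
    · show w * (z * (w * (u⁻¹ * 1))) = 1
      simp only [mul_assoc, mul_one] at r18 ⊢
      exact r18
    · show w * (c * (w * (c * 1))) = 1
      simp only [mul_assoc, mul_one] at r19 ⊢
      exact r19
    · show w * (y * (w * (y * (w * (y * 1))))) = 1
      simp only [mul_assoc, mul_one] at r20 ⊢
      exact r20
    · show s * (w * (s * (w * (s⁻¹ * (w * (s⁻¹ * (w * 1))))))) = 1
      simp only [mul_assoc, mul_one] at r21 ⊢
      exact r21
    · show p * (p * 1) = 1
      simp only [mul_one] at r22 ⊢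
      exact r22
    · show p * (z * (p * (z * 1))) = 1
      simp only [mul_assoc, mul_one] at r23 ⊢
      exact r23
    · show p * (c * (p * (c * 1))) = 1
      simp only [mul_assoc, mul_one] at r24 ⊢
      exact r24
    · show p * (u * (p * (u * 1))) = 1
      simp only [mul_assoc, mul_one] at r25 ⊢
      exact r25
    · show p * (y * (p * (y⁻¹ * 1))) = 1
      simp only [mul_assoc, mul_one] at r26 ⊢
      exact r26
    · show p * (s * (p * (s * 1))) = 1
      simp only [mul_assoc, mul_one] at r27 ⊢
      exact r27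
    · show p * (w * (p * (w * 1))) = 1
      simp only [mul_assoc, mul_one] at r28 ⊢
      exact r28
    · show x * (x * 1) = 1
      simp only [mul_one] at r29 ⊢
      exact r29
    · show x * (s * (x * (s⁻¹ * 1))) = 1
      simp only [mul_assoc, mul_one] at r30 ⊢
      exact r30
    · show x * (w * (x * (w * 1))) = 1
      simp only [mul_assoc, mul_one] at r31 ⊢
      exact r31
    · show x * (p * (x * (p * 1))) = 1
      simp only [mul_assoc, mul_one] at r32 ⊢
      exact r32
    · show x * (z * (u * (x * (u⁻¹ * (z⁻¹ * 1))))) = 1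
      simp only [mul_assoc, mul_one] at r33 ⊢
      exact r33
    · show x * (u * (x * (u⁻¹ * (u⁻¹ * (x * (u * (s⁻¹ * (s⁻¹ * 1)))))))) = 1
      simp only [mul_assoc, mul_one] at r34 ⊢
      exact r34
    · show x * (y * (w * (p * (y⁻¹ * (x * (y * (p * (w * (y⁻¹ * 1))))))))) = 1
      simp only [mul_assoc, mul_one] at r35 ⊢
      exact r35
    · show x * (y * (w * (p * (y⁻¹ * (z * (c⁻¹ * (u⁻¹ * (x * (y * (w * (p * (y⁻¹ * (z * (c⁻¹ * (u⁻¹
    * (x * (y * (w * (p * (y⁻¹ * (z * (c⁻¹ * (u⁻¹ * 1))))))))))))))))))))))) = 1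
      simp only [mul_assoc, mul_one] at r36 ⊢
      exact r36) H
    (TC.forall_subs (K := 14) (by decide +kernel) (by
      intro a ha hb
      interval_cases a
      · exact absurd hb (by decide +kernel)
      · exact m1
      · exact H.inv_mem m1
      · exact m3
      · exact H.inv_mem m3
      · exact m5
      · exact H.inv_mem m5
      · exact m7
      · exact H.inv_mem m7
      · exact m9
      · exact H.inv_mem m9
      · exact m11
      · exact m12
      · exact absurd hb (by decide +kernel)))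
  have e : {g₀ | ∃ ak ∈ k3_gl, TC.lett [c, c⁻¹, y, y⁻¹, z, z⁻¹, s, s⁻¹, u, u⁻¹, w, p, x] (ak % 256) = g₀} =
      {c, s, u, w, p, x} := by
    ext g₀
    simp only [k3_gl, List.mem_cons, List.not_mem_nil, or_false, exists_eq_or_imp,
      exists_eq_left, Set.mem_ofPred_eq, Set.mem_insert_iff, Set.mem_singleton_iff]
    exact or_congr eq_comm (or_congr eq_comm (or_congr eq_comm (or_congr eq_comm (or_congr eq_comm (eq_comm)))))
  rw [e] at h
  exact h

theorem k3_card {G : Type*} [Group G] {c y z s u w p x : G}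
    (e0 : u ^ 3 = 1)
    (e1 : s ^ 4 = 1)
    (e2 : s ^ 2 * u = u * s ^ 2)
    (e3 : c ^ 3 = 1)
    (e4 : c * u = u * c)
    (e5 : s ^ 2 * c = c⁻¹ * s ^ 2)
    (e6 : s * c * s⁻¹ = y)
    (e7 : c * y = z * y * c)
    (e8 : z * c = c * z)
    (e9 : z * u = u * z)
    (e10 : (s * u) ^ 3 = 1)
    (e11 : z * s = s * z)
    (e12 : y * u = z * c * u * y)
    (e13 : z ^ 3 = 1)
    (e14 : y ^ 3 = 1)
    (e15 : z * y = y * z)
    (e16 : w * w = 1)
    (e17 : w * s ^ 2 = s ^ 2 * w)
    (e18 : w * z = u * w)
    (e19 : w * c = c⁻¹ * w)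
    (e20 : (w * y) ^ 3 = 1)
    (e21 : s * (w * s * w) = w * s * w * s)
    (e22 : p * p = 1)
    (e23 : p * z = z⁻¹ * p)
    (e24 : p * c = c⁻¹ * p)
    (e25 : p * u = u⁻¹ * p)
    (e26 : p * y = y * p)
    (e27 : p * s = s⁻¹ * p)
    (e28 : p * w = w * p)
    (e29 : x * x = 1)
    (e30 : x * s = s * x)
    (e31 : x * w = w * x)
    (e32 : x * p = p * x)
    (e33 : x * (z * u) = z * u * x)
    (e34 : x * (u * x * u⁻¹) * (u⁻¹ * x * u) = s ^ 2)
    (e35 : x * (y * w * p * y⁻¹) = y * w * p * y⁻¹ * x)
    (e36 : (x * (y * w * p * y⁻¹ * (z * c⁻¹ * u⁻¹))) ^ 3 = 1)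
    (H : Subgroup G) [Finite H] (mc : c ∈ H) (my : y ∈ H) (mz : z ∈ H) (ms : s ∈ H) (mu : u ∈ H) (mw : w ∈ H) (mp : p ∈ H) :
    Finite (Subgroup.closure ({c, s, u, w, p, x} : Set G)) ∧
      Nat.card (Subgroup.closure ({c, s, u, w, p, x} : Set G)) ≤ 28 * Nat.card H := by
  have iw : w⁻¹ = w := inv_eq_of_mul_eq_one_right e16
  have ip : p⁻¹ = p := inv_eq_of_mul_eq_one_right e22
  have ix : x⁻¹ = x := inv_eq_of_mul_eq_one_right e29
  refine k3_bound ?_ ?_ ?_ ?_ ?_ ?_ ?_ ?_ ?_ ?_ ?_ ?_ ?_ ?_ ?_ ?_ ?_ ?_ ?_ ?_ ?_ ?_ ?_ ?_ ?_ ?_ ?_ ?_ ?_ ?_ ?_ ?_ ?_ ?_ ?_ ?_ ?_ H mc my mz ms mu mw mp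
  · have h := mul_inv_eq_one.mpr e0
    simp only [pow_succ, pow_zero, mul_inv_rev, inv_inv, inv_one, one_mul, mul_one, mul_assoc,
      mul_inv_cancel_left, inv_mul_cancel_left, mul_inv_cancel, inv_mul_cancel, iw, ip, ix] at h ⊢
    exact h
  · have h := mul_inv_eq_one.mpr e1
    simp only [pow_succ, pow_zero, mul_inv_rev, inv_inv, inv_one, one_mul, mul_one, mul_assoc,
      mul_inv_cancel_left, inv_mul_cancel_left, mul_inv_cancel, inv_mul_cancel, iw, ip, ix] at h ⊢
    exact h
  · have h := mul_inv_eq_one.mpr e2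
    simp only [pow_succ, pow_zero, mul_inv_rev, inv_inv, inv_one, one_mul, mul_one, mul_assoc,
      mul_inv_cancel_left, inv_mul_cancel_left, mul_inv_cancel, inv_mul_cancel, iw, ip, ix] at h ⊢
    exact h
  · have h := mul_inv_eq_one.mpr e3
    simp only [pow_succ, pow_zero, mul_inv_rev, inv_inv, inv_one, one_mul, mul_one, mul_assoc,
      mul_inv_cancel_left, inv_mul_cancel_left, mul_inv_cancel, inv_mul_cancel, iw, ip, ix] at h ⊢
    exact h
  · have h := mul_inv_eq_one.mpr e4
    simp only [pow_succ, pow_zero, mul_inv_rev, inv_inv, inv_one, one_mul, mul_one, mul_assoc,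
      mul_inv_cancel_left, inv_mul_cancel_left, mul_inv_cancel, inv_mul_cancel, iw, ip, ix] at h ⊢
    exact h
  · have h := mul_inv_eq_one.mpr e5
    simp only [pow_succ, pow_zero, mul_inv_rev, inv_inv, inv_one, one_mul, mul_one, mul_assoc,
      mul_inv_cancel_left, inv_mul_cancel_left, mul_inv_cancel, inv_mul_cancel, iw, ip, ix] at h ⊢
    exact h
  · have h := mul_inv_eq_one.mpr e6
    simp only [pow_succ, pow_zero, mul_inv_rev, inv_inv, inv_one, one_mul, mul_one, mul_assoc,
      mul_inv_cancel_left, inv_mul_cancel_left, mul_inv_cancel, inv_mul_cancel, iw, ip, ix] at h ⊢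
    exact h
  · have h := mul_inv_eq_one.mpr e7
    simp only [pow_succ, pow_zero, mul_inv_rev, inv_inv, inv_one, one_mul, mul_one, mul_assoc,
      mul_inv_cancel_left, inv_mul_cancel_left, mul_inv_cancel, inv_mul_cancel, iw, ip, ix] at h ⊢
    exact h
  · have h := mul_inv_eq_one.mpr e8
    simp only [pow_succ, pow_zero, mul_inv_rev, inv_inv, inv_one, one_mul, mul_one, mul_assoc,
      mul_inv_cancel_left, inv_mul_cancel_left, mul_inv_cancel, inv_mul_cancel, iw, ip, ix] at h ⊢
    exact h
  · have h := mul_inv_eq_one.mpr e9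
    simp only [pow_succ, pow_zero, mul_inv_rev, inv_inv, inv_one, one_mul, mul_one, mul_assoc,
      mul_inv_cancel_left, inv_mul_cancel_left, mul_inv_cancel, inv_mul_cancel, iw, ip, ix] at h ⊢
    exact h
  · have h := mul_inv_eq_one.mpr e10
    simp only [pow_succ, pow_zero, mul_inv_rev, inv_inv, inv_one, one_mul, mul_one, mul_assoc,
      mul_inv_cancel_left, inv_mul_cancel_left, mul_inv_cancel, inv_mul_cancel, iw, ip, ix] at h ⊢
    exact h
  · have h := mul_inv_eq_one.mpr e11
    simp only [pow_succ, pow_zero, mul_inv_rev, inv_inv, inv_one, one_mul, mul_one, mul_assoc,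
      mul_inv_cancel_left, inv_mul_cancel_left, mul_inv_cancel, inv_mul_cancel, iw, ip, ix] at h ⊢
    exact h
  · have h := mul_inv_eq_one.mpr e12
    simp only [pow_succ, pow_zero, mul_inv_rev, inv_inv, inv_one, one_mul, mul_one, mul_assoc,
      mul_inv_cancel_left, inv_mul_cancel_left, mul_inv_cancel, inv_mul_cancel, iw, ip, ix] at h ⊢
    exact h
  · have h := mul_inv_eq_one.mpr e13
    simp only [pow_succ, pow_zero, mul_inv_rev, inv_inv, inv_one, one_mul, mul_one, mul_assoc,
      mul_inv_cancel_left, inv_mul_cancel_left, mul_inv_cancel, inv_mul_cancel, iw, ip, ix] at h ⊢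
    exact h
  · have h := mul_inv_eq_one.mpr e14
    simp only [pow_succ, pow_zero, mul_inv_rev, inv_inv, inv_one, one_mul, mul_one, mul_assoc,
      mul_inv_cancel_left, inv_mul_cancel_left, mul_inv_cancel, inv_mul_cancel, iw, ip, ix] at h ⊢
    exact h
  · have h := mul_inv_eq_one.mpr e15
    simp only [pow_succ, pow_zero, mul_inv_rev, inv_inv, inv_one, one_mul, mul_one, mul_assoc,
      mul_inv_cancel_left, inv_mul_cancel_left, mul_inv_cancel, inv_mul_cancel, iw, ip, ix] at h ⊢
    exact h
  · have h := mul_inv_eq_one.mpr e16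
    simp only [pow_succ, pow_zero, mul_inv_rev, inv_inv, inv_one, one_mul, mul_one, mul_assoc,
      mul_inv_cancel_left, inv_mul_cancel_left, mul_inv_cancel, inv_mul_cancel, iw, ip, ix] at h ⊢
    exact h
  · have h := mul_inv_eq_one.mpr e17
    simp only [pow_succ, pow_zero, mul_inv_rev, inv_inv, inv_one, one_mul, mul_one, mul_assoc,
      mul_inv_cancel_left, inv_mul_cancel_left, mul_inv_cancel, inv_mul_cancel, iw, ip, ix] at h ⊢
    exact h
  · have h := mul_inv_eq_one.mpr e18
    simp only [pow_succ, pow_zero, mul_inv_rev, inv_inv, inv_one, one_mul, mul_one, mul_assoc,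
      mul_inv_cancel_left, inv_mul_cancel_left, mul_inv_cancel, inv_mul_cancel, iw, ip, ix] at h ⊢
    exact h
  · have h := mul_inv_eq_one.mpr e19
    simp only [pow_succ, pow_zero, mul_inv_rev, inv_inv, inv_one, one_mul, mul_one, mul_assoc,
      mul_inv_cancel_left, inv_mul_cancel_left, mul_inv_cancel, inv_mul_cancel, iw, ip, ix] at h ⊢
    exact h
  · have h := mul_inv_eq_one.mpr e20
    simp only [pow_succ, pow_zero, mul_inv_rev, inv_inv, inv_one, one_mul, mul_one, mul_assoc,
      mul_inv_cancel_left, inv_mul_cancel_left, mul_inv_cancel, inv_mul_cancel, iw, ip, ix] at h ⊢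
    exact h
  · have h := mul_inv_eq_one.mpr e21
    simp only [pow_succ, pow_zero, mul_inv_rev, inv_inv, inv_one, one_mul, mul_one, mul_assoc,
      mul_inv_cancel_left, inv_mul_cancel_left, mul_inv_cancel, inv_mul_cancel, iw, ip, ix] at h ⊢
    exact h
  · have h := mul_inv_eq_one.mpr e22
    simp only [pow_succ, pow_zero, mul_inv_rev, inv_inv, inv_one, one_mul, mul_one, mul_assoc,
      mul_inv_cancel_left, inv_mul_cancel_left, mul_inv_cancel, inv_mul_cancel, iw, ip, ix] at h ⊢
    exact h
  · have h := mul_inv_eq_one.mpr e23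
    simp only [pow_succ, pow_zero, mul_inv_rev, inv_inv, inv_one, one_mul, mul_one, mul_assoc,
      mul_inv_cancel_left, inv_mul_cancel_left, mul_inv_cancel, inv_mul_cancel, iw, ip, ix] at h ⊢
    exact h
  · have h := mul_inv_eq_one.mpr e24
    simp only [pow_succ, pow_zero, mul_inv_rev, inv_inv, inv_one, one_mul, mul_one, mul_assoc,
      mul_inv_cancel_left, inv_mul_cancel_left, mul_inv_cancel, inv_mul_cancel, iw, ip, ix] at h ⊢
    exact h
  · have h := mul_inv_eq_one.mpr e25
    simp only [pow_succ, pow_zero, mul_inv_rev, inv_inv, inv_one, one_mul, mul_one, mul_assoc,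
      mul_inv_cancel_left, inv_mul_cancel_left, mul_inv_cancel, inv_mul_cancel, iw, ip, ix] at h ⊢
    exact h
  · have h := mul_inv_eq_one.mpr e26
    simp only [pow_succ, pow_zero, mul_inv_rev, inv_inv, inv_one, one_mul, mul_one, mul_assoc,
      mul_inv_cancel_left, inv_mul_cancel_left, mul_inv_cancel, inv_mul_cancel, iw, ip, ix] at h ⊢
    exact h
  · have h := mul_inv_eq_one.mpr e27
    simp only [pow_succ, pow_zero, mul_inv_rev, inv_inv, inv_one, one_mul, mul_one, mul_assoc,
      mul_inv_cancel_left, inv_mul_cancel_left, mul_inv_cancel, inv_mul_cancel, iw, ip, ix] at h ⊢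
    exact h
  · have h := mul_inv_eq_one.mpr e28
    simp only [pow_succ, pow_zero, mul_inv_rev, inv_inv, inv_one, one_mul, mul_one, mul_assoc,
      mul_inv_cancel_left, inv_mul_cancel_left, mul_inv_cancel, inv_mul_cancel, iw, ip, ix] at h ⊢
    exact h
  · have h := mul_inv_eq_one.mpr e29
    simp only [pow_succ, pow_zero, mul_inv_rev, inv_inv, inv_one, one_mul, mul_one, mul_assoc,
      mul_inv_cancel_left, inv_mul_cancel_left, mul_inv_cancel, inv_mul_cancel, iw, ip, ix] at h ⊢
    exact h
  · have h := mul_inv_eq_one.mpr e30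
    simp only [pow_succ, pow_zero, mul_inv_rev, inv_inv, inv_one, one_mul, mul_one, mul_assoc,
      mul_inv_cancel_left, inv_mul_cancel_left, mul_inv_cancel, inv_mul_cancel, iw, ip, ix] at h ⊢
    exact h
  · have h := mul_inv_eq_one.mpr e31
    simp only [pow_succ, pow_zero, mul_inv_rev, inv_inv, inv_one, one_mul, mul_one, mul_assoc,
      mul_inv_cancel_left, inv_mul_cancel_left, mul_inv_cancel, inv_mul_cancel, iw, ip, ix] at h ⊢
    exact h
  · have h := mul_inv_eq_one.mpr e32
    simp only [pow_succ, pow_zero, mul_inv_rev, inv_inv, inv_one, one_mul, mul_one, mul_assoc,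
      mul_inv_cancel_left, inv_mul_cancel_left, mul_inv_cancel, inv_mul_cancel, iw, ip, ix] at h ⊢
    exact h
  · have h := mul_inv_eq_one.mpr e33
    simp only [pow_succ, pow_zero, mul_inv_rev, inv_inv, inv_one, one_mul, mul_one, mul_assoc,
      mul_inv_cancel_left, inv_mul_cancel_left, mul_inv_cancel, inv_mul_cancel, iw, ip, ix] at h ⊢
    exact h
  · have h := mul_inv_eq_one.mpr e34
    simp only [pow_succ, pow_zero, mul_inv_rev, inv_inv, inv_one, one_mul, mul_one, mul_assoc,
      mul_inv_cancel_left, inv_mul_cancel_left, mul_inv_cancel, inv_mul_cancel, iw, ip, ix] at h ⊢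
    exact h
  · have h := mul_inv_eq_one.mpr e35
    simp only [pow_succ, pow_zero, mul_inv_rev, inv_inv, inv_one, one_mul, mul_one, mul_assoc,
      mul_inv_cancel_left, inv_mul_cancel_left, mul_inv_cancel, inv_mul_cancel, iw, ip, ix] at h ⊢
    exact h
  · have h := mul_inv_eq_one.mpr e36
    simp only [pow_succ, pow_zero, mul_inv_rev, inv_inv, inv_one, one_mul, mul_one, mul_assoc,
      mul_inv_cancel_left, inv_mul_cancel_left, mul_inv_cancel, inv_mul_cancel, iw, ip, ix] at h ⊢
    exact h

end Cfsg.Agent.H7.P3
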