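import Cfsg.Agent.H7.P3E3Fin
import Cfsg.Agent.H7.P3E3TC
import Cfsg.Agent.H4.L43EndA1
import Cfsg.Agent.H6.Transfer

/-!
# The end game for `Sp₆(2)`
-/

set_option autoImplicit false

namespace Cfsg.Agent.H7.P3

open Subgroup Cfsg.Agent.H8.P3 Cfsg.Agent.H8.P3.Mx Cfsg.Agent.H9 Cfsg.Agent.H1.T3
  Cfsg.Agent.L0.L43 Cfsg.Agent.H4.L43

variable {G : Type*} [Group G] {z c y s u w p x : G}

theorem yz_mem (h : R0 z c y s u) {H : Subgroup G} (hc : c ∈ H) (hs : s ∈ H) : y ∈ H ∧ z ∈ H := by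
  have hy : y ∈ H := h.rel.sb ▸ H.mul_mem (H.mul_mem hs hc) (H.inv_mem hs)
  have := h.rel.ab ▸ H.mul_mem hc hy
  exact ⟨hy, (H.mul_mem_cancel_right hy).mp ((H.mul_mem_cancel_right hc).mp this)⟩

theorem card_R1 (h : R1 z c y s u w) : Finite (closure ({c, s, u, w} : Set G)) ∧
    Nat.card (closure ({c, s, u, w} : Set G)) ≤ 25920 := by
  obtain ⟨h1, h2⟩ := h.r0.rel.card_le
  have m := yz_mem h.r0 (H := closure {c, s, u}) (subset_closure (by simp)) (subset_closure (by simp))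
  obtain ⟨⟨r, a1, a2, a3, a4, a5, a6, -⟩, ⟨b1, b2, b3, b4, b5⟩, k⟩ := h
  have := k1_card r.t3 r.s4 r.st r.a3 r.ta r.sa r.sb r.ab r.ca r.ct a1 a2 a3 a4 a5 a6 b1 b2 b3 b4 b5
    k _ (subset_closure (by simp)) m.1 m.2 (subset_closure (by simp)) (subset_closure (by simp))
  exact ⟨this.1, by omega⟩

theorem card_R2 (h : R2 z c y s u w p) : Finite (closure ({c, s, u, w, p} : Set G)) ∧
    Nat.card (closure ({c, s, u, w, p} : Set G)) ≤ 51840 := by
  obtain ⟨h1, h2⟩ := card_R1 h.r1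
  have m := yz_mem h.r1.r0 (H := closure {c, s, u, w}) (subset_closure (by simp))
    (subset_closure (by simp))
  have := k2_card h.rp.pp h.rp.pz h.rp.pc h.rp.pu h.rp.py h.rp.ps h.pw _ (subset_closure (by simp))
    m.1 m.2 (subset_closure (by simp)) (subset_closure (by simp)) (subset_closure (by simp))
  exact ⟨this.1, by omega⟩

theorem card_R3 (h : R3 z c y s u w p x) : Finite (closure ({c, s, u, w, p, x} : Set G)) ∧
    Nat.card (closure ({c, s, u, w, p, x} : Set G)) ≤ 1451520 := by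
  obtain ⟨h1, h2⟩ := card_R2 h.r2
  have m := yz_mem h.r2.r1.r0 (H := closure {c, s, u, w, p}) (subset_closure (by simp))
    (subset_closure (by simp))
  obtain ⟨⟨⟨⟨r, a1, a2, a3, a4, a5, a6, -⟩, ⟨b1, b2, b3, b4, b5⟩, k⟩, ⟨c1, c2, c3, c4, c5, c6⟩, c7⟩,
    d1, d2, d3, d4, d5, d6, d7, d8⟩ := h
  have := k3_card r.t3 r.s4 r.st r.a3 r.ta r.sa r.sb r.ab r.ca r.ct a1 a2 a3 a4 a5 a6 b1 b2 b3 b4 b5
    k c1 c2 c3 c4 c5 c6 c7 d1 d2 d3 d4 d5 d6 d7 d8 _ (subset_closure (by simp)) m.1 m.2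
    (subset_closure (by simp)) (subset_closure (by simp)) (subset_closure (by simp))
    (subset_closure (by simp))
  exact ⟨this.1, by omega⟩

theorem prod_R3 {M : Type*} [Group M] {z' c' y' s' u' w' p' x' : M} (h : R3 z c y s u w p x)
    (h' : R3 z' c' y' s' u' w' p' x') :
    R3 (z, z') (c, c') (y, y') (s, s') (u, u') (w, w') (p, p') (x, x') := by
  obtain ⟨⟨⟨⟨r, a1, a2, a3, a4, a5, a6, a7⟩, ⟨b1, b2, b3, b4, b5⟩, k⟩, ⟨c1, c2, c3, c4, c5, c6⟩,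
    c7⟩, d1, d2, d3, d4, d5, d6, d7, d8⟩ := h
  obtain ⟨⟨⟨⟨r', a1, a2, a3, a4, a5, a6, a7'⟩, ⟨b1, b2, b3, b4, b5⟩, k⟩, ⟨c1, c2, c3, c4, c5, c6⟩,
    c7⟩, d1, d2, d3, d4, d5, d6, d7, d8⟩ := h'
  refine ⟨⟨⟨⟨r.prod r', ?_, ?_, ?_, ?_, ?_, ?_, fun e => a7 (congrArg Prod.fst e)⟩,
    ⟨?_, ?_, ?_, ?_, ?_⟩, ?_⟩, ⟨?_, ?_, ?_, ?_, ?_, ?_⟩, ?_⟩, ?_, ?_, ?_, ?_, ?_, ?_, ?_, ?_⟩ <;>
    exact Prod.ext (by assumption) (by assumption)

theorem exists_emb (h : R3 z c y s u w p x) : ∃ φ : Sp →* G, Function.Injective φ ∧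
    φ.range = closure {c, s, u, w, p, x} ∧ φ (a2 3 24) = s ^ 2 := by
  obtain ⟨h1, h2⟩ := card_R3 (prod_R3 h m_r3)
  set K := closure ({(c, mc), (s, ms), (u, mu), (w, mw), (p, mp), (x, mx)} : Set (G × Mx)) with hK
  have inj : Function.Injective ((MonoidHom.id G).prodMap rho) :=
    Function.injective_id.prodMap rho_inj
  let f : K.comap ((MonoidHom.id G).prodMap rho) → K := fun a => ⟨_, a.2⟩
  have fi : Function.Injective f := fun a b e => Subtype.ext (inj (congrArg Subtype.val e))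
  have := Finite.of_injective f fi
  have sj : ∀ A, ∃ g, (g, rho A) ∈ K := fun A => by
    have h3 : rho A ∈ K.map (MonoidHom.snd G Mx) := cl_le (fun g hg => by
      rw [hK, MonoidHom.map_closure]
      refine subset_closure ?_
      simpa [gM, Set.image_insert_eq] using hg) (rho_mem A)
    obtain ⟨⟨g, m⟩, h4, e⟩ := h3
    exact ⟨g, by rwa [← show m = rho A from e]⟩
  obtain ⟨φ, hφ⟩ := H4.TC.exists_hom_of_card_le (K := K.comap ((MonoidHom.id G).prodMap rho))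
    ((Nat.card_le_card_of_injective f fi).trans (h2.trans card_ge))
    (top_le_iff.mp fun A _ => let ⟨g, hg⟩ := sj A; ⟨(g, A), hg, rfl⟩)
  have h3 : ∀ g m, (g, m) ∈ K → ∀ A, rho A = m → φ A = g := fun g m hm A e =>
    hφ g A (show (g, rho A) ∈ K from e ▸ hm)
  refine ⟨φ, (MonoidHom.ker_eq_bot_iff φ).mp ?_, le_antisymm ?_ ((closure_le _).mpr ?_),
    h3 _ _ (K.pow_mem (subset_closure (by simp) : (s, ms) ∈ K) 2) _ (rho_t.trans m_a.1)⟩
  · by_contra hn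
    have hw : w = 1 := (h3 w mw (subset_closure (by simp)) _ rho_w).symm.trans (w_mem hn)
    have r := h.r2.r1
    have e1 := r.rw.wc
    rw [hw, one_mul, mul_one, eq_inv_iff_mul_eq_one] at e1
    have e2 := r.r0.rel.a3
    rw [pow_succ, sq, e1, one_mul] at e2
    have e3 := r.r0.rel.sb
    have e4 := r.r0.rel.ab
    rw [← e3, e2] at e4
    exact r.r0.z1 (by simpa using e4.symm)
  · rintro _ ⟨A, rfl⟩
    obtain ⟨g, hg⟩ := sj A
    have : g ∈ K.map (MonoidHom.fst G Mx) := ⟨_, hg, rfl⟩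
    rw [hK, MonoidHom.map_closure] at this
    simpa [h3 g _ hg A rfl, Set.image_insert_eq] using this
  · have h4 : ∀ g m, (g, m) ∈ ({(c, mc), (s, ms), (u, mu), (w, mw), (p, mp), (x, mx)} :
        Set (G × Mx)) → m ∈ gM → g ∈ φ.range := fun g m e hm =>
      let ⟨A, hA⟩ := gM_range m (List.mem_cons_of_mem _ hm); ⟨A, h3 g m (subset_closure e) A hA⟩
    rintro _ (rfl | rfl | rfl | rfl | rfl | rfl)
    exacts [h4 _ mc (by simp) (by simp [gM]), h4 _ ms (by simp) (by simp [gM]),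
      h4 _ mu (by simp) (by simp [gM]), h4 _ mw (by simp) (by simp [gM]),
      h4 _ mp (by simp) (by simp [gM]), h4 _ mx (by simp) (by simp [gM])]

variable [Finite G]

theorem dvd_relIndex {L : Subgroup G} {a t : G} (ha : a ∈ L) {k : ℕ} (h3 : a ^ 3 ^ k = 1)
    (h : ∀ l ∈ L, a * (l * t * l⁻¹) ≠ l * t * l⁻¹ * a) : 3 ∣ (centralizer {t}).relIndex L := by
  by_contra hn
  obtain ⟨P, hP⟩ := H9.exists_isSylowIn 3 (centralizer {t} ⊓ L)
  obtain ⟨l, hl, e⟩ := conj_into (P := P) ⟨hP.le.trans inf_le_right, hP.isPGroup, by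
    rw [← relIndex_mul_relIndex P _ L hP.le inf_le_right, inf_relIndex_right]
    exact Nat.prime_three.not_dvd_mul hP.not_dvd hn⟩ ha h3
  refine h l⁻¹ (L.inv_mem hl) ?_
  calc _ = l⁻¹ * (l * a * l⁻¹ * t) * l := by group
    _ = _ := by rw [mem_cent.mp (hP.le e).1]; group

theorem ctl_of_cent {H : Subgroup G}
    (h3 : ∀ x ∈ H, x ≠ 1 → x ^ 3 = 1 → ∀ g, g * x * g⁻¹ ∈ H → g ∈ H)
    (hi : ∀ v ∈ H, v * v = 1 → ∃ x ∈ H, x ≠ 1 ∧ x ^ 3 = 1 ∧ x * v = v * x) {v : G} (hv : v ∈ H)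
    (h2 : v * v = 1) (hc : centralizer {v} ≤ H) (g : G) (hg : g * v * g⁻¹ ∈ H) : g ∈ H := by
  obtain ⟨a, ha, a1, a3, ac⟩ := hi v hv h2
  obtain ⟨b, hb, b1, b3, bc⟩ := hi _ hg (by rw [conj_mul, h2]; simp)
  obtain ⟨l, hl, e⟩ := fr2 (L := centralizer {g * v * g⁻¹}) (g := g) ⟨hb, b3, h3 b hb b1 b3⟩
    ⟨ha, a3, h3 a ha a1 a3⟩ (mem_cent.mpr bc) (mem_cent.mpr (by rw [conj_mul, conj_mul, ac]))
  have : g⁻¹ * l * g ∈ H := hc (mem_cent.mpr (by
    calc _ = g⁻¹ * (l * (g * v * g⁻¹)) * g := by group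
      _ = _ := by rw [mem_cent.mp hl]; group))
  simpa [mul_assoc] using H.mul_mem e (H.inv_mem this)

theorem range_eq_top {φ : Sp →* G} (inj : Function.Injective φ) (hs : Str φ.range (φ (a2 3 24))) :
    φ.range = ⊤ := by
  obtain ⟨f1, f2, f3, f4, f5, f6, -⟩ := facts
  have sq : ∀ {v : Sp}, v * v = 1 → φ v * φ v = 1 := fun e => by rw [← map_mul, e, map_one]
  have ctl := fun v => ctl_of_cent hs.three (v := φ v) (by
    rintro _ ⟨v, rfl⟩ e
    obtain ⟨x, x1, x3, xc⟩ := exists_three (h := v) (inj (by rw [map_mul, e, map_one]))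
    exact ⟨_, ⟨x, rfl⟩, fun e => x1 (inj (e.trans (map_one _).symm)), by
      rw [← map_pow, x3, map_one], by rw [← map_mul, xc, map_mul]⟩) ⟨v, rfl⟩
  have cj : ∀ {a b B : Sp}, B * a * B⁻¹ = b → (∀ g, g * φ b * g⁻¹ ∈ φ.range → g ∈ φ.range) →
      ∀ g, g * φ a * g⁻¹ ∈ φ.range → g ∈ φ.range := fun {a b B} e h g hg => by
    have := h (g * (φ B)⁻¹) (by simpa [← e, mul_assoc] using hg)
    simpa using mul_mem this (⟨B, rfl⟩ : φ B ∈ φ.range)
  have ct := ctl _ (sq f1) fun g hg => hs.two g (mem_cent.mp hg)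
  have hc : ∀ k ∈ φ.range, orderOf k = 3 → ∀ g, g * k * g⁻¹ ∈ φ.range → g ∈ φ.range :=
    fun k hk e => hs.three k hk (fun e' => by simp [e'] at e) (e ▸ pow_orderOf_eq_one k)
  have pc : ∀ {t A : Sp} {c : G}, c ≠ 1 → φ A * φ t * (φ A)⁻¹ = φ t * c → c * φ t = φ t * c →
      ∃ d, φ d = c ∧ d ≠ 1 ∧ A * t * A⁻¹ = t * d ∧ d * t = t * d := fun {t A c} c1 e e' => by
    have h1 : φ (t⁻¹ * (A * t * A⁻¹)) = c := by simp [e]
    exact ⟨_, h1, fun e => c1 (by rw [← h1, e, map_one]), by simp, inj (by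
      rw [map_mul, map_mul φ t, h1, e'])⟩
  have cw := ctl _ (sq f2) (le_of_pc (t := φ (a2 3 4)) (mem_cent.mpr (by
      rw [← map_mul, f3, map_mul])) ⟨_, rfl⟩ (sq (by
        have := f1; rwa [← f4, conj_mul, conj_eq_one_iff] at this)) (cj f4 ct) (by
      rintro _ hl ⟨A, rfl⟩ c c1 e e' g hg hg'
      obtain ⟨d, rfl, d1, e, e'⟩ := pc c1 e e'
      obtain ⟨B, h | h⟩ := pcA (inj (by simpa using mem_cent.mp hl)) d1 e e'
      · exact cj h ct g hg'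
      · refine cj h ct g ?_
        rw [map_mul, ← conj_mul, conj_eq_iff.mpr (mem_cent.mp hg)]
        exact mul_mem hg' ⟨_, rfl⟩) Nat.prime_three (dvd_relIndex (a := φ (tw 4 * tw 32)) (k := 1)
      ⟨mem_cent.mpr (by rw [← map_mul, f6, map_mul]), _, rfl⟩ (by rw [← map_pow, f5, map_one]) (by
      rintro _ ⟨hl, A, rfl⟩ e
      exact three (A := A) (inj (by simpa using mem_cent.mp hl)) (inj (by simpa using e)))) hc)
  obtain ⟨a, a9, ha⟩ := nine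
  refine top_le_iff.mp (le_of_pc (t := φ (a2 3 24)) (mem_top _) ⟨_, rfl⟩ (sq f1) ct ?_
    Nat.prime_three (dvd_relIndex (a := φ a) (k := 2) ⟨mem_top _, _, rfl⟩
      (by rw [← map_pow, a9, map_one]) ?_) hc)
  · rintro _ - ⟨A, rfl⟩ c c1 e e' g - hg'
    obtain ⟨d, rfl, d1, e, e'⟩ := pc c1 e e'
    obtain ⟨B, h | h⟩ := pcB d1 e e'
    exacts [cj h ct g hg', cj h cw g hg']
  · rintro _ ⟨-, A, rfl⟩ e
    exact ha A (inj (by simpa using e))

/-- The end game for `Sp₆(2)`. -/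
theorem end3 (h : R3 z c y s u w p x) (hs : Str (closure {c, s, u, w, p, x}) (s ^ 2))
    (F2 : Type*) [Field F2] [Fintype F2] (hF : Fintype.card F2 = 2) :
    Nonempty (G ≃* Matrix.symplecticGroup (Fin 3) F2) := by
  obtain ⟨φ, inj, e1, e2⟩ := exists_emb h
  rw [← e1, ← e2] at hs
  exact ⟨(MulEquiv.ofBijective φ ⟨inj, MonoidHom.range_eq_top.mp (range_eq_top inj hs)⟩).symm.trans
    (H6.spCongr (FiniteField.ringEquivOfCardEq (by rw [ZMod.card, hF])))⟩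

end Cfsg.Agent.H7.P3
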