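import Cfsg.Agent.H7.P3E3Rho

/-!
# `Sp₆(2)` inside the coded group `GL₆(2)`: finite checks
-/

set_option autoImplicit false
set_option maxRecDepth 100000

namespace Cfsg.Agent.H7.P3

open Matrix Cfsg.Agent.H1 Sum Cfsg.Agent.H4 Cfsg.Agent.H8.P3 Cfsg.Agent.H8.P3.Mx
  Cfsg.Agent.H8.P3.Mc6

attribute [local irreducible] enc Mc6.mul

theorem w_mem {N : Subgroup Sp} [hN : N.Normal] (h : N ≠ ⊥) : wS ∈ N := by
  have e : ee 0 = vec 1 ∧ ee 1 = vec 2 ∧ ff 0 = vec 8 := by decide +kernel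
  rcases normal_cases h with h | h
  · rwa [e.1, e.2.1] at h
  rw [e.1, e.2.2] at h
  rw [show wS = tw 17 * (tw 1 * tw 8) * (tw 17)⁻¹ *
      (tw 17 * tw 26 * (tw 1 * tw 8) * (tw 17 * tw 26)⁻¹) from rho_inj (by
    simp (disch := decide) only [map_mul, map_inv, rho_tw, rho_w]; decide +kernel)]
  exact N.mul_mem (hN.conj_mem _ h _) (hN.conj_mem _ h _)

theorem exists_three {h : Sp} (h2 : h * h = 1) : ∃ x : Sp, x ≠ 1 ∧ x ^ 3 = 1 ∧ x * h = h * x := by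
  obtain ⟨A, X, hX, e⟩ := inv_form h2
  obtain ⟨x, hx, e1⟩ := anyL_iff.mp ((show ∀ a b c d e f : ZMod 2, force (enc (rx (fromBlocks 1
      !![a, d, e; d, b, f; e, f, c] 0 1))) (fun k => anyL (fun x : Mx => Nat.beq (Mc6.mul x.c k)
      (Mc6.mul k x.c)) L3) = true by decide +kernel) (X 0 0) (X 1 1) (X 2 2) (X 0 1) (X 0 2) (X 1 2)
      |> (force_eq _ _).symm.trans)
  have hs : ∀ i j, X i j = X j i := fun i j => congrFun (congrFun hX j) i
  rw [hs 0 1, show !![X 0 0, X 1 0, X 0 2; X 1 0, X 1 1, X 1 2; X 0 2, X 1 2, X 2 2] = X by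
    nth_rewrite 1 [hs 1 0]
    nth_rewrite 2 [hs 0 2, hs 1 2]
    exact (eta_fin_three X).symm, ← e] at e1
  obtain ⟨y, rfl⟩ := mem_words (W := W3) (by decide +kernel) hx
  have e2 : y * (A⁻¹ * h * A) = A⁻¹ * h * A * y :=
    rho_inj (by rw [map_mul, map_mul _ _ y]; exact ext' (Nat.eq_of_beq_eq_true e1))
  have e3 := (show ∀ x ∈ L3, x ≠ 1 ∧ x ^ 3 = 1 by decide +kernel) _ hx
  refine ⟨A * y * A⁻¹, fun e => e3.1 (by rw [conj_eq_one_iff.mp e, map_one]), by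
    rw [conj_pow, rho_inj (show rho (y ^ 3) = rho 1 by rw [map_pow, e3.2, map_one])]; simp, ?_⟩
  calc _ = A * (y * (A⁻¹ * h * A)) * A⁻¹ := by group
    _ = _ := by rw [e2]; group

theorem cls_t (A : Sp) : ∃ i < 64, ∃ j < 64, T i * T j = T j * T i ∧
    rho (A * a2 3 24 * A⁻¹) = T i * T j * T (i ^^^ j) := by
  obtain ⟨i, hi, e1⟩ := exists_vec (spAct A (vec 3))
  obtain ⟨j, hj, e2⟩ := exists_vec (spAct A (vec 24))
  refine ⟨i, hi, j, hj, ?_, by rw [a2_cj e1 e2, rho_a2 hi hj]⟩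
  rw [← rho_tw hi, ← rho_tw hj, ← map_mul, ← map_mul, ← tw_cj e1, ← tw_cj e2, conj_mul, conj_mul,
    rho_inj (show rho (tw 3 * tw 24) = rho (tw 24 * tw 3) by
      simp (disch := decide) only [map_mul, rho_tw]; decide +kernel)]

theorem chkB : allB (fun i => allB (fun j => decide (∀ a ∈ [T i], ∀ b ∈ [T j], a * b = b * a →
    ∀ t ∈ [a * b * T (i ^^^ j)], (∀ q ∈ [ev TL [9, 14, 62, 10, 15, 47]], q * t = t * q → t = 1) ∧
    ∀ c ∈ [mT⁻¹ * t], c * mT = mT * c → c = 1 ∨ ∃ g ∈ GB, g * c = mT * g ∨ g * c = mw * g)) 64)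
    64 = true := by decide +kernel

theorem pcB {A c : Sp} (c1 : c ≠ 1) (e : A * a2 3 24 * A⁻¹ = a2 3 24 * c)
    (h : c * a2 3 24 = a2 3 24 * c) : ∃ B : Sp, B * c * B⁻¹ = a2 3 24 ∨ B * c * B⁻¹ = wS := by
  obtain ⟨i, hi, j, hj, e1, e2⟩ := cls_t A
  have h1 := of_decide_eq_true (allB_iff.mp (allB_iff.mp chkB i hi) j hj)
  simp only [List.forall_mem_singleton] at h1
  rw [← e2, e, map_mul, rho_t, inv_mul_cancel_left] at h1
  obtain ⟨g, hg, h2⟩ := ((h1 e1).2 (by rw [← rho_t, ← map_mul, h, map_mul])).resolve_left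
    fun e => c1 (rho_inj (e.trans (map_one _).symm))
  obtain ⟨B, rfl⟩ := mem_words (W := WB) (by decide +kernel) hg
  simp only [← rho_t, ← rho_w, ← map_mul, rho_inj.eq_iff] at h2
  exact ⟨B, by simpa only [mul_inv_eq_iff_eq_mul] using h2⟩

theorem nine : ∃ a : Sp, a ^ 3 ^ 2 = 1 ∧
    ∀ A : Sp, a * (A * a2 3 24 * A⁻¹) ≠ A * a2 3 24 * A⁻¹ * a := by
  obtain ⟨a, ha⟩ := ev_TL [9, 14, 62, 10, 15, 47]
  refine ⟨a, rho_inj (by rw [map_pow, ha, map_one]; decide +kernel), fun A e => ?_⟩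
  obtain ⟨i, hi, j, hj, e1, e2⟩ := cls_t A
  have h1 := of_decide_eq_true (allB_iff.mp (allB_iff.mp chkB i hi) j hj)
  simp only [List.forall_mem_singleton] at h1
  have := (h1 e1).1 (by rw [← e2, ← ha, ← map_mul, e, map_mul])
  rw [← e2, map_mul, map_mul, map_inv, conj_eq_one_iff, rho_t] at this
  exact m_a.2.2.2.2.2.2.2.2 this

theorem cls_w {A : Sp} (h : A * wS = wS * A) : ∃ k < 64, T k * mw = mw * T k ∧
    rho (A * a2 3 4 * A⁻¹) = T 3 * T k * T (3 ^^^ k) ∧ A * tw 3 * A⁻¹ = tw 3 := by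
  obtain ⟨i, hi, e1⟩ := exists_vec (spAct A (vec 1))
  obtain ⟨j, hj, e2⟩ := exists_vec (spAct A (vec 2))
  obtain ⟨k, hk, e3⟩ := exists_vec (spAct A (vec 4))
  have hw := mul_inv_eq_iff_eq_mul.mpr h
  have e4 : i ^^^ j = 3 := of_decide_eq_true (allB_iff.mp (allB_iff.mp (show allB (fun i => allB
    (fun j => decide (T i * T j = mw → i ^^^ j = 3)) 64) 64 = true by decide +kernel) i hi) j hj)
    (by rw [← rho_tw hi, ← rho_tw hj, ← map_mul, ← tw_cj e1, ← tw_cj e2, conj_mul, ← rho_w, ← hw, wS])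
  have e5 : vec 3 = spAct A (vec 3) := by
    nth_rewrite 1 [← e4]
    rw [vec_xor, e1, e2, ← map_add, ← vec_xor]; rfl
  refine ⟨k, hk, ?_, by rw [a2_cj e5 e3, rho_a2 (by decide) hk], tw_cj e5⟩
  rw [← rho_tw hk, ← rho_w, ← map_mul, ← map_mul, ← tw_cj e3, ← hw, conj_mul, conj_mul,
    rho_inj (show rho (tw 4 * wS) = rho (wS * tw 4) by
      simp (disch := decide) only [map_mul, rho_tw, rho_w]; decide +kernel)]

theorem chkA : allB (fun k => decide (T k * mw = mw * T k → ∀ t ∈ [T 3 * T k * T (3 ^^^ k)],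
    (T 4 * T 32 * t = t * (T 4 * T 32) → t = 1 ∨ t = mw * T 3) ∧
    ∀ s ∈ [T 3 * T 4 * T (3 ^^^ 4)], ∀ c ∈ [s⁻¹ * t], c * s = s * c → c = 1 ∨
      ∃ g ∈ WA.map (ev TL), g * c = mT * g ∨ g * (c * mw) = mT * g)) 64 = true := by
  decide +kernel

theorem pcA {A c : Sp} (hA : A * wS = wS * A) (c1 : c ≠ 1) (e : A * a2 3 4 * A⁻¹ = a2 3 4 * c)
    (h : c * a2 3 4 = a2 3 4 * c) :
    ∃ B : Sp, B * c * B⁻¹ = a2 3 24 ∨ B * (c * wS) * B⁻¹ = a2 3 24 := by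
  obtain ⟨k, hk, e1, e2, -⟩ := cls_w hA
  have h1 := of_decide_eq_true (allB_iff.mp chkA k hk) e1
  simp only [List.forall_mem_singleton] at h1
  rw [← e2, e, map_mul, ← rho_a2 (i := 3) (j := 4) (by decide) (by decide),
    inv_mul_cancel_left] at h1
  obtain ⟨g, hg, h2⟩ := (h1.2 (by rw [← map_mul, h, map_mul])).resolve_left
    fun e => c1 (rho_inj (e.trans (map_one _).symm))
  obtain ⟨w, -, rfl⟩ := List.mem_map.mp hg
  obtain ⟨B, hB⟩ := ev_TL w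
  simp only [← hB, ← rho_t, ← rho_w, ← map_mul, rho_inj.eq_iff] at h2
  exact ⟨B, by simpa only [mul_inv_eq_iff_eq_mul] using h2⟩

theorem facts : a2 3 24 * a2 3 24 = 1 ∧ wS * wS = 1 ∧ a2 3 4 * wS = wS * a2 3 4 ∧
    tw 33 * tw 61 * a2 3 4 * (tw 33 * tw 61)⁻¹ = a2 3 24 ∧ (tw 4 * tw 32) ^ 3 ^ 1 = 1 ∧
    tw 4 * tw 32 * wS = wS * (tw 4 * tw 32) ∧ a2 3 4 ≠ 1 ∧ a2 3 4 ≠ wS * tw 3 := by
  simp (disch := decide) only [Ne, ← rho_inj.eq_iff, map_mul, map_inv, map_pow, map_one, rho_tw,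
    rho_w, rho_a2]
  decide +kernel

theorem three {A : Sp} (hA : A * wS = wS * A) :
    tw 4 * tw 32 * (A * a2 3 4 * A⁻¹) ≠ A * a2 3 4 * A⁻¹ * (tw 4 * tw 32) := fun e => by
  obtain ⟨k, hk, e1, e2, e3⟩ := cls_w hA
  have h1 := of_decide_eq_true (allB_iff.mp chkA k hk) e1
  simp only [List.forall_mem_singleton] at h1
  have := h1.1
  rw [← e2] at this
  simp (disch := decide) only [← rho_tw, ← rho_w, ← map_mul, ← map_one rho, rho_inj.eq_iff] at this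
  rcases this e with h | h
  · exact facts.2.2.2.2.2.2.1 (conj_eq_one_iff.mp h)
  · rw [← e3, ← mul_inv_eq_iff_eq_mul.mpr hA, conj_mul, mul_left_inj, mul_right_inj] at h
    exact facts.2.2.2.2.2.2.2 h

end Cfsg.Agent.H7.P3
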