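import Cfsg.Agent.H8.P3SpDef

/-!
# The exotic configuration in the `Sp₆(2)` case does not occur
-/

set_option autoImplicit false
set_option linter.unusedSectionVars false
set_option synthInstance.maxSize 4000
set_option maxRecDepth 100000

namespace Cfsg.Agent.H7.P3

open Subgroup Cfsg.Agent.H9 Cfsg.Agent.H1.T3 Cfsg.Agent.H8.P3 Cfsg.Agent.H8.P3.Mx Equiv
open Cfsg.Agent.H1.S9 (Emb im mem_im im_mono im_congr)

attribute [local irreducible] mz mc my ms mu mw mp mx Mx.mt me1 me2 me3 mb mr1 mr2 mr3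

theorem exo_abs {Y : Type*} [Group Y] [Finite Y] {D : Subgroup Y} {a b c y τ : Y} (hb : b ∈ D)
    (hc : c ∈ D) (e1 : y * a * y⁻¹ = b) (e2 : y * b * y⁻¹ = c) (e3 : y * c * y⁻¹ = a)
    (a2 : a * a = 1) (t1 : τ * b * τ⁻¹ = c) (t2 : τ * c * τ⁻¹ = b) (a1 : a ≠ 1)
    (hL : ∀ f ∈ D, τ * f * τ⁻¹ = f → f = 1 ∨ f = a) :
    b * c = a ∨ (b * a) ^ 3 = 1 ∧ y * (b * a) * y⁻¹ = b * a := by
  have b2 : b * b = 1 := by rw [← e1, conj_mul, a2]; simp
  have c2 : c * c = 1 := by rw [← e2, conj_mul, b2]; simp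
  have bi := inv_eq_of_mul_eq_one_right b2
  have ci := inv_eq_of_mul_eq_one_right c2
  have k1 : ∀ m : ℕ, τ * (b * c) ^ m * τ⁻¹ = ((b * c) ^ m)⁻¹ := fun m => by
    rw [← conj_pow, ← conj_mul, t1, t2, ← inv_pow, mul_inv_rev, bi, ci]
  have k2 : ∀ m : ℕ, b * (b * c) ^ m * b⁻¹ = ((b * c) ^ m)⁻¹ := fun m => by
    rw [← conj_pow, ← inv_pow, mul_inv_rev, ← mul_assoc, b2, one_mul, ci]
  have hm := fun m : ℕ => D.pow_mem (D.mul_mem hb hc) m
  rcases Nat.even_or_odd (orderOf (b * c)) with h | ⟨j, h⟩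
  · obtain ⟨m, e⟩ := exists_orderOf_eq_of_dvd_orderOf h.two_dvd
    have e4 : ((b * c) ^ m)⁻¹ = (b * c) ^ m :=
      inv_eq_of_mul_eq_one_right (by rw [← sq, ← e, pow_orderOf_eq_one])
    have e5 := (hL _ (hm m) ((k1 m).trans e4)).resolve_left fun e' => by simp [e'] at e
    have e6 := conj_comm (g := y) (conj_eq_iff.mp (e5 ▸ (k2 m).trans e4))
    rw [e1, e2] at e6
    exact .inl ((hL _ (D.mul_mem hb hc) (by rw [← conj_mul, t1, t2, e6])).resolve_left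
      fun e' => by simp [e'] at e)
  have l2 : (b * c) ^ (j + 1) * (b * c) ^ (j + 1) = b * c := by
    rw [← pow_add, show j + 1 + (j + 1) = 2 * j + 1 + 1 by ring, pow_succ, ← h, pow_orderOf_eq_one,
      one_mul]
  have l1 := k1 (j + 1)
  have l3 := k2 (j + 1)
  have l4 : b * c = 1 → (b * c) ^ (j + 1) = 1 := fun e => by rw [e, one_pow]
  have l5 := D.mul_mem hb (hm (j + 1))
  generalize (b * c) ^ (j + 1) = l at l1 l2 l3 l4 l5
  have e4 : c = b * (l * l) := by rw [l2, ← mul_assoc, b2, one_mul]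
  rcases hL _ l5 (by rw [← conj_mul, t1, l1, e4]; group) with e | e
  · have e5 : l = b := by rw [eq_inv_of_mul_eq_one_right e, bi]
    rw [l4 (by rw [← l2, e5, b2]), mul_one, ← e1, conj_eq_one_iff] at e
    exact absurd e a1
  have e5 : b * a = l := by rw [← e, ← mul_assoc, b2, one_mul]
  have e6 : y * l * y⁻¹ = (l * l)⁻¹ := by rw [l2, ← e5, ← conj_mul, e1, e2, mul_inv_rev, bi, ci]
  have e7 : y * (l * l)⁻¹ * y⁻¹ = l := by
    rw [l2, mul_inv_rev, bi, ci, ← conj_mul, e2, e3, ← e, e4]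
    calc _ = b * l * b⁻¹ * (l * l) := by rw [bi]; group
      _ = l := by rw [l3]; group
  have e8 : l ^ 3 = 1 := by
    rw [← conj_inv, ← conj_mul, e6] at e7
    calc _ = ((l * l)⁻¹ * (l * l)⁻¹)⁻¹ * l⁻¹ := by simp only [pow_succ]; group
      _ = 1 := by rw [e7, mul_inv_cancel]
  rw [e5, e6]
  exact .inr ⟨e8, inv_eq_of_mul_eq_one_right (by rw [← e8, pow_succ, sq])⟩

theorem exo_mod {G : Type*} [Group G] [Finite G] {R : Subgroup G} {a b c y τ : G}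
    (hy : y ∈ normalizer (R : Set G)) (hτ : τ ∈ normalizer (R : Set G))
    (ha : a ∈ centralizer (R : Set G)) (hb : b ∈ centralizer (R : Set G))
    (hc : c ∈ centralizer (R : Set G)) (e1 : y * a * y⁻¹ = b) (e2 : y * b * y⁻¹ = c)
    (e3 : y * c * y⁻¹ = a) (a2 : a * a = 1) (t1 : τ * b * τ⁻¹ = c) (t2 : τ * c * τ⁻¹ = b)
    (a1 : a ∉ R)
    (hL : ∀ f ∈ centralizer (R : Set G), τ * f * τ⁻¹ * f⁻¹ ∈ R → f ∈ R ∨ f * a⁻¹ ∈ R) :
    b * c * a⁻¹ ∈ R ∨ (b * a) ^ 3 ∈ R ∧ y * (b * a) * y⁻¹ * (b * a)⁻¹ ∈ R := by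
  have := normal_subgroupOf (le_refl (normalizer (R : Set G)))
  let π := QuotientGroup.mk' (R.subgroupOf (normalizer (R : Set G)))
  have hk : ∀ g, π g = 1 ↔ (g : G) ∈ R := fun g => QuotientGroup.eq_one_iff g
  have n := centralizer_le_normalizer (R : Set G)
  have cj : ∀ {g u v : G} (hg : g ∈ normalizer (R : Set G)) (hu : u ∈ centralizer (R : Set G))
      (hv : v ∈ centralizer (R : Set G)), g * u * g⁻¹ = v →
      π ⟨g, hg⟩ * π ⟨u, n hu⟩ * (π ⟨g, hg⟩)⁻¹ = π ⟨v, n hv⟩ := fun hg hu hv e => by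
    rw [← map_inv, ← map_mul, ← map_mul]; exact congrArg π (Subtype.ext e)
  have := exo_abs (D := ((centralizer (R : Set G)).subgroupOf _).map π) ⟨⟨b, n hb⟩, hb, rfl⟩
    ⟨⟨c, n hc⟩, hc, rfl⟩ (cj hy ha hb e1) (cj hy hb hc e2) (cj hy hc ha e3)
    (by rw [← map_mul, ← map_one π]; exact congrArg π (Subtype.ext a2)) (cj hτ hb hc t1)
    (cj hτ hc hb t2) (fun e => a1 ((hk _).mp e)) (by
      rintro _ ⟨f, hf, rfl⟩ e
      rw [← map_inv, ← map_mul, ← map_mul, eq_img π hk] at e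
      rw [hk, eq_img π hk]
      exact hL f hf e)
  simp only [← map_mul, ← map_inv, ← map_pow, hk, eq_img π hk] at this
  exact this

/-- An elementary abelian group of order eight. -/
noncomputable def R8 : Subgroup Mx := cl [mr1, mr2, mr3]

/-- An elementary abelian group of order eight. -/
noncomputable def D8 : Subgroup Mx := cl [mT, mw, mp]

theorem hR8 : Lists R8 (prodL [1, mr1, mr2, mr3, mr1 * mr2, mr1 * mr3, mr2 * mr3, mp] [1]) 8 :=
  lists_nil.step [[], [0], [1], [2], [0, 1], [0, 2], [1, 2], [0, 1, 2]] (by decide +kernel)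
    (by simp) (by decide +kernel) (by decide +kernel) (by decide +kernel)

theorem hD8 : Lists D8 (prodL [1, mT, mw, mp, mT * mw, mT * mp, mr3, mT * mr3] [1]) 8 :=
  lists_nil.step [[], [0], [1], [2], [0, 1], [0, 2], [1, 2], [0, 1, 2]] (by decide +kernel)
    (by simp) (by decide +kernel) (by decide +kernel) (by decide +kernel)

theorem m_exo : (∀ k ∈ R8, k ∈ N2 ∧ my * k * my⁻¹ ∈ R8 ∧ mT * k * mT⁻¹ ∈ R8 ∧ k * k = 1 ∧
    (mT * k * (mT * k) = 1 → k = 1 ∨ mT * k = mr1 * mT * mr1⁻¹ ∨ k = mr3 ∨ mT * k = mp * mT) ∧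
    (∀ l ∈ R8, k * l = l * k) ∧ ∃ j ∈ R8, j * me1 = me1 * j ∧ (k = j ∨ k = j * mr1)) ∧
    (∀ k ∈ D8, k ∈ N2 ∧ (k * mr1 = mr1 * k → k ∈ R8)) ∧ mw ∈ R8 ∧ mp ∈ R8 ∧
    my * me3 * my⁻¹ = me1 ∧ my * (my * (mr2 * me2) * my⁻¹) * my⁻¹ = mr1 * me1 ∧
    mr2 * mc = mb * mr2 ∧ ms⁻¹ * mp * ms⁻¹⁻¹ = mp * mT ∧ my * mr1 ≠ mr1 * my ∧
    ∀ n ∈ N2, n * mc = mc * n → n * (mp * mT) = mp * mT * n → n ^ 3 = 1 →
      n = 1 ∨ n = mc ∨ n = mc⁻¹ := by
  simp only [hN2.mem, hR8.mem, hD8.mem]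
  decide +kernel

variable {G : Type*} [Group G] [Finite G] {φ : Mx → G} {ι : Perm (Fin 6) →* G}

theorem exo (h : Loc true φ) (hs : Six φ ι) (hk : ∀ g, g * φ mT = φ mT * g →
    g * φ mw = φ mw * g → g * φ mp = φ mp * g →
      g ∈ closure {ι (swap 2 3), φ mT, φ mw, φ mp}) : False := by
  obtain ⟨a1, a2, wR, pR, a3, a4, a5, a6, a7, a8⟩ := m_exo
  have RN : R8 ≤ N2 := fun k hk => (a1 k hk).1
  have DN : D8 ≤ N2 := fun k hk => (a2 k hk).1
  have eR := h.eN.mono RN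
  have r1 : mr1 ∈ R8 := mem_cl (by simp)
  have r2 : mr2 ∈ R8 := mem_cl (by simp)
  have yN : my ∈ N2 := le_NJ true (BN (SB yS))
  have e1N := JN true m_d.1
  have inj : Function.Injective ι :=
    (injective_iff_map_eq_one ι).mpr fun p hp => hs.inj p (hp ▸ one_mem _)
  have cs : ∀ {σ ρ}, σ * ρ = ρ * σ → ι σ * ι ρ = ι ρ * ι σ := fun e => by
    rw [← map_mul, e, map_mul]
  have x2 : ι (swap 2 3) * ι (swap 2 3) = 1 := by rw [← map_mul, swap_mul_self, map_one]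
  have xt : φ mT * ι (swap 2 3) = ι (swap 2 3) * φ mT := hs.t ▸ cs (by decide)
  have xe := hs.cen (swap 2 3)
  have xb : (ι (swap 2 3) * φ (mr2 * me2)) ^ 3 = 1 := by
    rw [h.eN.mul (RN r2) (JN _ m_d.2.1), ← hs.r2, ← hs.e2, ← map_mul, ← map_mul, ← map_pow,
      ← map_one ι]
    exact congrArg ι (by decide)
  have xR : ∀ g ∈ im φ R8, g * ι (swap 2 3) = ι (swap 2 3) * g := fun g hg => mem_cent.mp
    (im_le eR rfl (K := centralizer {ι (swap 2 3)}) (by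
      rintro _ (_ | ⟨_, _ | ⟨_, _ | ⟨_, ⟨⟩⟩⟩⟩)
      exacts [mem_cent.mpr (hs.r1 ▸ cs (by decide)), mem_cent.mpr (hs.r2 ▸ cs (by decide)),
        mem_cent.mpr (hs.r3 _).symm]) hg)
  have nx : ∀ g ∈ im φ R8, g * ι (swap 2 3) * φ me1 ≠ φ me1 * (g * ι (swap 2 3)) := fun g hg e => by
    obtain ⟨k, hk, rfl⟩ := eR.ex hg
    obtain ⟨j, hj, e1, rfl | rfl⟩ := (a1 k hk).2.2.2.2.2.2 <;>
      rw [← h.eN.comm (RN hj) e1N] at e1
    · rw [← mul_assoc, ← e1, mul_assoc, mul_assoc, mul_right_inj, ← hs.e1, ← map_mul,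
        ← map_mul] at e
      exact absurd (inj e) (by decide)
    · rw [eR.mul hj r1, ← mul_assoc, ← mul_assoc, ← e1] at e
      simp only [mul_assoc, mul_right_inj, ← hs.e1, ← hs.r1, ← map_mul] at e
      exact absurd (inj e) (by decide)
  have b6 : (ι (swap 2 3) * φ (mr1 * me1)) ^ 3 = 1 ∧
      (φ mr1 * (ι (swap 2 3) * φ (mr1 * me1))) ^ 6 ≠ 1 := by
    simp only [h.eN.mul (RN r1) e1N, ← hs.r1, ← hs.e1, ← map_mul, ← map_pow, ← map_one ι, Ne,
      inj.eq_iff]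
    decide
  generalize ι (swap 2 3) = x at hk x2 xt xe xb xR nx b6
  have xi := inv_eq_of_mul_eq_one_right x2
  have xn : x ∉ im φ R8 := fun e => nx x e (by rw [x2]; simp)
  have nm : ∀ {n}, n ∈ N2 → (∀ k ∈ R8, n * k * n⁻¹ ∈ R8) → φ n ∈ normalizer (im φ R8 : Set G) :=
    fun hn e => mem_normalizer_of_conj_mem fun g hg => by
      obtain ⟨k, hk, rfl⟩ := eR.ex hg
      exact h.eN.conj hn (RN hk) ▸ mem_im φ (e k hk)
  have hy := nm yN fun k hk => (a1 k hk).2.1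
  have hτ := nm h.tN fun k hk => (a1 k hk).2.2.1
  have cc : ∀ {g}, g ∈ centralizer (im φ R8 : Set G) →
      φ my * g * (φ my)⁻¹ ∈ centralizer (im φ R8 : Set G) := fun hg k hk => by
    simpa [mul_assoc] using conj_comm (g := φ my) (hg _ (conj_mem_of_mem_normalizer (inv_mem hy) hk))
  have RC : ∀ g ∈ im φ R8, g ∈ centralizer (im φ R8 : Set G) ∧ g * g = 1 := fun g hg => by
    obtain ⟨k, hk, rfl⟩ := eR.ex hg
    refine ⟨fun l hl => ?_, (eR.sq_eq_one hk).mpr (a1 k hk).2.2.2.1⟩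
    obtain ⟨l, hl', rfl⟩ := eR.ex hl
    exact (eR.comm hl' hk).mpr ((a1 l hl').2.2.2.2.2.1 k hk)
  have lc : ∀ f ∈ centralizer (im φ R8 : Set G), f * φ mT = φ mT * f →
      f ∈ im φ R8 ∨ f * x⁻¹ ∈ im φ R8 := fun f hf e => by
    have xD : ∀ k ∈ D8, φ k * x = x * φ k := fun k hk => mem_cent.mp
      (im_le (h.eN.mono DN) rfl (K := centralizer {x}) (by
        rintro _ (_ | ⟨_, _ | ⟨_, _ | ⟨_, ⟨⟩⟩⟩⟩)
        exacts [mem_cent.mpr xt, mem_cent.mpr (xR _ (mem_im φ wR)),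
          mem_cent.mpr (xR _ (mem_im φ pR))]) (mem_im φ hk))
    obtain ⟨k, hk', n, rfl⟩ : ∃ k ∈ D8, ∃ n : ℤ, f = φ k * x ^ n := by
      refine closure_induction (p := fun f _ => ∃ k ∈ D8, ∃ n : ℤ, f = φ k * x ^ n) ?_
        ⟨1, one_mem _, 0, by simp [h.eN.one]⟩ ?_ ?_
        (hk f e (hf _ (mem_im φ wR)).symm (hf _ (mem_im φ pR)).symm)
      · rintro _ (rfl | rfl | rfl | rfl)
        exacts [⟨1, one_mem _, 1, by simp [h.eN.one]⟩, ⟨mT, mem_cl (by simp), 0, by simp⟩,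
          ⟨mw, mem_cl (by simp), 0, by simp⟩, ⟨mp, mem_cl (by simp), 0, by simp⟩]
      · rintro _ _ - - ⟨k, hk, n, rfl⟩ ⟨l, hl, m, rfl⟩
        exact ⟨_, mul_mem hk hl, n + m, by
          rw [h.eN.mul (DN hk) (DN hl), zpow_add, mul_assoc, mul_assoc, ← mul_assoc (x ^ n),
            ← (Commute.zpow_right (xD l hl) n).eq, mul_assoc]⟩
      · rintro _ - ⟨k, hk, n, rfl⟩
        exact ⟨_, inv_mem hk, -n, by
          rw [mul_inv_rev, (Commute.zpow_right (xD _ (inv_mem hk)) _).eq, h.eN.inv (DN hk),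
            zpow_neg]⟩
    have e1 := hf _ (mem_im φ r1)
    rw [mul_assoc, ← (Commute.zpow_right (xR _ (mem_im φ r1)) n).eq, ← mul_assoc, ← mul_assoc,
      mul_left_inj] at e1
    have e2 := mem_im φ ((a2 k hk').2 ((h.eN.comm (DN hk') (RN r1)).mp e1.symm))
    rcases (mem_zpowers_two x2).mp ⟨n, rfl⟩ with e3 | e3 <;> simp [e3, e2]
  have y3 := h.l0.base.r0.y3
  have ty : φ mT * φ my * (φ mT)⁻¹ = (φ my)⁻¹ := (h.cji h.tN yN yN).mpr m_b.2.2.2.2.2.2.2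
  have yy : φ my * φ my = (φ my)⁻¹ := L0.SC3.mul_self_of_cube y3
  have t1 : φ mT * (φ my * x * (φ my)⁻¹) * (φ mT)⁻¹ = φ my * (φ my * x * (φ my)⁻¹) * (φ my)⁻¹ := by
    rw [← conj_mul, ← conj_mul, ← conj_inv, ty, conj_eq_iff.mpr xt]
    calc _ = φ my * φ my * x * (φ my * φ my)⁻¹ := by rw [yy]
      _ = _ := by group
  have xC : x ∈ centralizer (im φ R8 : Set G) := xR
  have be : φ my * x * (φ my)⁻¹ * φ me1 = φ me1 * (φ my * x * (φ my)⁻¹) := by
    rw [← (h.cj yN (JN _ m_d.2.2.1) e1N).mpr a3]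
    exact conj_comm xe
  have b2 : φ my * x * (φ my)⁻¹ * (φ my * x * (φ my)⁻¹) = 1 := conj_sq x2
  have c3 : (φ my * (φ my * x * (φ my)⁻¹) * (φ my)⁻¹ * φ (mr1 * me1)) ^ 3 = 1 := by
    have k := mul_mem (RN r2) (JN true m_d.2.1)
    rw [← a4, h.eN.conj yN (mul_mem (mul_mem yN k) (inv_mem yN)), h.eN.conj yN k, conj_mul, conj_mul]
    exact conj_cube (conj_cube xb)
  have bn : φ my * x * (φ my)⁻¹ ∉ im φ R8 := fun e => xn (by
    simpa [mul_assoc] using conj_mem_of_mem_normalizer (inv_mem hy) e)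
  rcases exo_mod hy hτ xC (cc xC) (cc (cc xC)) rfl rfl (by
      calc _ = φ my ^ 3 * x * (φ my ^ 3)⁻¹ := by simp [pow_succ, mul_assoc]
        _ = x := by rw [y3]; simp) x2 t1 (by
      rw [← t1]
      calc _ = φ mT * φ mT * (φ my * x * (φ my)⁻¹) * (φ mT * φ mT)⁻¹ := by group
        _ = _ := by rw [h.l0.tt]; simp) xn (fun f hf e => by
      obtain ⟨k, hk, e1⟩ := eR.ex e
      have e2 : f * φ mT * f⁻¹ = φ (mT * k) := by
        rw [h.eN.mul h.tN (RN hk), e1, ← mul_assoc, ← mul_assoc, ← mul_assoc, h.l0.tt, one_mul,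
          inv_eq_of_mul_eq_one_right h.l0.tt]
      rcases (a1 k hk).2.2.2.2.1 ((h.eN.sq_eq_one (mul_mem h.tN (RN hk))).mp
        (e2 ▸ conj_sq h.l0.tt)) with e3 | e3 | e3 | e3 <;> rw [e3] at e2
      · exact lc f hf (conj_eq_iff.mp (by rwa [mul_one] at e2))
      · rw [h.eN.conj (RN r1) h.tN] at e2
        have k1 := inv_mem (mem_im φ r1)
        have := lc _ (mul_mem (RC _ k1).1 hf) (conj_eq_iff.mp (by
          rw [mul_assoc _ f, mul_inv_rev, ← mul_assoc, mul_assoc _ _ f⁻¹, e2]; group))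
        rwa [mul_assoc, mul_mem_cancel_left k1, mul_mem_cancel_left k1] at this
      · exact absurd (isConj_iff.mpr ⟨f, e2⟩) h.tr3
      · exact absurd (isConj_iff.mpr ⟨f, e2⟩) h.tpt) with e | ⟨e, e'⟩
  · have bC := cc xC
    have c2 := conj_sq (g := φ my) b2
    generalize φ my * (φ my * x * (φ my)⁻¹) * (φ my)⁻¹ = c at e c2 c3
    generalize φ my * x * (φ my)⁻¹ = b at e be b2 bn bC
    obtain ⟨k, hk, e1⟩ := eR.ex e
    obtain rfl : c = b * φ k * x := by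
      rw [e1, ← mul_assoc, ← mul_assoc, b2, one_mul, inv_mul_cancel_right]
    have bx : Commute b x := by
      have k1 : Commute (φ k) (b * x) := mul_mem bC xC _ (mem_im φ hk)
      rw [← bC _ (mem_im φ hk), mul_assoc _ b, ← sq, k1.mul_pow, sq, (RC _ (mem_im φ hk)).2, one_mul,
        sq, mul_eq_one_iff_eq_inv, mul_inv_rev, xi, inv_eq_of_mul_eq_one_right b2] at c2
      exact c2
    obtain ⟨j, hj, e2, e3⟩ := (a1 k hk).2.2.2.2.2.2
    rw [← h.eN.comm (RN hj) e1N] at e2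
    have j1 : Commute (b * φ j) (φ mr1) := (mul_mem bC (RC _ (mem_im φ hj)).1 _ (mem_im φ r1)).symm
    have j2 : Commute (b * φ j) (x * φ (mr1 * me1)) := by
      rw [h.eN.mul (RN r1) e1N]
      exact (bx.mul_left (xR _ (mem_im φ hj))).mul_right (j1.mul_right (Commute.mul_left be e2))
    have j3 : b * φ j * (b * φ j) = 1 := by
      rw [← sq, (Commute.symm (bC _ (mem_im φ hj))).mul_pow, sq, sq, b2, (RC _ (mem_im φ hj)).2,
        one_mul]
    rcases e3 with rfl | rfl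
    · rw [mul_assoc, j2.mul_pow, b6.1, mul_one] at c3
      exact bn (eq_inv_of_mul_eq_one_left (L0.SC3.two_ne_three c3 j3) ▸ inv_mem (mem_im φ hj))
    · rw [eR.mul hj r1, ← mul_assoc, mul_assoc, mul_assoc] at c3
      have := congrArg (· ^ 2) c3
      simp only [← pow_mul, one_pow] at this
      rw [(j1.mul_right j2).mul_pow, mul_comm, pow_mul, sq, j3, one_pow, one_mul] at this
      exact b6.2 this
  have mC := mul_mem (cc xC) xC
  have m1 : φ my * x * (φ my)⁻¹ * x ∉ im φ R8 := fun e => nx _ e (by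
    rwa [mul_assoc _ x x, x2, mul_one])
  generalize φ my * x * (φ my)⁻¹ * x = μ at e e' mC m1
  have g3 : (μ * μ) ^ 3 = 1 := by rw [(Commute.refl μ).mul_pow, (RC _ e).2]
  have gy : μ * μ * φ my = φ my * (μ * μ) := by
    have k1 : Commute (φ my * μ * (φ my)⁻¹ * μ⁻¹) μ := mC _ e'
    have := k1.mul_pow 2
    rw [sq, sq, sq, (RC _ e').2, one_mul, inv_mul_cancel_right, conj_mul] at this
    exact (conj_eq_iff.mp this).symm
  have sb := h.l0.base.r0.rel.sb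
  have g1 := conj_comm (g := (φ ms)⁻¹) gy
  rw [show (φ ms)⁻¹ * φ my * (φ ms)⁻¹⁻¹ = φ mc by rw [← sb]; group] at g1
  have g2 := conj_comm (g := (φ ms)⁻¹) (mul_mem mC mC _ (mem_im φ pR)).symm
  rw [← h.l0.e.inv sC, ← h.eZ.conj (C12 (inv_mem sC)) pC, a6, h.l0.e.inv sC] at g2
  have cN := JN true cJ
  obtain ⟨n, hn, e1⟩ := h.eN.ex (h.eN.cent_tr le_rfl (RN r2) cN a5
    (fun g e => h.nj (h.cb g e)) _ g1)
  have g4 : μ * μ = φ ms * φ n * (φ ms)⁻¹ := by rw [e1]; group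
  have g5 := mul_mem mC mC _ (mem_im φ r1)
  rcases a8 n hn ((h.eN.comm hn cN).mp (e1 ▸ g1)) ((h.eN.comm hn (mul_mem pN h.tN)).mp (e1 ▸ g2))
    ((h.eN.pow_eq_one hn).mp (e1 ▸ conj_cube g3)) with rfl | rfl | rfl
  · rw [pow_succ, sq, g4, h.eN.one] at e
    exact m1 (by simpa using e)
  · exact a7 ((h.eN.comm yN (RN r1)).mp (by rw [← sb, ← g4, g5]))
  · rw [g4, h.eN.inv cN, ← conj_inv, sb] at g5
    exact a7 ((h.eN.comm yN (RN r1)).mp (Commute.inv_right_iff.mp g5).symm.eq)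

end Cfsg.Agent.H7.P3
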