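import Cfsg.Agent.H8.P3SpDef

/-!
# The centralizer of `e₃` is `3 × S₆`
-/

set_option autoImplicit false
set_option linter.unusedSectionVars false
set_option synthInstance.maxSize 4000
set_option maxRecDepth 100000

namespace Cfsg.Agent.H7.P3

open Subgroup Cfsg.Agent.H9 Cfsg.Agent.H1.T3 Cfsg.Agent.H8.P3 Cfsg.Agent.H8.P3.Mx Equiv
open Cfsg.Agent.H1.S9 (Emb im mem_im im_mono im_congr)
open Cfsg.Agent.H1.S6 (c0 c1 c2 c3 c4)

attribute [local irreducible] mz mc my ms mu mw mp mx Mx.mt me1 me2 me3 mb mr1 mr2 mr3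

/-- A transversal. -/
noncomputable def T216 : List Mx := lst [
  (nat_lit 40564838550125678058396201254913, nat_lit 40564838550125678058396201254913),
  (nat_lit 40564838550125678058396201255425, nat_lit 40564838550125678058396201255425),
  (nat_lit 40564838550125678058397274996737, nat_lit 40564838550125678058397274996737),
  (nat_lit 40564821625228767057845736964104, nat_lit 40564821625228767057845736964104),
  (nat_lit 40564838550125678058397274997249, nat_lit 40564838550125678058397274997249),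
  (nat_lit 40564821625228767057845871181832, nat_lit 40564821625228767057845736968200),
  (nat_lit 40564821625228767057845736968200, nat_lit 40564821625228767057845871181832),
  (nat_lit 40564821625228767057845871185928, nat_lit 40564821625228767057845871185928)]
  (by decide +kernel)

/-- The centralizer of `e₃` in the normalizer of `J`. -/
noncomputable def K216 : Subgroup Mx := cl [mz, mc, mu, mr1, mr2, mT]

theorem h216 : Lists K216 (prodL T216 LJ) 216 :=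
  hJ.step (g1 := gJ) (T := T216) [[], [3], [4], [5], [4, 3], [5, 3], [5, 4], [5, 4, 3]]
    (by decide +kernel) (by decide +kernel) (by decide +kernel) (by decide +kernel)
    (by decide +kernel)

theorem m_six : (∀ n ∈ N2, n * me3 = me3 * n → (∃ t ∈ T216, t⁻¹ * n ∈ J) ∧
    (n * me1 * n⁻¹ * me1⁻¹ ∈ [1, me3, me3⁻¹] → n * me2 * n⁻¹ * me2⁻¹ ∈ [1, me3, me3⁻¹] → n ∈ J)) ∧
    (∀ t ∈ T216, ∃ j ∈ J, t * j = t) ∧
    (∀ n ∈ [mz, mc, mu, mr1, mr2, mT], n ∈ N2 ∧ n * me3 = me3 * n) ∧ mr3 ∈ N2 ∧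
    (mr1 * mT) ^ 4 = 1 ∧ mT * (mr1 * mT) * mT⁻¹ = (mr1 * mT)⁻¹ ∧
    mr1 * mT * (mr1 * mT) ∉ [1, me3, me3⁻¹] ∧ mr1 * mr1 = 1 ∧ mr1 * me1 * (mr1 * me1) = 1 ∧
    mr2 * me2 * (mr2 * me2) = 1 ∧ mr2 * mr2 = 1 ∧ (mr1 * (mr1 * me1)) ^ 3 = 1 ∧
    (mr2 * me2 * mr2) ^ 3 = 1 ∧ mr1 * (mr1 * me1) ∉ [1, me3, me3⁻¹] ∧
    mr2 * me2 * mr2 ∉ [1, me3, me3⁻¹] ∧ mr1 * (mr2 * me2) = mr2 * me2 * mr1 ∧
    mr1 * mr2 = mr2 * mr1 ∧ mr1 * me1 * (mr2 * me2) = mr2 * me2 * (mr1 * me1) ∧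
    mr1 * me1 * mr2 = mr2 * (mr1 * me1) ∧ mT * mr1 = mr2 * mT ∧
    mT * (mr1 * me1) = mr2 * me2 * mT ∧ mr3 * me3⁻¹ = me3 * mr3 ∧
    ∀ a ∈ [mr1, mr1 * me1, mr2 * me2, mr2], mr3 * a = a * mr3 := by
  simp only [hN2.mem, hJ.mem]
  decide +kernel

theorem s_six : (c0 = swap 0 1 ∧ c1 = swap 1 2 ∧ c2 = swap 2 3 ∧ c3 = swap 3 4 ∧ c4 = swap 4 5) ∧
    ∀ p : Perm (Fin 6), p * p = 1 → (p * swap 0 1 = swap 4 5 * p → p * swap 1 2 = swap 3 4 * p →
      p = swap 0 5 * swap 1 4 * swap 2 3) ∧ (p * swap 0 1 = swap 0 1 * p → (swap 1 2 * p) ^ 3 = 1 →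
      (p * swap 3 4) ^ 3 = 1 → p * swap 4 5 = swap 4 5 * p → p = swap 2 3) := by
  rw [← H1.S6.adj0, ← H1.S6.adj1, ← H1.S6.adj2, ← H1.S6.adj3, ← H1.S6.adj4]
  decide +kernel

theorem K216N : K216 ≤ N2 := cl_le fun n hn => (m_six.2.2.1 n hn).1

theorem K216C : K216 ≤ centralizer {me3} := cl_le fun n hn => mem_cent.mpr (m_six.2.2.1 n hn).2

theorem mem216 {n : Mx} (hn : n ∈ N2) (e : n * me3 = me3 * n) : n ∈ K216 := by
  obtain ⟨t, ht, e⟩ := (m_six.1 n hn e).1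
  exact (h216.mem _).mpr (mem_prodL.mpr ⟨t, ht, _, (hJ.mem _).mp e, by simp⟩)

variable {G : Type*} [Group G] [Finite G] {φ : Mx → G}

theorem dich (h : Loc true φ) (he : ¬ centralizer {φ me3} ≤ normalizer (im φ J : Set G)) :
    ∃ π : centralizer ({φ me3} : Set G) →* Perm (Fin 6), Function.Surjective π ∧
      ∀ g, π g = 1 ↔ (g : G) ∈ zpowers (φ me3) := by
  have : Fact (Nat.Prime 3) := ⟨Nat.prime_three⟩
  obtain ⟨a1, -, a3, -, r1, r2, r3, -⟩ := m_six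
  obtain ⟨m1, m2, m3, -, -, -, e1, -⟩ := m_d
  have m3' := JN true m3
  have z3 := h.l0.expJ _ (mem_im φ m3)
  have hL : ∀ {k}, k ∈ N2 → (φ k ∈ centralizer ({φ me3} : Set G) ↔ k * me3 = me3 * k) :=
    fun hk => by rw [mem_cent, h.eN.comm hk m3']
  have hJL : im φ J ≤ centralizer ({φ me3} : Set G) := fun j hj =>
    mem_cent.mpr (h.l0.abJ j hj _ (mem_im φ m3))
  have hZJ : zpowers (φ me3) ≤ im φ J := zpowers_le_of_mem (mem_im φ m3)
  have hz := fun {b} hb => h.eN.mem_zp3 m3' (b := b) hb (m_J me3 m3).1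
  have hZc : ∀ g ∈ centralizer ({φ me3} : Set G), ∀ ζ ∈ zpowers (φ me3), g * ζ = ζ * g := by
    rintro g hg _ ⟨n, rfl⟩
    exact (Commute.zpow_right (mem_cent.mp hg) n).eq
  have four : ∀ g ∈ centralizer ({φ me3} : Set G), g ∈ normalizer (im φ J : Set G) →
      g ^ 4 ∈ im φ J := fun g hg e => by
    obtain ⟨n, hn, rfl⟩ := h.exN e
    rw [← h.eN.pow hn]
    exact mem_im φ ((m_N n hn).2.2.1 ((hL hn).mp hg)).1
  have t := a3 mT (by simp)
  have r := a3 mr1 (by simp)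
  have rt := mul_mem r.1 t.1
  refine (nine_mod3 (le_normalizer_of_cent hZc) hZJ hJL (by
    rw [Nat.card_zpowers, orderOf_three z3 (h.eN.ne m3' e1)]) h.l0.cardJ
    (not_dvd_of_syl (k := 3) (syl_of hJL h.l0.pJ four) h.l0.cardJ)
    h.l0.abJ (fun g hg e => ?_) (fun d hd hdZ g hg e => ?_) ?_ (r := φ (mr1 * mT)) (s := φ mT)
    ((hL rt).mpr (Commute.mul_left r.2 t.2)) ((hL t.1).mpr t.2) (h.norm rt) (h.norm t.1)
    ((h.eN.pow_eq_one rt).mpr r1) h.l0.tt ((h.cji t.1 rt rt).mpr r2)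
    (by rw [← h.eN.mul rt rt, hz (mul_mem rt rt)]; simpa using r3)).resolve_left he
  · obtain ⟨k, hk, rfl⟩ := h.exN (mem_normalizer_of_conj_mem (g := g) (fun d hd => by
      simpa using mul_mem (hZJ (e d hd)) hd))
    have t := fun d (hd : d ∈ J) => (hz (mul_mem (mul_mem (mul_mem hk (JN _ hd)) (inv_mem hk))
      (inv_mem (JN _ hd)))).mp (by
        rw [h.eN.mul (mul_mem (mul_mem hk (JN _ hd)) (inv_mem hk)) (inv_mem (JN _ hd)),
          h.eN.conj hk (JN _ hd), h.eN.inv (JN _ hd)]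
        exact e _ (mem_im φ hd))
    exact mem_im φ ((a1 k hk ((hL hk).mp hg)).2 (by simpa using t _ m1) (by simpa using t _ m2))
  · obtain ⟨d, hd', rfl⟩ := h.l0.eJ.ex hd
    rw [hz (JN _ hd'), not_or, not_or] at hdZ
    refine mem_normalizer_of_conj_mem fun j hj => ?_
    have h1 := mul_mem (mul_mem hg (hJL hj)) (inv_mem hg)
    have h2 := conj_comm (g := g) (h.l0.abJ j hj _ hd)
    have h3 := hZc _ h1 _ e
    refine mem_of_four (four _ h1 (h.c9 me3 m3 d hd' e1 hdZ.1 hdZ.2.1 hdZ.2.2 _ (mem_cent.mp h1)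
      ?_)) (conj_cube (h.l0.expJ j hj))
    simpa [mul_assoc] using ((Commute.inv_right h3).mul_right h2).eq
  · rw [← h216.card, ← (h.eN.mono K216N).card]
    congr 2
    refine le_antisymm (fun g hg => ?_) (fun g hg => ?_)
    · obtain ⟨k, hk, rfl⟩ := h.exN hg.1
      exact mem_im φ (mem216 hk ((hL hk).mp hg.2))
    · obtain ⟨k, hk, rfl⟩ := (h.eN.mono K216N).ex hg
      exact ⟨h.norm (K216N hk), (hL (K216N hk)).mpr (mem_cent.mp (K216C hk))⟩

theorem six (h : Loc true φ) (he : ¬ centralizer {φ me3} ≤ normalizer (im φ J : Set G)) :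
    ∃ ι, Six φ ι := by
  obtain ⟨π, hπ, hk⟩ := dich h he
  obtain ⟨-, -, a3, r3, -, -, -, q0, q1, q3, q4, q01, q34, n01, n34, q03, q04, q13, q14, a0, a1,
    i3, b3⟩ := m_six
  obtain ⟨m1, m2, m3, -⟩ := m_d
  have m3' := JN true m3
  have z3 := h.l0.expJ _ (mem_im φ m3)
  have JK : J ≤ K216 := cl_le fun g hg => mem_cl (by
    simp only [gJ, List.mem_cons, List.not_mem_nil, or_false] at hg ⊢
    tauto)
  have r7 : mr1 ∈ K216 := mem_cl (by simp)
  have r10 : mr2 ∈ K216 := mem_cl (by simp)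
  have r6 : mT ∈ K216 := mem_cl (by simp)
  have r8 := mul_mem r7 (JK m1)
  have r9 := mul_mem r10 (JK m2)
  have hL' : ∀ {k}, k ∈ K216 → φ k ∈ centralizer ({φ me3} : Set G) := fun hk =>
    mem_cent.mpr ((h.eN.comm (K216N hk) m3').mpr (mem_cent.mp (K216C hk)))
  have hz := fun {b} hb => h.eN.mem_zp3 m3' (b := b) hb (m_J me3 m3).1
  have k2 : ∀ {a} (ha : a ∈ K216), a * a = 1 →
      (⟨φ a, hL' ha⟩ * ⟨φ a, hL' ha⟩ : centralizer ({φ me3} : Set G)) = 1 := fun ha e =>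
    Subtype.ext ((h.eN.sq_eq_one (K216N ha)).mpr e)
  have k3 : ∀ {a b} (ha : a ∈ K216) (hb : b ∈ K216), (a * b) ^ 3 = 1 →
      (⟨φ a, hL' ha⟩ * ⟨φ b, hL' hb⟩ : centralizer ({φ me3} : Set G)) ^ 3 = 1 := fun ha hb e =>
    Subtype.ext ((congrArg (· ^ 3) (h.eN.mul (K216N ha) (K216N hb)).symm).trans
      ((h.eN.pow_eq_one (K216N (mul_mem ha hb))).mpr e))
  have kc : ∀ {a b} (ha : a ∈ K216) (hb : b ∈ K216), a * b = b * a →
      (⟨φ a, hL' ha⟩ * ⟨φ b, hL' hb⟩ : centralizer ({φ me3} : Set G)) =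
        ⟨φ b, hL' hb⟩ * ⟨φ a, hL' ha⟩ := fun ha hb e =>
    Subtype.ext ((h.eN.comm (K216N ha) (K216N hb)).mpr e)
  have kn : ∀ {a b}, a ∈ K216 → b ∈ K216 → a * b ∉ [1, me3, me3⁻¹] →
      φ a * φ b ∉ zpowers (φ me3) := fun ha hb e => by
    rw [← h.eN.mul (K216N ha) (K216N hb), hz (K216N (mul_mem ha hb))]
    simpa using e
  obtain ⟨ι, i1, i2, i3', j0, j1, j3, j4⟩ := lift3c z3 (fun g hg => mem_cent.mp hg) π hπ hk
    (k2 r7 q0) (k2 r8 q1) (k2 r9 q3) (k2 r10 q4) (k3 r7 r8 q01) (k3 r9 r10 q34) (kn r7 r8 n01)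
    (kn r9 r10 n34) (kc r7 r9 q03) (kc r7 r10 q04) (kc r8 r9 q13) (kc r8 r10 q14)
  obtain ⟨⟨d0, d1, d2, d3, d4⟩, s6⟩ := s_six
  simp only [d0, d1, d3, d4] at j0 j1 j3 j4
  have hι : Function.Injective ι := (injective_iff_map_eq_one ι).mpr
    (fun p hp => i3' p (hp ▸ one_mem _))
  have inv2 : ∀ g, g * φ me3 = φ me3 * g → g * g = 1 → ∃ p, p * p = 1 ∧ g = ι p :=
    fun g hg e => by
    obtain ⟨p, ζ, hζ, rfl⟩ := i2 g (mem_cent.mpr hg)
    have c : ι p * ζ = ζ * ι p := by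
      obtain ⟨n, rfl⟩ := hζ
      exact (Commute.zpow_right (mem_cent.mp (i1 p)) n).eq
    rw [mul_assoc, ← mul_assoc (ι p), c, mul_assoc, ← mul_assoc, ← map_mul] at e
    have e' := i3' (p * p) (eq_inv_of_mul_eq_one_right e ▸ inv_mem (mul_mem hζ hζ))
    rw [e', map_one, mul_one] at e
    exact ⟨p, e', (mul_eq_right.mpr (L0.SC3.two_ne_three (cube_zp z3 hζ) e))⟩
  refine ⟨ι, fun σ => mem_cent.mp (i1 σ), fun g hg => i2 g (mem_cent.mpr hg), i3', j0, j4, ?_, ?_,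
    ?_, fun σ => ?_⟩
  · rw [map_mul, j0, j1, ← h.eN.mul (K216N r7) (K216N r8), ← mul_assoc, q0, one_mul]
  · rw [map_mul, j4, j3, ← h.eN.mul (K216N r10) (K216N r9), ← mul_assoc, q4, one_mul]
  · obtain ⟨p, p2, hp⟩ := inv2 _ (mem_cent.mp (hL' r6)) h.l0.tt
    have t : ∀ {a b c d}, ι a = φ c → ι b = φ d → c ∈ K216 → d ∈ K216 → mT * c = d * mT →
        p * a = b * p := fun {a b c d} e e' hc hd e'' => hι (by
      rw [map_mul, map_mul, ← hp, e, e', ← h.eN.mul (K216N r6) (K216N hc), e'',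
        h.eN.mul (K216N hd) (K216N r6)])
    rw [hp, (s6 p p2).1 (t j0 j4 r7 r10 a0) (t j1 j3 r8 r9 a1)]
  have c := fun {a} (ha : a ∈ K216) e => (h.eN.comm r3 (K216N ha)).mpr (b3 a e)
  have u0 := j0 ▸ c r7 (by simp)
  have u1 := j1 ▸ c r8 (by simp)
  have u3 := j3 ▸ c r9 (by simp)
  have u4 := j4 ▸ c r10 (by simp)
  obtain ⟨p, p2, hp⟩ := inv2 (φ mr3 * ι (swap 2 3) * (φ mr3)⁻¹) (by
    have := conj_comm (g := φ mr3) (Commute.inv_right (mem_cent.mp (i1 (swap 2 3)))).eq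
    rwa [← h.eN.inv m3', h.eN.cj r3 (inv_mem m3') i3] at this)
    (conj_sq (by rw [← map_mul, swap_mul_self, map_one]))
  have w : ∀ {a}, φ mr3 * ι a = ι a * φ mr3 → ι a = φ mr3 * ι a * (φ mr3)⁻¹ := fun e =>
    (conj_eq_iff.mpr e).symm
  have : p = swap 2 3 := (s6 p p2).2
    (hι (by
      rw [map_mul, map_mul, ← hp, w u0]
      exact conj_comm (by rw [← map_mul, ← map_mul]; congr 1; decide)))
    (hι (by
      rw [map_pow, map_mul, ← hp, w u1, conj_mul, map_one]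
      exact conj_cube (by rw [← map_mul, ← map_pow, ← map_one ι]; congr 1; decide)))
    (hι (by
      rw [map_pow, map_mul, ← hp, w u3, conj_mul, map_one]
      exact conj_cube (by rw [← map_mul, ← map_pow, ← map_one ι]; congr 1; decide)))
    (hι (by
      rw [map_mul, map_mul, ← hp, w u4]
      exact conj_comm (by rw [← map_mul, ← map_mul]; congr 1; decide)))
  exact mem_cent.mp (range_le_of_gens ι (L := centralizer {φ mr3}) (d0 ▸ mem_cent.mpr u0.symm)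
    (d1 ▸ mem_cent.mpr u1.symm) (d2 ▸ mem_cent.mpr (conj_eq_iff.mp (this ▸ hp)).symm)
    (d3 ▸ mem_cent.mpr u3.symm) (d4 ▸ mem_cent.mpr u4.symm) σ)

end Cfsg.Agent.H7.P3
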