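import Cfsg.Agent.H3.CharOrth

/-! Symmetric and exterior squares of characters, and the invariant forms they control. -/

set_option autoImplicit false

namespace Cfsg.Agent.H7.PA

open Cfsg Cfsg.Agent.H3 Representation Module TensorProduct
open scoped ComplexConjugate

variable {G : Type*} [Group G]

/-- The symmetric (`η = 1`) or exterior (`η = -1`) square of a class function. -/
noncomputable def sq2 (η : ℂ) (χ : G → ℂ) : G → ℂ := fun g => (χ g * χ g + η * χ (g * g)) / 2

theorem sq2_add (χ : G → ℂ) : sq2 1 χ + sq2 (-1) χ = χ * χ := by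
  ext g; simp only [sq2, Pi.add_apply, Pi.mul_apply]; ring

variable {V : Type*} [AddCommGroup V] [Module ℂ V]

theorem trace_comm [FiniteDimensional ℂ V] (f : V →ₗ[ℂ] V) :
    LinearMap.trace ℂ _ (TensorProduct.map f f ∘ₗ (TensorProduct.comm ℂ V V).toLinearMap) =
      LinearMap.trace ℂ V (f * f) := by
  let b := Module.finBasis ℂ V
  rw [LinearMap.trace_eq_matrix_trace ℂ (b.tensorProduct b), LinearMap.trace_eq_matrix_trace ℂ b,
    LinearMap.toMatrix_mul, Matrix.trace, Matrix.trace, Fintype.sum_prod_type]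
  refine Finset.sum_congr rfl fun i _ => ?_
  rw [Matrix.diag, Matrix.mul_apply]
  refine Finset.sum_congr rfl fun j _ => ?_
  simp [LinearMap.toMatrix_apply, Basis.tensorProduct_apply, mul_comm]

/-- The eigenspace of the flip. -/
noncomputable def eig (ρ : Representation ℂ G V) (η : ℂ) : Subrepresentation (ρ.tprod ρ) where
  toSubmodule := LinearMap.ker ((TensorProduct.comm ℂ V V).toLinearMap - η • LinearMap.id)
  apply_mem_toSubmodule g v hv := by
    have key : ∀ w, TensorProduct.comm ℂ V V (TensorProduct.map (ρ g) (ρ g) w) =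
        TensorProduct.map (ρ g) (ρ g) (TensorProduct.comm ℂ V V w) := fun w => by
      induction w with
      | zero => simp
      | tmul a b => simp
      | add a b ha hb => simp only [map_add, ha, hb]
    simp only [LinearMap.mem_ker, LinearMap.sub_apply, LinearEquiv.coe_coe, LinearMap.smul_apply,
      LinearMap.id_apply, sub_eq_zero, Representation.tprod_apply] at hv ⊢
    rw [key, hv, map_smul]

theorem mem_eig {ρ : Representation ℂ G V} {η : ℂ} {w : V ⊗[ℂ] V} :
    w ∈ (eig ρ η).toSubmodule ↔ TensorProduct.comm ℂ V V w = η • w := by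
  simp [eig, sub_eq_zero]

theorem comm_comm (w : V ⊗[ℂ] V) :
    TensorProduct.comm ℂ V V (TensorProduct.comm ℂ V V w) = w := by
  induction w with
  | zero => simp
  | tmul a b => simp
  | add a b ha hb => simp only [map_add, ha, hb]

theorem char_eig [FiniteDimensional ℂ V] (ρ : Representation ℂ G V) {η : ℂ} (hη : η * η = 1) :
    (eig ρ η).toRepresentation.character = sq2 η ρ.character := by
  ext g
  let P : V ⊗[ℂ] V →ₗ[ℂ] V ⊗[ℂ] V :=
    (2 : ℂ)⁻¹ • (LinearMap.id + η • (TensorProduct.comm ℂ V V).toLinearMap)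
  have hP : ∀ w, P w ∈ (eig ρ η).toSubmodule := fun w => by
    simp only [mem_eig, P, LinearMap.smul_apply, LinearMap.add_apply, LinearMap.id_apply,
      LinearEquiv.coe_coe, map_smul, map_add, comm_comm, smul_add, smul_smul]
    rw [add_comm]
    congr 2
    · ring
    · linear_combination (-2⁻¹) * hη
  have hP' : ∀ w ∈ (eig ρ η).toSubmodule, P w = w := fun w hw => by
    simp only [P, LinearMap.smul_apply, LinearMap.add_apply, LinearMap.id_apply,
      LinearEquiv.coe_coe, mem_eig.1 hw, smul_smul, hη, one_smul]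
    rw [← two_smul ℂ w, smul_smul]; norm_num
  have h1 : ∀ w, ((ρ.tprod ρ) g ∘ₗ P) w ∈ (eig ρ η).toSubmodule := fun w =>
    (eig ρ η).apply_mem_toSubmodule g (hP w)
  have h2 := LinearMap.trace_restrict_eq_of_forall_mem (eig ρ η).toSubmodule _ h1
  have h3 : ((ρ.tprod ρ) g ∘ₗ P).restrict (fun w (_ : w ∈ (eig ρ η).toSubmodule) => h1 w) =
      (eig ρ η).toRepresentation g := by
    ext w
    simp [Subrepresentation.toRepresentation, hP' w w.2]
  rw [Representation.character, ← h3, h2]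
  simp only [P, LinearMap.comp_smul, LinearMap.comp_add, LinearMap.comp_id, map_smul, map_add,
    Representation.tprod_apply, trace_comm, LinearMap.trace_tensorProduct', sq2, Representation.character, map_mul,
    smul_eq_mul]
  ring

theorem isCharacter_sq2 {χ : G → ℂ} (h : IsCharacter G χ) {η : ℂ} (hη : η * η = 1) :
    IsCharacter G (sq2 η χ) := by
  obtain ⟨n, ρ, rfl⟩ := h
  rw [← char_eig ρ hη]
  exact isCharacter_character _

theorem isCharacter_sym2 {χ : G → ℂ} (h : IsCharacter G χ) : IsCharacter G (sq2 1 χ) :=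
  isCharacter_sq2 h (by ring)

theorem isCharacter_alt2 {χ : G → ℂ} (h : IsCharacter G χ) : IsCharacter G (sq2 (-1) χ) :=
  isCharacter_sq2 h (by ring)

/-- The wedge of two vectors. -/
noncomputable def wd (ρ : Representation ℂ G V) (a b : V) : (eig ρ (-1)).toSubmodule :=
  ⟨a ⊗ₜ b - b ⊗ₜ a, by simp [mem_eig]⟩

variable [Fintype G] [FiniteDimensional ℂ V] {ρ : Representation ℂ G V}
variable {W : Type*} [AddCommGroup W] [Module ℂ W] [FiniteDimensional ℂ W]
  {σ : Representation ℂ G W}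

theorem exists_bil (h : classInner σ.character (ρ.character * ρ.character) ≠ 0) :
    ∃ m : V →ₗ[ℂ] V →ₗ[ℂ] W, m ≠ 0 ∧ ∀ g a b, m (ρ g a) (ρ g b) = σ g (m a b) := by
  rw [← char_tensor, classInner_character] at h
  have : Nontrivial (IntertwiningMap (ρ.tprod ρ) σ) :=
    Module.nontrivial_of_finrank_pos (R := ℂ) (Nat.pos_of_ne_zero (by exact_mod_cast h))
  obtain ⟨f, hf⟩ := exists_ne (0 : IntertwiningMap (ρ.tprod ρ) σ)
  refine ⟨TensorProduct.curry f.toLinearMap, fun e => hf (IntertwiningMap.ext ?_), fun g a b => ?_⟩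
  · ext a b
    simpa using LinearMap.congr_fun₂ e a b
  · simpa using f.isIntertwining _ _ g (a ⊗ₜ b)

/-- An equivariant bilinear map restricted to the exterior square. -/
noncomputable def resB {m : V →ₗ[ℂ] V →ₗ[ℂ] W}
    (hm : ∀ g a b, m (ρ g a) (ρ g b) = σ g (m a b)) :
    IntertwiningMap (eig ρ (-1)).toRepresentation σ :=
  ⟨TensorProduct.lift m ∘ₗ (eig ρ (-1)).toSubmodule.subtype, fun g => by
    have key : ∀ w, TensorProduct.lift m (TensorProduct.map (ρ g) (ρ g) w) =
        σ g (TensorProduct.lift m w) := fun w => by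
      induction w with
      | zero => simp
      | tmul a b => simp [hm]
      | add a b ha hb => simp only [map_add, ha, hb]
    ext w; simpa [Subrepresentation.toRepresentation] using key w⟩

omit [Fintype G] [FiniteDimensional ℂ V] [FiniteDimensional ℂ W] in
theorem resB_wd {m : V →ₗ[ℂ] V →ₗ[ℂ] W} (hm : ∀ g a b, m (ρ g a) (ρ g b) = σ g (m a b))
    (a b : V) : resB hm (wd ρ a b) = m a b - m b a := by
  change TensorProduct.lift m (a ⊗ₜ b - b ⊗ₜ a) = _
  simp

theorem bil_comm (h : classInner σ.character (sq2 (-1) ρ.character) = 0)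
    {m : V →ₗ[ℂ] V →ₗ[ℂ] W} (hm : ∀ g a b, m (ρ g a) (ρ g b) = σ g (m a b)) (a b : V) :
    m a b = m b a := by
  rw [← char_eig ρ (by ring), classInner_character] at h
  have h0 : finrank ℂ (IntertwiningMap (eig ρ (-1)).toRepresentation σ) = 0 := by exact_mod_cast h
  have hf : resB hm = 0 := finrank_zero_iff_forall_zero.1 h0 _
  rw [← sub_eq_zero, ← resB_wd hm, hf]
  rfl

theorem bil_dep (h : classInner σ.character (sq2 (-1) ρ.character) = 1)
    {m m' : V →ₗ[ℂ] V →ₗ[ℂ] W} (hm : ∀ g a b, m (ρ g a) (ρ g b) = σ g (m a b))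
    (hm' : ∀ g a b, m' (ρ g a) (ρ g b) = σ g (m' a b)) (h1 : ∃ a b, m' a b ≠ m' b a) :
    ∃ μ : ℂ, ∀ a b, m a b - m b a = μ • (m' a b - m' b a) := by
  rw [← char_eig ρ (by ring), classInner_character] at h
  have h0 : finrank ℂ (IntertwiningMap (eig ρ (-1)).toRepresentation σ) = 1 := by exact_mod_cast h
  have hf : resB hm' ≠ 0 := fun e => by
    obtain ⟨a, b, hab⟩ := h1
    apply hab
    rw [← sub_eq_zero, ← resB_wd hm', e]
    rfl
  obtain ⟨μ, hμ⟩ := (finrank_eq_one_iff_of_nonzero' _ hf).1 h0 (resB hm)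
  exact ⟨μ, fun a b => by rw [← resB_wd hm, ← resB_wd hm', ← hμ]; rfl⟩

/-- Restriction of a bilinear form to the exterior square. -/
noncomputable def resD (ρ : Representation ℂ G V) :
    (V →ₗ[ℂ] V →ₗ[ℂ] ℂ) →ₗ[ℂ] Dual ℂ (eig ρ (-1)).toSubmodule where
  toFun B := TensorProduct.lift B ∘ₗ (eig ρ (-1)).toSubmodule.subtype
  map_add' B C := by
    rw [← LinearMap.add_comp]; congr 1; ext a b; simp
  map_smul' c B := by
    rw [RingHom.id_apply, ← LinearMap.smul_comp]; congr 1; ext a b; simp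

omit [Fintype G] [FiniteDimensional ℂ V] in
theorem resD_wd (B : V →ₗ[ℂ] V →ₗ[ℂ] ℂ) (a b : V) : resD ρ B (wd ρ a b) = B a b - B b a := by
  change TensorProduct.lift B (a ⊗ₜ b - b ⊗ₜ a) = _
  simp

omit [Fintype G] [FiniteDimensional ℂ V] in
theorem resD_inv {F : V →ₗ[ℂ] V →ₗ[ℂ] V →ₗ[ℂ] V →ₗ[ℂ] ℂ}
    (hF : ∀ g a c b d, F (ρ g a) (ρ g c) (ρ g b) (ρ g d) = F a c b d) (g : G) (a c : V) :
    F.compr₂ (resD ρ) (ρ g a) (ρ g c) =
      (eig ρ (-1)).toRepresentation.dual g (F.compr₂ (resD ρ) a c) := by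
  have key : ∀ w, TensorProduct.lift (F (ρ g a) (ρ g c)) w =
      TensorProduct.lift (F a c) (TensorProduct.map (ρ g⁻¹) (ρ g⁻¹) w) := fun w => by
    induction w with
    | zero => simp
    | tmul b d => simp [← hF g a c]
    | add a b ha hb => simp only [map_add, ha, hb]
  ext w
  exact key w

/-- Invariant four-linear forms, alternating in two pairs, are proportional. -/
theorem four_dep (hr : ∀ g, ρ.character g⁻¹ = ρ.character g)
    (h : classInner (sq2 (-1) ρ.character) (sq2 (-1) ρ.character) = 1)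
    {F F' : V →ₗ[ℂ] V →ₗ[ℂ] V →ₗ[ℂ] V →ₗ[ℂ] ℂ}
    (hF : ∀ g a c b d, F (ρ g a) (ρ g c) (ρ g b) (ρ g d) = F a c b d)
    (hF' : ∀ g a c b d, F' (ρ g a) (ρ g c) (ρ g b) (ρ g d) = F' a c b d)
    (h1 : ∃ a c b d, F' a c b d - F' a c d b ≠ F' c a b d - F' c a d b) :
    ∃ μ : ℂ, ∀ a c b d, (F a c b d - F a c d b) - (F c a b d - F c a d b) =
      μ * ((F' a c b d - F' a c d b) - (F' c a b d - F' c a d b)) := by
  have e : (eig ρ (-1)).toRepresentation.dual.character = sq2 (-1) ρ.character := by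
    ext g
    rw [char_dual, char_eig ρ (by ring), sq2, sq2, hr, ← mul_inv_rev, hr]
  obtain ⟨μ, hμ⟩ := bil_dep (e ▸ h) (resD_inv hF) (resD_inv hF') (by
    obtain ⟨a, c, b, d, hne⟩ := h1
    refine ⟨a, c, fun e => hne ?_⟩
    simpa [resD_wd] using LinearMap.congr_fun e (wd ρ b d))
  exact ⟨μ, fun a c b d => by simpa [resD_wd] using LinearMap.congr_fun (hμ a c) (wd ρ b d)⟩

end Cfsg.Agent.H7.PA
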