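import Cfsg.Agent.H7.PermAlg1

/-! An invariant associative algebra structure gives a permutation representation. -/

set_option autoImplicit false

namespace Cfsg.Agent.H7.PA

open Cfsg Cfsg.Agent.H3 Representation Module MulAction
open scoped ComplexConjugate

variable {G : Type*} [Group G] {V : Type*} [AddCommGroup V] [Module ℂ V]

/-- An invariant form and an invariant product satisfying the associativity law. -/
structure Alg (ρ : Representation ℂ G V) where
  B : V →ₗ[ℂ] V →ₗ[ℂ] ℂ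
  m : V →ₗ[ℂ] V →ₗ[ℂ] V
  γ : ℂ
  Bs : ∀ a b, B a b = B b a
  ms : ∀ a b, m a b = m b a
  Bi : ∀ g a b, B (ρ g a) (ρ g b) = B a b
  mi : ∀ g a b, m (ρ g a) (ρ g b) = ρ g (m a b)
  T : ∀ a b c, B (m a b) c = B a (m b c)
  as : ∀ a b c, (γ * B a b) • c + m (m a b) c = (γ * B b c) • a + m a (m b c)
  B0 : B ≠ 0
  m0 : m ≠ 0

namespace Alg

variable {ρ : Representation ℂ G V} (d : Alg ρ)

/-- The algebra. -/
def A (_ : Alg ρ) := ℂ × V

noncomputable instance instACG : AddCommGroup d.A := inferInstanceAs (AddCommGroup (ℂ × V))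

noncomputable instance instMod : Module ℂ d.A := inferInstanceAs (Module ℂ (ℂ × V))

/-- The product. -/
noncomputable def mul (x y : ℂ × V) : ℂ × V :=
  (x.1 * y.1 + d.γ * d.B x.2 y.2, x.1 • y.2 + y.1 • x.2 + d.m x.2 y.2)

theorem mul_comm' (x y : ℂ × V) : d.mul x y = d.mul y x := by
  simp only [mul, d.Bs x.2, d.ms x.2, mul_comm x.1, add_comm (x.1 • y.2)]

theorem mul_add' (x y z : ℂ × V) : d.mul x (y + z) = d.mul x y + d.mul x z := by
  simp only [mul, Prod.fst_add, Prod.snd_add, map_add, Prod.mk_add_mk, Prod.mk.injEq]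
  exact ⟨by ring, by module⟩

theorem mul_assoc' (x y z : ℂ × V) : d.mul (d.mul x y) z = d.mul x (d.mul y z) := by
  simp only [mul, map_add, map_smul, LinearMap.add_apply, LinearMap.smul_apply, Prod.mk.injEq,
    smul_eq_mul, d.T]
  refine ⟨by ring, ?_⟩
  linear_combination (norm := module) d.as x.2 y.2 z.2

theorem mul_one' (x : ℂ × V) : d.mul x (1, 0) = x := by simp [mul]

theorem mul_zero' (x : ℂ × V) : d.mul x 0 = 0 := by simp [mul]

theorem add_mul' (x y z : ℂ × V) : d.mul (x + y) z = d.mul x z + d.mul y z := by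
  rw [d.mul_comm', d.mul_add', d.mul_comm' z, d.mul_comm' z]

noncomputable instance instCR : CommRing d.A :=
  { d.instACG with
    mul := d.mul
    one := ((1 : ℂ), (0 : V))
    mul_assoc := d.mul_assoc'
    mul_comm := d.mul_comm'
    one_mul := fun x => (d.mul_comm' _ _).trans (d.mul_one' x)
    mul_one := d.mul_one'
    left_distrib := d.mul_add'
    right_distrib := d.add_mul'
    zero_mul := fun x => (d.mul_comm' _ _).trans (d.mul_zero' x)
    mul_zero := d.mul_zero' }

theorem smul_mul' (c : ℂ) (x y : ℂ × V) : d.mul (c • x) y = c • d.mul x y := by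
  simp only [mul, Prod.smul_fst, Prod.smul_snd, map_smul, LinearMap.smul_apply, Prod.smul_mk,
    smul_eq_mul, Prod.mk.injEq]
  exact ⟨by ring, by module⟩

noncomputable instance instAlg : Algebra ℂ d.A :=
  Algebra.ofModule d.smul_mul' fun c x y =>
    (d.mul_comm' _ _).trans ((d.smul_mul' c y x).trans (congrArg (c • ·) (d.mul_comm' y x)))

instance instFin [FiniteDimensional ℂ V] : Module.Finite ℂ d.A :=
  inferInstanceAs (Module.Finite ℂ (ℂ × V))

/-- The action on the algebra. -/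
noncomputable def act (g : G) : d.A →ₐ[ℂ] d.A :=
  AlgHom.ofLinearMap (LinearMap.prodMap LinearMap.id (ρ g) : ℂ × V →ₗ[ℂ] ℂ × V)
    (by change ((1 : ℂ), ρ g 0) = ((1 : ℂ), (0 : V)); rw [map_zero])
    fun x y => by
      change ((d.mul x y).1, ρ g (d.mul x y).2) = d.mul (x.1, ρ g x.2) (y.1, ρ g y.2)
      simp only [mul, d.Bi, d.mi, map_add, map_smul]

theorem act_one (x : d.A) : d.act 1 x = x := Prod.ext rfl (LinearMap.congr_fun ρ.map_one x.2)

theorem act_mul (g h : G) (x : d.A) : d.act (g * h) x = d.act g (d.act h x) :=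
  Prod.ext rfl (LinearMap.congr_fun (ρ.map_mul g h) x.2)

/-- The embedding of the space. -/
def ι : V →ₗ[ℂ] d.A := LinearMap.inr ℂ ℂ V

theorem act_ι (g : G) (a : V) : d.act g (d.ι a) = d.ι (ρ g a) := rfl

theorem ι_mul {a b : V} (h : (d.ι a * d.ι b).1 = 0) : d.ι a * d.ι b = d.ι (d.m a b) := by
  refine Prod.ext h ?_
  change (0 : ℂ) • b + (0 : ℂ) • a + d.m a b = d.m a b
  simp

/-- The action on the points of the algebra. -/
@[reducible] noncomputable def actΩ : MulAction G (d.A →ₐ[ℂ] ℂ) where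
  smul g f := f.comp (d.act g⁻¹)
  one_smul f := by
    ext x
    change f (d.act 1⁻¹ x) = f x
    rw [inv_one, act_one]
  mul_smul g h f := by
    ext x
    change f (d.act (g * h)⁻¹ x) = f (d.act h⁻¹ (d.act g⁻¹ x))
    rw [mul_inv_rev, act_mul]

variable [Fintype G] [FiniteDimensional ℂ V]

theorem reduced (hi : ρ.IsIrreducible) (h0 : ∀ v, (∀ g, ρ g v = v) → v = 0) {x : d.A}
    (hx : IsNilpotent x) : x = 0 := by
  obtain ⟨hV, hi⟩ := (isIrreducible_iff ρ).1 hi
  have h1 : ∀ y : d.A, y ∈ nilradical d.A → y.1 = 0 := fun y hy => by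
    have h2 : ∑ g, d.act g y ∈ nilradical d.A :=
      sum_mem fun g _ => mem_nilradical.2 ((mem_nilradical.1 hy).map _)
    have h3 : ∑ g, d.act g y = ((Fintype.card G : ℂ) * y.1) • (1 : d.A) := by
      change ∑ g : G, ((y.1, ρ g y.2) : ℂ × V) =
        ((Fintype.card G : ℂ) * y.1) • (((1 : ℂ), (0 : V)) : ℂ × V)
      rw [← prod_mk_sum, h0 (∑ g, ρ g y.2) fun h => by
        rw [map_sum]
        exact Fintype.sum_equiv (Equiv.mulLeft h) _ _ fun g => by simp]
      simp
    rw [h3, ← Algebra.algebraMap_eq_smul_one, mem_nilradical] at h2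
    have : Nontrivial d.A := inferInstanceAs (Nontrivial (ℂ × V))
    have h4 := ((IsNilpotent.map_iff (algebraMap ℂ d.A).injective).1 h2).eq_zero
    exact (mul_eq_zero.1 h4).resolve_left (by exact_mod_cast Fintype.card_ne_zero)
  let U : Ideal d.A → Submodule ℂ V := fun I => (I.restrictScalars ℂ).comap d.ι
  have mU : ∀ I a, a ∈ U I ↔ d.ι a ∈ I := fun _ _ => Iff.rfl
  rcases hi (U (nilradical d.A)) (fun g v hv =>
    mem_nilradical.2 ((mem_nilradical.1 hv).map (d.act g))) with h | h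
  · have e : d.ι x.2 = x := Prod.ext (h1 x hx).symm rfl
    have : x.2 ∈ U (nilradical d.A) := by
      rw [mU, e]; exact hx
    rw [h, Submodule.mem_bot] at this
    rw [← e, this, map_zero]
  have hS : Submodule.span ℂ {v | ∃ a b, d.m a b = v} = ⊤ := by
    refine (hi _ fun g v hv => ?_).resolve_left fun e => d.m0 ?_
    · refine Submodule.span_induction (fun _ ⟨a, b, e⟩ => Submodule.subset_span
        ⟨ρ g a, ρ g b, by rw [d.mi, e]⟩) (by simp) (fun a b _ _ ha hb => ?_)
        (fun c a _ ha => ?_) hv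
      · rw [map_add]; exact add_mem ha hb
      · rw [map_smul]; exact Submodule.smul_mem _ _ ha
    · ext a b
      exact (Submodule.eq_bot_iff _).1 e _ (Submodule.subset_span ⟨a, b, rfl⟩)
  have hU : ∀ a, a ∈ U (nilradical d.A) := fun a => h ▸ Submodule.mem_top
  have hk : ∀ k, ∀ a, a ∈ U (nilradical d.A ^ (k + 1)) := fun k => by
    induction k with
    | zero => simpa using hU
    | succ k ih =>
      intro v
      refine (Submodule.span_le.2 ?_ : _ ≤ U _) (hS ▸ Submodule.mem_top : v ∈ _)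
      rintro _ ⟨a, b, rfl⟩
      have h5 := Ideal.mul_mem_mul ((mU _ _).1 (ih a)) ((mU _ _).1 (hU b))
      rw [d.ι_mul (h1 _ (Ideal.mul_mem_left _ _ ((mU _ _).1 (hU b)))), ← pow_succ] at h5
      exact (mU _ _).2 h5
  have := IsArtinianRing.of_finite ℂ d.A
  obtain ⟨k, hk0⟩ := IsArtinianRing.isNilpotent_nilradical (R := d.A)
  obtain ⟨a, ha⟩ := exists_ne (0 : V)
  have h7 := (mU _ _).1 (hk k a)
  rw [pow_succ, hk0, zero_mul] at h7
  exact (ha (congrArg Prod.snd (show d.ι a = 0 from Ideal.mem_bot.1 h7))).elim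

theorem exists_pt (hi : ρ.IsIrreducible) (h0 : ∀ v, (∀ g, ρ g v = v) → v = 0) {x : d.A}
    (hx : x ≠ 0) : ∃ f : d.A →ₐ[ℂ] ℂ, f x ≠ 0 := by
  have : ¬ ∀ J : Ideal d.A, J.IsPrime → x ∈ J := fun e =>
    hx (d.reduced hi h0 (nilpotent_iff_mem_prime.2 e))
  push Not at this
  obtain ⟨J, hJ, hxJ⟩ := this
  let e := AlgEquiv.ofBijective (Algebra.ofId ℂ (d.A ⧸ J))
    IsAlgClosed.algebraMap_bijective_of_isIntegral
  refine ⟨e.symm.toAlgHom.comp (Ideal.Quotient.mkₐ ℂ J), fun h => hxJ ?_⟩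
  simpa [Ideal.Quotient.eq_zero_iff_mem] using h

include d in
theorem exists_action (hi : ρ.IsIrreducible) (h0 : ∀ v, (∀ g, ρ g v = v) → v = 0) :
    ∃ φ : G →* Equiv.Perm (Fin (finrank ℂ V + 1)),
      ∀ g, (Nat.card {i // φ g i = i} : ℂ) = 1 + ρ.character g := by
  classical
  have hli := linearIndependent_algHom_toLinearMap ℂ d.A ℂ
  have : Finite (d.A →ₐ[ℂ] ℂ) := hli.finite
  have := Fintype.ofFinite (d.A →ₐ[ℂ] ℂ)
  let ev : d.A →ₗ[ℂ] ((d.A →ₐ[ℂ] ℂ) → ℂ) := LinearMap.pi fun f => f.toLinearMap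
  have hinj : Function.Injective ev := (injective_iff_map_eq_zero ev).2 fun x hx => by
    by_contra h
    obtain ⟨f, hf⟩ := d.exists_pt hi h0 h
    exact hf (congrFun hx f)
  have hA : finrank ℂ d.A = finrank ℂ V + 1 := by
    change finrank ℂ (ℂ × V) = _
    rw [finrank_prod, finrank_self, add_comm]
  have hc : finrank ℂ d.A = finrank ℂ ((d.A →ₐ[ℂ] ℂ) → ℂ) := by
    refine le_antisymm (LinearMap.finrank_le_finrank_of_injective hinj) ?_
    rw [finrank_fintype_fun_eq_card]
    exact hli.fintype_card_le_finrank.trans (Subspace.dual_finrank_eq).le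
  let E := LinearMap.linearEquivOfInjective ev hinj hc
  let _ := d.actΩ
  have hc' : Fintype.card (d.A →ₐ[ℂ] ℂ) = finrank ℂ V + 1 := by
    rw [← hA, hc, finrank_fintype_fun_eq_card]
  let e := Fintype.equivFinOfCardEq hc'
  refine ⟨e.permCongrHom.toMonoidHom.comp (toPermHom G _), fun g => ?_⟩
  have h1 : E.conj (d.act g).toLinearMap = LinearMap.funLeft ℂ ℂ (fun f => g⁻¹ • f) := by
    refine LinearMap.ext fun y => ?_
    obtain ⟨x, rfl⟩ := E.surjective y
    rw [LinearEquiv.conj_apply_apply, E.symm_apply_apply]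
    ext f
    change f (d.act g x) = f (d.act g⁻¹⁻¹ x)
    rw [inv_inv]
  have h2 : LinearMap.trace ℂ d.A (d.act g).toLinearMap = 1 + ρ.character g := by
    change LinearMap.trace ℂ (ℂ × V) (LinearMap.prodMap LinearMap.id (ρ g)) = _
    rw [LinearMap.trace_prodMap', LinearMap.trace_id, finrank_self, Representation.character,
      Nat.cast_one]
  rw [← h2, ← LinearMap.trace_conj' _ E, h1, LinearMap.trace_eq_matrix_trace ℂ (Pi.basisFun ℂ _),
    Matrix.trace, Nat.card_eq_fintype_card, Fintype.card_subtype, Finset.card_filter]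
  push_cast
  refine (Fintype.sum_equiv e _ _ fun f => ?_).symm
  simp [Pi.single_apply, inv_smul_eq_iff, eq_comm (a := f), Equiv.permCongrHom]

end Alg

end Cfsg.Agent.H7.PA
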