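import Cfsg.Agent.H7.PermAlg2

/-! A real irreducible character with irreducible exterior square which occurs in its own square
comes from a triply transitive permutation representation. -/

set_option autoImplicit false

namespace Cfsg.Agent.H7.PA

open Cfsg Cfsg.Agent.H3 Representation Module MulAction
open scoped ComplexConjugate

variable {G : Type*} [Group G] [Fintype G]

omit [Fintype G] in
theorem sq2_one {χ : G → ℂ} {n : ℕ} (hn : χ 1 = n) (η : ℂ) : sq2 η χ 1 = (n * n + η * n) / 2 := by
  rw [sq2, mul_one, hn]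

omit [Fintype G] in
theorem alt_ne {χ : G → ℂ} {n : ℕ} (hn : χ 1 = n) (h3 : 3 < n) :
    χ ≠ sq2 (-1) χ ∧ 1 ≠ sq2 (-1) χ := by
  refine ⟨fun e => ?_, fun e => ?_⟩
  · have h := congrFun e 1
    rw [sq2_one hn, hn] at h
    have : (n : ℂ) * n = 3 * n := by linear_combination (-2) * h
    have : n * n = 3 * n := by exact_mod_cast this
    nlinarith
  · have h := congrFun e 1
    rw [sq2_one hn, Pi.one_apply] at h
    have : (n : ℂ) * n = n + 2 := by linear_combination (-2) * h
    have : n * n = n + 2 := by exact_mod_cast this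
    nlinarith

theorem exists_alg {V : Type*} [AddCommGroup V] [Module ℂ V] [FiniteDimensional ℂ V]
    {ρ : Representation ℂ G V} (hi : ρ.IsIrreducible) (h3 : 3 < finrank ℂ V)
    (hr : ∀ g, ρ.character g⁻¹ = ρ.character g) (hΛ : IsIrrCharacter G (sq2 (-1) ρ.character))
    (hc : classInner ρ.character (ρ.character * ρ.character) ≠ 0) : Nonempty (Alg ρ) := by
  have hχ := isIrrCharacter_character ρ hi
  obtain ⟨n1, n2⟩ := alt_ne (char_one ρ) h3
  have t1 : (Representation.trivial ℂ G ℂ).character = 1 := by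
    ext g; simp [Representation.character]
  obtain ⟨B, B0, Bi⟩ := exists_bil (ρ := ρ) (σ := Representation.trivial ℂ G ℂ) (by
    have h := classInner_irr_self hχ
    rw [t1, ← conj_classInner]
    simp only [classInner, ← char_inv (irr_isCharacter hχ), hr] at h
    simp only [classInner, Pi.mul_apply, Pi.one_apply, map_one, mul_one, h, ne_eq, one_ne_zero,
      not_false_eq_true])
  have Bs := bil_comm (by rw [t1]; exact classInner_irr_ne isIrrCharacter_one' hΛ n2) Bi
  simp only [trivial_apply] at Bi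
  have Bi' : ∀ g a b, B (ρ g a) b = B a (ρ g⁻¹ b) := fun g a b => by
    rw [← Bi g a]; simp
  have hB : Function.Injective B := by
    rw [← LinearMap.ker_eq_bot]
    refine (((isIrreducible_iff ρ).1 hi).2 _ fun g v hv => ?_).resolve_right
      fun e => B0 (LinearMap.ker_eq_top.1 e)
    ext b
    rw [Bi', LinearMap.mem_ker.1 hv]; rfl
  have ext : ∀ {a b}, (∀ c, B a c = B b c) → a = b := fun h => hB (LinearMap.ext h)
  let e : V ≃ₗ[ℂ] Dual ℂ V := LinearMap.linearEquivOfInjective B hB Subspace.dual_finrank_eq.symm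
  have he : ∀ f, B (e.symm f) = f := e.apply_symm_apply
  have hz := classInner_irr_ne hχ hΛ n1
  obtain ⟨m, m0, mi⟩ := exists_bil hc
  have ms := bil_comm hz mi
  let m' : V →ₗ[ℂ] V →ₗ[ℂ] V := (LinearMap.lflip.toLinearMap ∘ₗ m.compr₂ B).compr₂ e.symm.toLinearMap
  have hm' : ∀ a c b, B (m' a c) b = B (m a b) c := fun a c b => by
    simp [m', he]
  have ms' := bil_comm hz (m := m') fun g a c => ext fun b => by
    rw [hm', Bi' g (m' a c), hm', ← Bi g (m a _), ← mi]; simp
  have T : ∀ a b c, B (m a b) c = B a (m b c) := fun a b c => by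
    rw [← hm', ms', hm', Bs, ms]
  obtain ⟨μ, hμ⟩ := four_dep hr (classInner_irr_self hΛ)
    (F := LinearMap.mk₂ ℂ (fun a c => B ∘ₗ m a ∘ₗ m c)
      (by intros; ext; simp) (by intros; ext; simp) (by intros; ext; simp) (by intros; ext; simp))
    (F' := LinearMap.mk₂ ℂ (fun a c => (B c).smulRight (B a))
      (by intros; ext; simp) (by intros; ext; simp; ring)
      (by intros; ext; simp [add_mul]) (by intros; ext; simp; ring))
    (fun g a c b d => by simp [mi, Bi]) (fun g a c b d => by simp [Bi]) (by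
      let β := Module.finBasis ℂ V
      refine ⟨e.symm (β.coord ⟨0, by omega⟩), e.symm (β.coord ⟨1, by omega⟩), β ⟨1, by omega⟩,
        β ⟨0, by omega⟩, ?_⟩
      simp [he]
      norm_num)
  refine ⟨⟨B, m, -μ, Bs, ms, Bi, mi, T, fun a b c => ext fun d => ?_, B0, m0⟩⟩
  have h := hμ a c b d
  simp only [LinearMap.mk₂_apply, LinearMap.comp_apply, LinearMap.smulRight_apply,
    LinearMap.smul_apply, smul_eq_mul] at h
  rw [ms a (m c d), T (m c d), ms c (m a d), T (m a d), ms c (m a b), Bs (m c d), ← T (m a b),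
    Bs (m a d), ms c b, Bs c b] at h
  simp only [map_add, map_smul, LinearMap.add_apply, LinearMap.smul_apply, smul_eq_mul]
  rw [← T (m b c) a d, ms (m b c)] at h
  linear_combination (-2⁻¹) * h

/-- **Lemma A.** -/
theorem exists_perm {χ : G → ℂ} (hχ : IsIrrCharacter G χ) {n : ℕ} (hn : χ 1 = n) (h3 : 3 < n)
    (hr : ∀ g, χ g⁻¹ = χ g) (hΛ : IsIrrCharacter G (sq2 (-1) χ))
    (hc : classInner (χ * χ) χ ≠ 0) :
    ∃ φ : G →* Equiv.Perm (Fin (n + 1)), ∀ g, (Nat.card {i // φ g i = i} : ℂ) = 1 + χ g := by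
  obtain ⟨k, ρ, hi, rfl⟩ := hχ
  rw [char_one, Nat.cast_inj] at hn
  subst hn
  obtain ⟨d⟩ := exists_alg hi h3 hr hΛ (by rw [← conj_classInner]; simpa using hc)
  refine d.exists_action hi fun v hv => ?_
  rcases ((isIrreducible_iff ρ).1 hi).2 (Submodule.span ℂ {v}) (fun g w hw => by
    obtain ⟨c, rfl⟩ := Submodule.mem_span_singleton.1 hw
    rw [map_smul, hv]; exact hw) with h | h
  · exact Submodule.span_singleton_eq_bot.1 h
  · have := finrank_span_le_card (R := ℂ) ({v} : Set _)
    rw [h, finrank_top] at this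
    simp only [Set.toFinset_singleton, Finset.card_singleton] at this
    omega

end Cfsg.Agent.H7.PA
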