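import Cfsg.Agent.H7.Q4Psi

/-! The cases D and E. -/

set_option autoImplicit false
set_option linter.unusedSectionVars false

namespace Cfsg.Agent.H7.Q4

open Cfsg Cfsg.Agent.H3 Cfsg.Agent.H3.GA Finset
open scoped Classical ComplexOrder ComplexConjugate

variable {G : Type*} [Group G] [Fintype G] {q : ℕ} [NeZero q] {D : Dt G q}
  {e : Fin 3 → A G} {f : Fin 3 → ℕ} {c : Fin 3 → ZMod q → ℕ}

namespace Tri

variable (T : Tri D e f c) (h : Sy0 D)
include T h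

theorem c_sum {j : ZMod q} (hj : j ≠ 0) : c 0 j + c 1 j + c 2 j = 4 := by
  rw [← (T.pj 0).ccn, ← (T.pj 1).ccn, ← (T.pj 2).ccn, ← h.c_L j, ← sum_add_distrib,
    ← sum_add_distrib]
  refine sum_congr rfl fun η _ => ?_
  rw [T.rk_L h]
  by_cases e1 : η = D.one
  · simp [e1, h.al_one, hj]
  by_cases e2 : η = D.χ
  · simp [e2, h.al_χ]
  rw [h.rk_e0 e1 e2]; ring

theorem X_ne {η : IrrCharacter G} (hη : IsX D η) : η ≠ D.one := fun e => by
  have := hη.2 0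
  simp [e, h.al_one] at this

theorem c_of_four {ψ : IrrCharacter G} {j : ZMod q} (h1 : D.al ψ j = 1) (h4 : rk ψ D.eL = 4)
    (i : Fin 3) : c i j = rk ψ (e i) := by
  rw [← (T.pj i).ccn, Fintype.sum_eq_single ψ fun η hη => ?_, h1, one_mul]
  have := two_le_sum (h.c_L j) hη
  simp only [h1, h4] at this
  rcases mul_eq_zero.1 (show D.al η j * rk η D.eL = 0 by omega) with e1 | e1
  · simp [e1]
  · have := T.rk_L h η
    have : rk η (e i) = 0 := by fin_cases i <;> simp <;> omega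
    simp [this]

theorem f_eq (i : Fin 3) {a : ℕ} (ha : ∀ j, j ≠ 0 → c i j = a) :
    (f i : ℝ) = c i 0 + (q - 1) * a := by
  rw [← (T.pj i).fsum, Nat.cast_sum, sum_zmod _ fun j hj => by rw [ha j hj]]

theorem noX (hno : ∀ η, IsX D η → rk η D.eL = 0) : ∃ ψ η, IsΨ D e ψ ∧
    (∀ j, j ≠ 0 → D.al ψ j = 1) ∧ d ψ = (4 * q + 1) * (q - 1) - 4 * q ∧ η ≠ ψ ∧ η ≠ D.χ ∧
    η ≠ D.one ∧ d η = 4 * q + 1 ∧ rk η (D.sg 1) = 1 ∧
    ∀ i k, i ≠ k → d ψ * r ψ (e i * D.τ * e k * D.τ) + d η * r η (e i * D.τ * e k * D.τ) =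
      f i * f k := by
  obtain ⟨η, h1, h2, h3, h4, h5, h6⟩ := T.sym_bal h
  have h7 : ∀ η, IsX D η → rk η (D.sg 1) = 0 := fun η hη => by
    have := h.rk_sg η
    have := hno η hη
    omega
  rw [sum_eq_zero fun η hη => h7 η (mem_filter.1 hη).2] at h6
  have h8 := h.δ_T h1 (h.pr_sg (Or.inl rfl)) (by omega)
    (by rw [Fintype.sum_eq_single 0 h3, h2])
  have h9 : #{η | IsΨ D e η} = 1 := by omega
  obtain ⟨ψ, hψ⟩ := card_eq_one.1 h9
  have h10 : ∀ η, IsΨ D e η ↔ η = ψ := fun η => by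
    rw [← mem_singleton, ← hψ]; simp
  have h11 := (h10 ψ).2 rfl
  have h12 : η ≠ ψ := fun e => by have := T.Ψ_al0 h h11; rw [← e] at this; omega
  have h13 : η ≠ D.χ := fun e => by rw [e, h.al_χ] at h2; omega
  refine ⟨ψ, η, h11, fun j hj => ?_, ?_, h12, h13, h1, (h8.resolve_right (by omega)).2, h4,
    fun i k hik => ?_⟩
  · have := T.Ψ_sum h hj
    rwa [hψ, sum_singleton] at this
  · have := T.Ψ_deg h
    rw [h9, hψ, sum_singleton] at this
    simpa using this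
  · rw [← T.cross h hik]
    symm
    refine sum_eq_add_of_mem ψ η (mem_erase.2 ⟨(T.Ψ_ne h h11).1, mem_univ _⟩)
      (mem_erase.2 ⟨h13, mem_univ _⟩) h12.symm fun η' e1 e2 => ?_
    by_cases e3 : η' = D.one
    · rw [e3, mul_assoc, mul_assoc, rz _ (T.pr i).idem (h.rk_one (T.pr i) (T.pj i).e0e), mul_zero]
    have e4 : rk η' (D.sg 1) = 0 := by
      by_cases e5 : IsX D η'
      · exact h7 _ e5
      · exact h5 η' e3 (mem_erase.1 e1).1 e2.2 (fun e => e2.1 ((h10 _).1 e)) e5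
    rw [r, h.cross_zero (Or.inl rfl) e4 (T.pr i) (T.pr k) (T.orth i k hik)]; simp

theorem cross_eq {s : ℂ} (hs : s = 1 ∨ s = -1) {η : IrrCharacter G} (h1 : rk η (D.sg s) = 1)
    {i k : Fin 3} (hik : i ≠ k) :
    r η (e i * D.τ * e k * D.τ) = 4 * r η (D.sg s * e i) * r η (D.sg s * e k) :=
  h.r_cross hs h1 (T.pr i) (T.pr k) (T.orth i k hik) (T.orth k i hik.symm)

end Tri

theorem notE (h : Sy D) (T : Tri D e f c) (hc : ∀ i, c i 0 = 1) (hf : ∀ i k, f i = f k)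
    (sym : ∀ η i k, (∀ j, D.al η j = 0) → t η (e i) = t η (e k)) : False := by
  have h' := h.toSy0
  haveI := Fact.mk h.hq
  have hno : ∀ η, IsX D η → rk η D.eL = 0 := fun η hη => by
    have h1 := T.c_sum h' (h.wt_ne η)
    obtain ⟨i, hi⟩ : ∃ i, c i (D.wt η) = 1 := by
      have := T.pos 0 _ (h.wt_ne η)
      have := T.pos 1 _ (h.wt_ne η)
      by_cases e1 : c 0 (D.wt η) = 1
      · exact ⟨0, e1⟩
      · have := T.pos 2 _ (h.wt_ne η)
        exact ⟨1, by omega⟩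
    have h2 : ∀ k, rk η (e k) = 0 := fun k => by_contra fun e1 =>
      (T.pj k).t_ne.2 e1 ((sym η k i hη.2).trans ((T.pj i).lχ' η hη.1 hη.2 hi))
    rw [T.rk_L h', h'.rk_e0 (T.X_ne h' hη) hη.1, h2, h2, h2]
  obtain ⟨ψ, η, h1, h2, h3, h4, h5, h6, h7, h8, h9⟩ := T.noX h' hno
  have hq := h.q_pos
  have hv := T.rk_L h' ψ
  rw [h'.rk_e0 (T.Ψ_ne h' h1).2 (T.Ψ_ne h' h1).1] at hv
  have hv3 : rk ψ D.eL = 3 := by
    obtain ⟨ψ', e1, e2, e3, e4⟩ := T.Ψ_ex h' (j := 1) one_ne_zero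
    have e5 : ψ = ψ' := by_contra fun e5 => by
      have := (e4 ψ e5).1
      rw [h2 1 one_ne_zero, h1.2.2.1] at this
      omega
    have := T.Ψ_v h' h1
    by_contra e6
    have e7 : rk ψ D.eL = 4 := by rw [← e5] at e3; omega
    have e8 := fun i => T.f_eq h' i fun j hj => T.c_of_four h' (h2 j hj) e7 i
    have e9 : ∀ i k, rk ψ (e i) = rk ψ (e k) := fun i k => by
      have a1 := e8 i
      rw [hf i k, e8 k, hc, hc, add_right_inj] at a1
      exact_mod_cast (mul_left_cancel₀ (by linarith) a1).symm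
    have := e9 0 1
    have := e9 0 2
    omega
  have hm : rk ψ (D.sg (-1)) = 1 := by have := h'.rk_sg ψ; have := h1.2.2.1; omega
  have hs : (f 0 : ℝ) + f 1 + f 2 = 4 * q - 1 := by
    rw [← (T.pj 0).fsum, ← (T.pj 1).fsum, ← (T.pj 2).fsum]
    push_cast
    rw [← sum_add_distrib, ← sum_add_distrib, sum_zmod _ (a := 4) fun j hj => by
      exact_mod_cast T.c_sum h' hj, hc, hc, hc]
    push_cast; ring
  have a1 := h9 0 1 (by decide)
  have a2 := h9 0 2 (by decide)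
  have a3 := h9 1 2 (by decide)
  rw [T.cross_eq h' (Or.inr rfl) hm (by decide), T.cross_eq h' (Or.inl rfl) h8 (by decide),
    h3, h7] at a1 a2 a3
  have b1 := T.p_sum h' (Or.inr rfl) (T.Ψ_ne h' h1).2 (T.Ψ_ne h' h1).1
  have b2 := T.p_sum h' (Or.inl rfl) h6 h5
  rw [hm] at b1
  rw [h8] at b2
  rw [hf 1 0, hf 2 0] at *
  generalize r ψ (D.sg (-1) * e 0) = x0 at *
  generalize r ψ (D.sg (-1) * e 1) = x1 at *
  generalize r ψ (D.sg (-1) * e 2) = x2 at *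
  generalize r η (D.sg 1 * e 0) = y0 at *
  generalize r η (D.sg 1 * e 1) = y1 at *
  generalize r η (D.sg 1 * e 2) = y2 at *
  push_cast at b1 b2
  have c1 : x0 * x1 + x0 * x2 + x1 * x2 ≤ 1 / 3 := by
    nlinarith [sq_nonneg (x0 - x1), sq_nonneg (x0 - x2), sq_nonneg (x1 - x2)]
  have c2 : y0 * y1 + y0 * y2 + y1 * y2 ≤ 1 / 3 := by
    nlinarith [sq_nonneg (y0 - y1), sq_nonneg (y0 - y2), sq_nonneg (y1 - y2)]
  have c3 : (0 : ℝ) ≤ (4 * q + 1) * (q - 1) - 4 * q := by nlinarith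
  have c4 := mul_le_mul_of_nonneg_left c1 c3
  have c5 := mul_le_mul_of_nonneg_left c2 (show (0 : ℝ) ≤ 4 * q + 1 by linarith)
  have c6 : (f 0 : ℝ) = (4 * q - 1) / 3 := by linarith
  rw [c6] at a1 a2 a3
  nlinarith

theorem notD (h : Sy D) (T : Tri D e f c) (hc : ∀ j, c 0 j = 1) (hc1 : c 1 0 = 1)
    (hc2 : c 2 0 = 1) (hf : f 1 = f 2)
    (sym : ∀ η, (∀ j, D.al η j = 0) → η ≠ D.χ → t η (e 1) = t η (e 2)) : False := by
  have h' := h.toSy0
  haveI := Fact.mk h.hq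
  have hno : ∀ η, IsX D η → rk η D.eL = 0 := fun η hη => by
    have h1 := T.c_sum h' (h.wt_ne η)
    have h0 : rk η (e 0) = 0 := by_contra fun e1 =>
      (T.pj 0).t_ne.2 e1 ((T.pj 0).lχ' η hη.1 hη.2 (hc _))
    have h2 : t η (e 1) = 0 := by
      have := T.pos 1 _ (h.wt_ne η)
      have := T.pos 2 _ (h.wt_ne η)
      have := hc (D.wt η)
      by_cases e1 : c 1 (D.wt η) = 1
      · exact (T.pj 1).lχ' η hη.1 hη.2 e1
      · exact (sym η hη.2 hη.1).trans ((T.pj 2).lχ' η hη.1 hη.2 (by omega))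
    have h3 : rk η (e 1) = 0 := by_contra fun e1 => (T.pj 1).t_ne.2 e1 h2
    have h4 : rk η (e 2) = 0 := by_contra fun e1 =>
      (T.pj 2).t_ne.2 e1 ((sym η hη.2 hη.1).symm.trans h2)
    rw [T.rk_L h', h'.rk_e0 (T.X_ne h' hη) hη.1, h0, h3, h4]
  obtain ⟨ψ, η, h1, h2, h3, h4, h5, h6, h7, h8, h9⟩ := T.noX h' hno
  have hq := h.q_pos
  have hv := T.rk_L h' ψ
  rw [h'.rk_e0 (T.Ψ_ne h' h1).2 (T.Ψ_ne h' h1).1] at hv
  have hr0 : rk ψ (e 0) = 1 := by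
    have := (T.pj 0).le_c ψ 1
    rw [h2 1 one_ne_zero, hc] at this
    have := h1.2.1 0
    omega
  have hv3 : rk ψ D.eL = 3 := by
    obtain ⟨ψ', e1, e2, e3, e4⟩ := T.Ψ_ex h' (j := 1) one_ne_zero
    have e5 : ψ = ψ' := by_contra fun e5 => by
      have := (e4 ψ e5).1
      rw [h2 1 one_ne_zero, h1.2.2.1] at this
      omega
    have := T.Ψ_v h' h1
    by_contra e6
    have e7 : rk ψ D.eL = 4 := by rw [← e5] at e3; omega
    have e8 := fun i => T.f_eq h' i fun j hj => T.c_of_four h' (h2 j hj) e7 i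
    have a1 := e8 1
    rw [hf, e8 2, hc1, hc2, add_right_inj] at a1
    have : rk ψ (e 2) = rk ψ (e 1) := by exact_mod_cast mul_left_cancel₀ (by linarith) a1
    omega
  have hm : rk ψ (D.sg (-1)) = 1 := by have := h'.rk_sg ψ; have := h1.2.2.1; omega
  have hf0 : (f 0 : ℝ) = q := by rw [T.f_eq h' 0 fun j _ => hc j, hc]; push_cast; ring
  have hs : (f 0 : ℝ) + f 1 + f 2 = 4 * q - 1 := by
    rw [← (T.pj 0).fsum, ← (T.pj 1).fsum, ← (T.pj 2).fsum]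
    push_cast
    rw [← sum_add_distrib, ← sum_add_distrib, sum_zmod _ (a := 4) fun j hj => by
      exact_mod_cast T.c_sum h' hj, hc, hc1, hc2]
    push_cast; ring
  have a3 := h9 1 2 (by decide)
  rw [T.cross_eq h' (Or.inr rfl) hm (by decide), T.cross_eq h' (Or.inl rfl) h8 (by decide),
    h3, h7, hf] at a3
  have b1 := T.p_sum h' (Or.inr rfl) (T.Ψ_ne h' h1).2 (T.Ψ_ne h' h1).1
  have b2 := T.p_sum h' (Or.inl rfl) h6 h5
  have b3 := (Sy0.t_pp η (h'.pr_sg (Or.inl rfl)) (T.pr 0)).2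
  have b4 := (Sy0.t_pp η (h'.pr_sg (Or.inl rfl)) (T.pr 1)).2
  have b5 := (Sy0.t_pp η (h'.pr_sg (Or.inl rfl)) (T.pr 2)).2
  rw [hm] at b1
  rw [h8] at b2
  have b6 : d ψ * (r ψ (e 0 * D.τ * e 0 * D.τ) + 2 * r ψ (e 0 * D.τ) + rk ψ (e 0)) ≤
      ∑ η ∈ univ.erase D.χ,
        d η * (r η (e 0 * D.τ * e 0 * D.τ) + 2 * r η (e 0 * D.τ) + rk η (e 0)) :=
    single_le_sum (f := fun η => d η * (r η (e 0 * D.τ * e 0 * D.τ) + 2 * r η (e 0 * D.τ) +
      rk η (e 0))) (fun η _ => mul_nonneg (d_nonneg η) (h'.r_low η (T.pr 0)))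
      (by simpa using (T.Ψ_ne h' h1).1)
  simp only [mul_add, sum_add_distrib, mul_left_comm _ (2 : ℝ), ← mul_sum] at b6
  have b7 := h'.r_diag (s := -1) (Or.inr rfl) ψ (T.pr 0)
  rw [T.first h', T.second h', T.zeroth h', h'.r_sq (T.pr 0) hr0, b7, hr0, h3, hf0] at b6
  rw [hf] at hs
  push_cast at b1 b2 b6
  generalize r ψ (D.sg (-1) * e 0) = x0 at *
  generalize r ψ (D.sg (-1) * e 1) = x1 at *
  generalize r ψ (D.sg (-1) * e 2) = x2 at *
  generalize r η (D.sg 1 * e 0) = y0 at *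
  generalize r η (D.sg 1 * e 1) = y1 at *
  generalize r η (D.sg 1 * e 2) = y2 at *
  have c1 : 4 * x1 * x2 ≤ (1 - x0) ^ 2 := by
    rw [show 1 - x0 = x1 + x2 by linarith]; nlinarith [sq_nonneg (x1 - x2)]
  have c2 : 4 * y1 * y2 ≤ 1 := by nlinarith [sq_nonneg (y1 - y2)]
  have c3 : (0 : ℝ) ≤ (4 * q + 1) * (q - 1) - 4 * q := by nlinarith
  have c4 := mul_le_mul_of_nonneg_left c1 c3
  have c5 := mul_le_mul_of_nonneg_left c2 (show (0 : ℝ) ≤ 4 * q + 1 by linarith)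
  have c6 : (f 2 : ℝ) = (3 * q - 1) / 2 := by linarith
  rw [c6] at a3
  nlinarith

end Cfsg.Agent.H7.Q4
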