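import Cfsg.Agent.H7.Q4Tri
import Cfsg.Agent.H7.Q4Th7

/-! Three real constituents: the neighbours of `χ`. -/

set_option autoImplicit false
set_option linter.unusedSectionVars false

namespace Cfsg.Agent.H7.Q4

open Cfsg Cfsg.Agent.H3 Cfsg.Agent.H3.GA Finset
open scoped Classical ComplexOrder ComplexConjugate

variable {G : Type*} [Group G] [Fintype G] {q : ℕ} [NeZero q] {D : Dt G q}

theorem two_le_sum {ι : Type*} [Fintype ι] {F : ι → ℕ} {n : ℕ} (h : ∑ i, F i = n) {a b : ι}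
    (hab : a ≠ b) : F a + F b ≤ n :=
  h ▸ add_le_sum (fun _ _ => Nat.zero_le _) (mem_univ a) (mem_univ b) hab

/-- neighbours of `χ` -/
def IsΨ (D : Dt G q) (e : Fin 3 → A G) (η : IrrCharacter G) : Prop :=
  D.δ η = 1 ∧ (∀ i, rk η (e i) ≠ 0) ∧ rk η (D.sg 1) = 2 ∧ ∃ j, j ≠ 0 ∧ D.al η j ≠ 0

/-- characters without fixed vectors -/
def IsX (D : Dt G q) (η : IrrCharacter G) : Prop := η ≠ D.χ ∧ ∀ j, D.al η j = 0

namespace Sy0

variable (h : Sy0 D)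
include h

theorem δ_X {η : IrrCharacter G} (hη : IsX D η) {e : A G} (he : Pr D e) :
    D.δ η * rk η e = -rk η e := by
  by_cases h0 : rk η e = 0
  · simp [h0]
  have h1 := h.d_eq he h0
  have h2 := h.d_one_le η
  have h3 := h.q_pos
  simp only [hη.2, Nat.cast_zero, sum_const_zero] at h1
  rcases h.δ_mem η with e | e | e <;> rw [e] at h1 ⊢ <;> push_cast at h1
  · linarith
  · linarith
  · simp

theorem δ_T {η : IrrCharacter G} (h1 : η ≠ D.one) {e : A G} (he : Pr D e) (h0 : rk η e ≠ 0)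
    (h2 : ∑ j, D.al η j = 1) : (D.δ η = 0 ∧ d η = 4 * q + 1) ∨ (D.δ η = -1 ∧ d η = 8 * q + 1) := by
  have h3 := h.d_eq he h0
  rw [← Nat.cast_sum, h2] at h3
  rcases h.δ_mem η with e | e | e <;> rw [e] at h3 <;> push_cast at h3
  · exact Or.inl ⟨e, by linarith⟩
  · exact absurd (by rw [dg_eq, show d η = 1 by linarith]; simp) (h.dg_ne η h1)
  · exact Or.inr ⟨e, by linarith⟩

theorem exists_plus : ∃ η, η ≠ D.one ∧ D.al η 0 = 1 ∧ rk η (D.sg 1) = 1 ∧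
    ∀ η', η' ≠ D.one → η' ≠ η → D.al η' 0 * rk η' (D.sg 1) = 0 := by
  have h1 := h.c_sg (Or.inl rfl) 0
  have h2 : ∑ η, (if η = D.one then 0 else D.al η 0 * rk η (D.sg 1)) = 1 := by
    rw [← add_sum_erase _ _ (mem_univ D.one)] at h1 ⊢
    rw [h.al_one, h.rk_one_p] at h1
    rw [if_pos rfl, sum_congr rfl fun η hη => if_neg (mem_erase.1 hη).1]
    simp at h1 ⊢
    omega
  obtain ⟨η, h3, h4⟩ := exists_one h2
  have h5 : η ≠ D.one := fun e => by simp [e] at h3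
  rw [if_neg h5] at h3
  exact ⟨η, h5, Nat.eq_one_of_mul_eq_one_right h3, Nat.eq_one_of_mul_eq_one_left h3,
    fun η' e1 e2 => by simpa [e1] using h4 η' e2⟩

end Sy0

variable {e : Fin 3 → A G} {f : Fin 3 → ℕ} {c : Fin 3 → ZMod q → ℕ}

namespace Tri

variable (T : Tri D e f c) (h : Sy0 D)
include T h

theorem Ψ_ne {ψ : IrrCharacter G} (hψ : IsΨ D e ψ) : ψ ≠ D.χ ∧ ψ ≠ D.one :=
  ⟨fun e => by have := hψ.1; rw [e, h.δ_χ] at this; omega,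
    fun e => hψ.2.1 0 (e ▸ h.rk_one (T.pr 0) (T.pj 0).e0e)⟩

theorem Ψ_al0 {ψ : IrrCharacter G} (hψ : IsΨ D e ψ) : D.al ψ 0 = 0 := by
  have := two_le_sum (h.c_sg (Or.inl rfl) 0) (T.Ψ_ne h hψ).2
  simp only [h.al_one, h.rk_one_p, hψ.2.2.1, if_true] at this
  omega

theorem Ψ_v {ψ : IrrCharacter G} (hψ : IsΨ D e ψ) : 3 ≤ rk ψ D.eL := by
  have := T.rk_L h ψ
  have h0 := hψ.2.1 0
  have h1 := hψ.2.1 1
  have h2 := hψ.2.1 2
  omega

theorem Ψ_ex {j : ZMod q} (hj : j ≠ 0) : ∃ ψ, IsΨ D e ψ ∧ D.al ψ j = 1 ∧ rk ψ D.eL ≤ 4 ∧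
    ∀ η, η ≠ ψ → D.al η j * rk η (D.sg 1) = 0 ∧ D.al η j * rk η D.eL + rk ψ D.eL ≤ 4 := by
  obtain ⟨ψ, h1, h2, h3, h4⟩ := T.lψ j hj
  have h5 : rk ψ (D.sg 1) = 2 := by
    rw [rk_spec _ (h.pr_sg (Or.inl rfl)).idem] at h4
    exact_mod_cast h4
  have h6 : D.al ψ j * rk ψ (D.sg 1) ≤ 2 := h.c_sg (Or.inl rfl) j ▸
    single_le_sum (f := fun η => D.al η j * rk η (D.sg 1)) (fun _ _ => Nat.zero_le _) (mem_univ ψ)
  have h7 : D.al ψ j = 1 := by rw [h5] at h6; omega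
  have h8 : D.al ψ j * rk ψ D.eL ≤ 4 := h.c_L j ▸
    single_le_sum (f := fun η => D.al η j * rk η D.eL) (fun _ _ => Nat.zero_le _) (mem_univ ψ)
  refine ⟨ψ, ⟨h2, fun i => (T.pj i).t_ne.1 (h3 i), h5, j, hj, h1⟩, h7, by rwa [h7, one_mul] at h8,
    fun η hη => ?_⟩
  have e1 := two_le_sum (h.c_sg (Or.inl rfl) j) hη
  have e2 := two_le_sum (h.c_L j) hη
  simp only [h5, h7] at e1 e2
  omega

theorem not_Ψ {η : IrrCharacter G} (hη : ¬ IsΨ D e η) {j : ZMod q} (hj : j ≠ 0)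
    (h1 : D.al η j ≠ 0) : rk η (D.sg 1) = 0 ∧ rk η D.eL ≤ 1 := by
  obtain ⟨ψ, h2, -, -, h3⟩ := T.Ψ_ex h hj
  obtain ⟨h4, h5⟩ := h3 η fun e => hη (e ▸ h2)
  have := T.Ψ_v h h2
  have := Nat.le_mul_of_pos_left (rk η D.eL) (Nat.pos_of_ne_zero h1)
  exact ⟨(mul_eq_zero.1 h4).resolve_left h1, by omega⟩

theorem Ψ_sum {j : ZMod q} (hj : j ≠ 0) : ∑ η with IsΨ D e η, D.al η j = 1 := by
  obtain ⟨ψ, h2, h3, -, h4⟩ := T.Ψ_ex h hj
  rw [sum_eq_single_of_mem ψ (by simpa using h2) fun η hη e1 => ?_, h3]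
  have := (h4 η e1).1
  rw [(mem_filter.1 hη).2.2.2.1] at this
  omega

theorem Ψ_deg : ∑ η with IsΨ D e η, d η =
    (4 * q + 1) * (q - 1) - 4 * q * #{η | IsΨ D e η} := by
  rw [sum_congr rfl fun η hη => h.d_eq (T.pr 0) ((mem_filter.1 hη).2.2.1 0), sum_sub_distrib,
    ← mul_sum, ← mul_sum, sum_comm, sum_zmod _ (a := 1) fun j hj => by
      exact_mod_cast T.Ψ_sum h hj, sum_eq_zero fun η hη => by
      rw [T.Ψ_al0 h (mem_filter.1 hη).2, Nat.cast_zero],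
    sum_congr rfl fun η hη => by rw [(mem_filter.1 hη).2.1]]
  simp

/-- the balance in the symmetric part. -/
theorem sym_bal : ∃ η, η ≠ D.one ∧ D.al η 0 = 1 ∧ (∀ j, j ≠ 0 → D.al η j = 0) ∧
    rk η (D.sg 1) = 1 ∧
    (∀ η', η' ≠ D.one → η' ≠ D.χ → η' ≠ η → ¬ IsΨ D e η' → ¬ IsX D η' → rk η' (D.sg 1) = 0) ∧
    (2 * #{η | IsΨ D e η} - 2 + D.δ η : ℤ) = ∑ η with IsX D η, rk η (D.sg 1) := by
  obtain ⟨η, h1, h2, h3, h4⟩ := h.exists_plus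
  have h5 : ¬ IsΨ D e η := fun e => by have := T.Ψ_al0 h e; omega
  have h6 : ∀ η', η' ≠ D.one → η' ≠ D.χ → η' ≠ η → ¬ IsΨ D e η' → ¬ IsX D η' →
      rk η' (D.sg 1) = 0 := fun η' e1 e2 e3 e4 e5 => by
    obtain ⟨j, hj⟩ := not_forall.1 fun e => e5 ⟨e2, e⟩
    by_cases e6 : j = 0
    · exact (mul_eq_zero.1 (h4 η' e1 e3)).resolve_left (e6 ▸ hj)
    · exact (T.not_Ψ h e4 e6 hj).1
  refine ⟨η, h1, h2, fun j hj => by_contra fun e => by have := (T.not_Ψ h h5 hj e).1; omega,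
    h3, h6, ?_⟩
  have h7 : η ≠ D.χ := fun e => by rw [e, h.al_χ] at h2; omega
  have h8 := h.b_sg (Or.inl rfl)
  rw [sum_congr rfl (g := fun η' => (if η' = D.one then 1 else 0) + (if η' = D.χ then -3 else 0) +
    (if η' = η then D.δ η else 0) + (if IsΨ D e η' then 2 else 0) -
    (if IsX D η' then (rk η' (D.sg 1) : ℤ) else 0)) fun η' _ => ?_] at h8
  · simp only [sum_sub_distrib, sum_add_distrib, sum_ite_eq', mem_univ, if_true, ← sum_filter,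
      sum_const, nsmul_eq_mul] at h8
    push_cast
    linarith
  have x1 : ¬ IsX D D.one := fun e => by have := e.2 0; simp [h.al_one] at this
  have x2 : ¬ IsX D η := fun e => by have := e.2 0; omega
  by_cases e1 : η' = D.one
  · have : ¬ IsΨ D e D.one := fun e => (T.Ψ_ne h e).2 rfl
    simp [e1, h.one_ne, h1.symm, this, x1, h.δ_one, h.rk_one_p]
  by_cases e2 : η' = D.χ
  · have : ¬ IsΨ D e D.χ := fun e => (T.Ψ_ne h e).1 rfl
    simp [e2, h.one_ne.symm, h7.symm, this, IsX, h.δ_χ, T.rkχp h]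
  by_cases e3 : η' = η
  · simp [e3, h1, h7, h5, x2, h3]
  by_cases e4 : IsΨ D e η'
  · have : ¬ IsX D η' := fun e => by obtain ⟨j, -, hj⟩ := e4.2.2.2; exact hj (e.2 j)
    simp [e1, e2, e3, e4, this, e4.1, e4.2.2.1]
  by_cases e5 : IsX D η'
  · simp [e1, e2, e3, e4, e5, h.δ_X e5 (h.pr_sg (Or.inl rfl))]
  · simp [e1, e2, e3, e4, e5, h6 η' e1 e2 e3 e4 e5]

theorem Ψ_pos : 1 ≤ #{η | IsΨ D e η} := by
  haveI := Fact.mk h.hq
  obtain ⟨ψ, h1, -⟩ := T.Ψ_ex h (j := 1) one_ne_zero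
  exact card_pos.2 ⟨ψ, by simpa using h1⟩

theorem p_sum {s : ℂ} (hs : s = 1 ∨ s = -1) {η : IrrCharacter G} (h1 : η ≠ D.one)
    (h2 : η ≠ D.χ) : r η (D.sg s * e 0) + r η (D.sg s * e 1) + r η (D.sg s * e 2) =
      rk η (D.sg s) := by
  have := T.r_sum h η (D.sg s)
  rw [(h.pr_sg hs).eL, r_rk _ (h.pr_sg hs).idem, rc η _ D.e0, rz η h.e0_idem (h.rk_e0 h1 h2)]
    at this
  linarith

end Tri

end Cfsg.Agent.H7.Q4
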