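import Cfsg.Agent.H7.ThompsonWielandt

/-!
The Tutte–Sims argument for amalgams of index three: construction of the generating system.
-/

set_option autoImplicit false

namespace Cfsg.Agent.H7

open Subgroup MulAction
open scoped Pointwise

variable {G : Type*} [Group G]

theorem le_of_relIndex_prime {A H M : Subgroup G} (hA : A ≤ H) (hp : (A.relIndex H).Prime)
    (h1 : A ≤ M) {x : G} (hx : x ∈ H) (hxA : x ∉ A) (hxM : x ∈ M) : H ≤ M := by
  have h2 := relIndex_mul_relIndex A (M ⊓ H) H (le_inf h1 hA) inf_le_right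
  rcases (Nat.dvd_prime hp).1 (Dvd.intro _ h2) with h3 | h3
  · exact (hxA (relIndex_eq_one.1 h3 ⟨hxM, hx⟩)).elim
  · rw [h3] at h2
    have h4 := (Nat.mul_eq_left hp.ne_zero).1 h2
    exact (relIndex_eq_one.1 h4).trans inf_le_left

theorem mul_mem_iff_of_relIndex_two {A H : Subgroup G} (h : A.relIndex H = 2) {x y : G}
    (hx : x ∈ H) (hy : y ∈ H) : x * y ∈ A ↔ (x ∈ A ↔ y ∈ A) :=
  mul_mem_iff_of_index_two (H := A.subgroupOf H) h (a := ⟨x, hx⟩) (b := ⟨y, hy⟩)

theorem normalIn_of_relIndex_two {A H : Subgroup G} (hA : A ≤ H) (h : A.relIndex H = 2) :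
    NormalIn A H :=
  NormalIn.iff_subgroupOf.2 ⟨hA, normal_of_index_eq_two h⟩

theorem commutatorElement_mem_of_relIndex_two {A H : Subgroup G} (h : A.relIndex H = 2) {x y : G}
    (hx : x ∈ H) (hy : y ∈ H) : x * y * x⁻¹ * y⁻¹ ∈ A := by
  rw [mul_mem_iff_of_relIndex_two h (mul_mem (mul_mem hx hy) (inv_mem hx)) (inv_mem hy),
    mul_mem_iff_of_relIndex_two h (mul_mem hx hy) (inv_mem hx), mul_mem_iff_of_relIndex_two h hx hy,
    inv_mem_iff, inv_mem_iff]
  tauto

/-- The subgroups `W p q = ⟨z_p, …, z_q⟩` in the Tutte–Sims argument. -/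
structure Tutte (s : ℤ) (W : ℤ → ℤ → Subgroup G) : Prop where
  two_le : 2 ≤ s
  mono : ∀ {p q p' q' : ℤ}, p' ≤ p → q ≤ q' → W p q ≤ W p' q'
  inter : ∀ {p q μ ν : ℤ}, q - p ≤ s → W μ q ⊓ W p ν ≤ W μ ν
  bot : ∀ {p q : ℤ}, q < p → W p q = ⊥
  idxL : ∀ {p q p' : ℤ}, p ≤ q → q - p ≤ s - 2 → p' = p + 1 → (W p' q).relIndex (W p q) = 2
  idxR : ∀ {p q q' : ℤ}, p ≤ q → q - p ≤ s - 2 → q' = q - 1 → (W p q').relIndex (W p q) = 2
  idxL3 : ∀ {p q p' : ℤ}, q - p = s - 1 → p' = p + 1 → (W p' q).relIndex (W p q) = 3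
  idxR3 : ∀ {p q q' : ℤ}, q - p = s - 1 → q' = q - 1 → (W p q').relIndex (W p q) = 3
  amalg : ∀ {p q p' q' : ℤ} (N : Subgroup G), q - p = s - 1 → p' = p + 1 → q' = q + 1 →
    NormalIn N (W p q) → NormalIn N (W p' q') → N = ⊥
  shift : ∃ g : G, ∀ p q p' q' : ℤ, p' = p + 1 → q' = q + 1 → MulAut.conj g • W p q = W p' q'

theorem Tutte.rev {s : ℤ} {W : ℤ → ℤ → Subgroup G} (h : Tutte s W) :
    Tutte s fun p q => W (-q) (-p) where
  two_le := h.two_le
  mono h1 h2 := h.mono (by omega) (by omega)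
  inter h1 := inf_comm (α := Subgroup G) _ _ ▸ h.inter (by omega)
  bot h1 := h.bot (by omega)
  idxL h1 h2 h3 := h.idxR (by omega) (by omega) (by omega)
  idxR h1 h2 h3 := h.idxL (by omega) (by omega) (by omega)
  idxL3 h1 h2 := h.idxR3 (by omega) (by omega)
  idxR3 h1 h2 := h.idxL3 (by omega) (by omega)
  amalg N h1 h2 h3 h4 h5 := h.amalg N (by omega) (by omega) (by omega) h5 h4
  shift := by
    obtain ⟨g, hg⟩ := h.shift
    refine ⟨g⁻¹, fun p q p' q' h1 h2 => ?_⟩
    rw [← hg (-q') (-p') (-q) (-p) (by omega) (by omega), map_inv, inv_smul_smul]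

/-- The intersection of the conjugates `g ^ k X g ^ (-k)` for `i ≤ k ≤ j`. -/
def segInf (g : G) (X : Subgroup G) (i j : ℤ) : Subgroup G :=
  ⨅ k : ℤ, ⨅ _ : i ≤ k, ⨅ _ : k ≤ j, MulAut.conj (g ^ k) • X

section segInf

variable {g : G} {X : Subgroup G}

theorem mem_segInf {i j : ℤ} {x : G} :
    x ∈ segInf g X i j ↔ ∀ k, i ≤ k → k ≤ j → x ∈ MulAut.conj (g ^ k) • X := by
  simp only [segInf, mem_iInf]

theorem segInf_mono {i j i' j' : ℤ} (h1 : i ≤ i') (h2 : j' ≤ j) :
    segInf g X i j ≤ segInf g X i' j' := fun _ hx =>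
  mem_segInf.2 fun k h3 h4 => mem_segInf.1 hx k (h1.trans h3) (h4.trans h2)

theorem segInf_inter {i j i' j' : ℤ} (h : i' ≤ j + 1) :
    segInf g X i j ⊓ segInf g X i' j' ≤ segInf g X i j' := fun _ hx =>
  mem_segInf.2 fun k h3 h4 => if h5 : k ≤ j then mem_segInf.1 hx.1 k h3 h5 else
    mem_segInf.1 hx.2 k (by omega) h4

theorem segInf_self (i : ℤ) : segInf g X i i = MulAut.conj (g ^ i) • X := by
  ext x
  rw [mem_segInf]
  exact ⟨fun h => h i le_rfl le_rfl, fun h k h1 h2 => le_antisymm h1 h2 ▸ h⟩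

theorem segInf_succ {i j : ℤ} (h : i ≤ j + 1) :
    segInf g X i (j + 1) = segInf g X i j ⊓ MulAut.conj (g ^ (j + 1)) • X := by
  rw [← segInf_self]
  exact le_antisymm (le_inf (segInf_mono le_rfl (by omega)) (segInf_mono h le_rfl))
    (segInf_inter le_rfl)

theorem segInf_smul (m : ℤ) {i j i' j' : ℤ} (hi : i' = i + m) (hj : j' = j + m) :
    MulAut.conj (g ^ m) • segInf g X i j = segInf g X i' j' := by
  subst hi hj
  ext x
  simp only [mem_conj_smul, mem_segInf]
  constructor
  · intro h k h1 h2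
    have := h (k - m) (by omega) (by omega)
    rw [show k = m + (k - m) by ring, zpow_add]
    simpa [mul_assoc] using this
  · intro h k h1 h2
    have := h (m + k) (by omega) (by omega)
    rw [zpow_add] at this
    simpa [mul_assoc] using this

theorem card_segInf {i j i' j' : ℤ} (h : j - i = j' - i') :
    Nat.card (segInf g X i j) = Nat.card (segInf g X i' j') := by
  rw [← segInf_smul (i' - i) (i := i) (j := j) (i' := i') (j' := j') (by omega) (by omega),
    card_conj_smul]

theorem relIndex_segInf [Finite G] {i j i' j' a b a' b' : ℤ} (h1 : i ≤ i') (h2 : j' ≤ j)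
    (h3 : a ≤ a') (h4 : b' ≤ b) (h : j - i = b - a) (h' : j' - i' = b' - a') :
    (segInf g X i j).relIndex (segInf g X i' j') =
      (segInf g X a b).relIndex (segInf g X a' b') := by
  have e1 := card_mul_relIndex (segInf_mono (g := g) (X := X) h1 h2)
  have e2 := card_mul_relIndex (segInf_mono (g := g) (X := X) h3 h4)
  rw [card_segInf h, card_segInf h', ← e2] at e1
  exact Nat.eq_of_mul_eq_mul_left Nat.card_pos e1

theorem Amalg.isPGroup_two_inf [Finite G] {X Y : Subgroup G} (h : Amalg X Y)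
    (h3 : Y.relIndex X = 3) : IsPGroup 2 (X ⊓ Y : Subgroup G) := by
  have key : ∀ {X Y : Subgroup G}, Y.relIndex X = 3 → NormalIn (pRes 2 (X ⊓ Y)) X := by
    intro X Y h3
    have h1 := relIndex_coreIn_inf_dvd_factorial Y X
    rw [h3, inf_comm] at h1
    have h2 := (coreIn_normalIn_inf Y X).pRes_le_of_relIndex (p := 2) (n := 1) h1
    rw [← pRes_eq_of_le h2 (coreIn_normalIn_inf Y X).1]
    exact (coreIn_normalIn Y X).pRes
  rw [← pRes_eq_bot_iff]
  exact h.eq_bot (key h3) (inf_comm X Y ▸ key (h.relIndex_eq.trans h3))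

theorem exists_tutte [Finite G] (h : Amalg X (MulAut.conj g • X))
    (h3 : (MulAut.conj g • X).relIndex X = 3)
    (hne : X ⊓ MulAut.conj g⁻¹ • X ≠ X ⊓ MulAut.conj g • X) :
    ∃ (s : ℤ) (W : ℤ → ℤ → Subgroup G), Tutte s W ∧ W (1 - s) 0 = X := by
  classical
  have h00 : segInf g X 0 0 = X := by rw [segInf_self]; simp
  have h01 : segInf g X 0 1 = X ⊓ MulAut.conj g • X := by
    have := segInf_succ (g := g) (X := X) (i := 0) (j := 0) (by omega)
    rwa [h00, zero_add, zpow_one] at this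
  have h10 : segInf g X (-1) 0 = X ⊓ MulAut.conj g⁻¹ • X := by
    have := segInf_succ (g := g) (X := X) (i := -1) (j := -1) (by omega)
    rw [segInf_self] at this
    simpa [inf_comm] using this
  have i3 : (segInf g X 0 1).relIndex (segInf g X 0 0) = 3 := by
    rw [h00, h01, inf_relIndex_left, h3]
  have i2 : ∀ n : ℤ, 1 ≤ n → (segInf g X 0 (n + 1)).relIndex (segInf g X 0 n) = 1 ∨
      (segInf g X 0 (n + 1)).relIndex (segInf g X 0 n) = 2 := by
    intro n hn
    have h1 : IsPGroup 2 (segInf g X 0 n) :=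
      (h01 ▸ h.isPGroup_two_inf h3).to_le (segInf_mono le_rfl hn)
    obtain ⟨m, hm⟩ := IsPGroup.iff_card.1 h1
    obtain ⟨k, -, hk⟩ := (Nat.dvd_prime_pow Nat.prime_two).1
      (hm ▸ relIndex_dvd_card (segInf g X 0 (n + 1)) (segInf g X 0 n))
    have h2 : (segInf g X 0 (n + 1)).relIndex (segInf g X 0 n) ≤ 3 := by
      rw [← i3, ← relIndex_segInf (i := n) (j := n + 1) (i' := n) (j' := n) (a := 0) (b := 1)
        (a' := 0) (b' := 0) le_rfl (by omega) le_rfl (by omega) (by omega) (by omega),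
        segInf_succ (i := 0) (by omega), segInf_succ (i := n) (by omega),
        inf_relIndex_left, inf_relIndex_left]
      exact relIndex_le_of_le_right (segInf_mono (by omega) le_rfl) (relIndex_ne_zero' _ _)
    rw [hk] at h2 ⊢
    rcases k with _ | _ | k
    · simp
    · simp
    · exact absurd ((Nat.pow_le_pow_right (by norm_num : 0 < 2) (Nat.le_add_left 2 k)).trans h2)
        (by norm_num)
  have hex : ∃ n : ℕ, 1 ≤ n ∧ (segInf g X 0 (n + 1)).relIndex (segInf g X 0 n) = 1 := by
    refine ⟨orderOf g, orderOf_pos g, ?_⟩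
    rw [relIndex_eq_one, segInf_succ (by omega), zpow_add, zpow_natCast, pow_orderOf_eq_one,
      one_mul, ← segInf_self]
    have := orderOf_pos g
    exact le_inf le_rfl (segInf_mono (by omega) (by omega))
  obtain ⟨hs1, hs⟩ := Nat.find_spec hex
  have hlt : ∀ n : ℤ, 1 ≤ n → n < Nat.find hex →
      (segInf g X 0 (n + 1)).relIndex (segInf g X 0 n) = 2 := by
    intro n h1 h2
    obtain ⟨m, rfl⟩ := Int.eq_ofNat_of_zero_le (by omega : 0 ≤ n)
    refine (i2 m h1).resolve_left fun h4 => Nat.find_min hex (by omega) ⟨by omega, h4⟩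
  generalize Nat.find hex = s at hs1 hs hlt
  have idx2 : ∀ {i j i' j' : ℤ}, i ≤ i' → j' ≤ j → j - i = j' - i' + 1 → 1 ≤ j' - i' →
      j' - i' < s → (segInf g X i j).relIndex (segInf g X i' j') = 2 := by
    intro i j i' j' h1 h2 h4 h5 h6
    rw [← hlt (j' - i') h5 h6]
    exact relIndex_segInf h1 h2 le_rfl (by omega) (by omega) (by omega)
  have idx3 : ∀ {i j i' j' : ℤ}, i ≤ i' → j' ≤ j → j - i = 1 → j' = i' →
      (segInf g X i j).relIndex (segInf g X i' j') = 3 := by
    intro i j i' j' h1 h2 h4 h5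
    rw [← i3]
    exact relIndex_segInf h1 h2 le_rfl (by omega) (by omega) (by omega)
  have idx1 : ∀ {i j i' j' : ℤ}, i ≤ i' → j' ≤ j → j - i = s + 1 → j' - i' = s →
      segInf g X i j = segInf g X i' j' := by
    intro i j i' j' h1 h2 h4 h5
    refine le_antisymm (segInf_mono h1 h2) (relIndex_eq_one.1 ?_)
    rw [← hs]
    exact relIndex_segInf h1 h2 le_rfl (by omega) (by omega) (by omega)
  have hs2 : 2 ≤ s := by
    by_contra hcon
    obtain rfl : s = 1 := by omega
    apply hne
    rw [← h01, ← h10, ← idx1 (i := -1) (j := 1) le_rfl (by omega) (by omega) (by omega)]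
    exact idx1 (by omega) le_rfl (by omega) (by omega)
  have hT1 : MulAut.conj g • segInf g X 0 s = segInf g X 0 s := by
    have := segInf_smul (g := g) (X := X) 1 (i := 0) (j := s) rfl rfl
    rw [zpow_one] at this
    rw [this, ← idx1 (i := 0) (j := s + 1) (by omega) le_rfl (by omega) (by omega)]
    exact idx1 le_rfl (by omega) (by omega) (by omega)
  have hT2 : ∀ i j : ℤ, j - i = s → segInf g X i j = segInf g X 0 s := by
    intro i j hij
    rw [← segInf_smul i (i := 0) (j := s) (by omega) (by omega), conj_smul_eq_iff_mem_normalizer]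
    exact zpow_mem (conj_smul_eq_iff_mem_normalizer.1 hT1) i
  have hT3 : ∀ m : ℕ, m + 1 ≤ s → ∀ i j : ℤ, j - i = s - (m + 1) →
      segInf g X i j ≤ normalizer (segInf g X 0 s : Set G) := by
    intro m
    induction m with
    | zero =>
      intro _ i j hij
      rw [← hT2 i (j + 1) (by omega)]
      exact (normalIn_of_relIndex_two (segInf_mono le_rfl (by omega))
        (idx2 le_rfl (by omega) (by omega) (by omega) (by omega))).2
    | succ m ih =>
      intro hm i j hij
      have h1 : ¬ segInf g X (i - 1) j ≤ segInf g X i (j + 1) := by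
        intro h1
        have h2 := idx2 (i := i - 1) (j := j + 1) (i' := i - 1) (j' := j) le_rfl (by omega)
          (by omega) (by omega) (by omega)
        rw [relIndex_eq_one.2 ((le_inf le_rfl h1).trans (segInf_inter (by omega)))] at h2
        omega
      obtain ⟨x, hx1, hx2⟩ := SetLike.not_le_iff_exists.1 h1
      refine le_of_relIndex_prime (A := segInf g X i (j + 1)) (segInf_mono le_rfl (by omega)) ?_
        (ih (by omega) _ _ (by omega)) (segInf_mono (by omega) le_rfl hx1) hx2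
        (ih (by omega) _ _ (by omega) hx1)
      rcases eq_or_ne j i with h2 | h2
      · rw [idx3 le_rfl (by omega) (by omega) h2]; exact Nat.prime_three
      · rw [idx2 le_rfl (by omega) (by omega) (by omega) (by omega)]; exact Nat.prime_two
  have hT : segInf g X 0 s = ⊥ := by
    by_contra hcon
    have h1 := hT3 (s - 1) (by omega) 0 0 (by omega)
    have h2 := h.left _ ⟨(segInf_mono le_rfl (by omega)).trans h00.le, h00.ge.trans h1⟩ hcon
    have h4 := conj_smul_eq_iff_mem_normalizer.1 hT1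
    rw [h2] at h4
    exact h.ne (conj_smul_of_mem h4).symm
  refine ⟨s, fun p q => segInf g X q (p + s - 1), ⟨by omega, ?_, ?_, ?_, ?_, ?_, ?_, ?_, ?_, ?_⟩,
    by simpa using h00⟩
  · intro p q p' q' h1 h2
    exact segInf_mono h2 (by omega)
  · intro p q μ ν h1
    rw [inf_comm]
    exact segInf_inter (by omega)
  · intro p q h1
    rw [eq_bot_iff, ← hT, ← hT2 q (q + s) (by omega)]
    exact segInf_mono le_rfl (by omega)
  · intro p q p' h1 h2 h4
    exact idx2 le_rfl (by omega) (by omega) (by omega) (by omega)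
  · intro p q q' h1 h2 h4
    exact idx2 (by omega) le_rfl (by omega) (by omega) (by omega)
  · intro p q p' h1 h2
    exact idx3 le_rfl (by omega) (by omega) (by omega)
  · intro p q q' h1 h2
    exact idx3 (by omega) le_rfl (by omega) (by omega)
  · intro p q p' q' N h1 h2 h4 h5 h6
    have h7 := h5.smul (g ^ (-q))
    have h8 := h6.smul (g ^ (-q))
    rw [segInf_smul (-q) (i' := 0) (j' := 0) (by omega) (by omega), h00] at h7
    rw [segInf_smul (-q) (i' := 1) (j' := 1) (by omega) (by omega), segInf_self, zpow_one] at h8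
    have := h.eq_bot h7 h8
    rwa [← card_eq_one, card_conj_smul, card_eq_one] at this
  · refine ⟨g, fun p q p' q' h1 h2 => ?_⟩
    have := segInf_smul (g := g) (X := X) 1 (i := q) (j := p + s - 1) (i' := q') (j' := p' + s - 1)
      h2 (by omega)
    rwa [zpow_one] at this

end segInf

/-- Either the point stabilizer has order three or there is a Tutte system. -/
theorem card_eq_three_or_exists_tutte {Ω : Type*} [MulAction G Ω] [Finite G] [FaithfulSMul G Ω]
    [IsPreprimitive G Ω] {a b : Ω} (h3 : (stabilizer G b).relIndex (stabilizer G a) = 3) :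
    Nat.card (stabilizer G a) = 3 ∨
      ∃ (s : ℤ) (W : ℤ → ℤ → Subgroup G), Tutte s W ∧ W (1 - s) 0 = stabilizer G a := by
  have h := amalg_stabilizer (h3.ge.trans' (by norm_num))
  by_cases hg : ∃ g : G, g • a = b ∧ stabilizer G a ⊓ MulAut.conj g⁻¹ • stabilizer G a ≠
      stabilizer G a ⊓ MulAut.conj g • stabilizer G a
  · obtain ⟨g, rfl, hg⟩ := hg
    rw [stabilizer_smul_eq] at h h3
    exact Or.inr (exists_tutte h h3 hg)
  left
  push Not at hg
  obtain ⟨g, rfl⟩ := exists_smul_eq G a b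
  have h1 : NormalIn (stabilizer G a ⊓ stabilizer G (g • a)) (stabilizer G a) := by
    refine ⟨inf_le_left, fun x hx => conj_smul_eq_iff_mem_normalizer.1 ?_⟩
    have e1 := hg g rfl
    have e2 := hg (g * x⁻¹) (by rw [mul_smul, show x⁻¹ • a = a from inv_mem hx])
    rw [← stabilizer_smul_eq, ← stabilizer_smul_eq] at e1 e2
    rw [mul_smul g, show x⁻¹ • a = a from inv_mem hx] at e2
    conv_lhs => rw [← e1, Subgroup.smul_inf, conj_smul_of_mem hx, ← stabilizer_smul_eq]
    rw [← e2, mul_inv_rev, inv_inv, mul_smul]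
  have h2 : stabilizer G a ⊓ stabilizer G (g • a) = ⊥ := by
    by_contra hcon
    have h4 : g ∈ normalizer ((stabilizer G a ⊓ stabilizer G (g • a) : Subgroup G) : Set G) := by
      rw [← conj_smul_eq_iff_mem_normalizer]
      have e1 := hg g rfl
      rw [← stabilizer_smul_eq, ← stabilizer_smul_eq] at e1
      conv_lhs => rw [← e1, Subgroup.smul_inf, ← stabilizer_smul_eq, ← stabilizer_smul_eq,
        smul_inv_smul, inf_comm]
    rw [h.left _ h1 hcon] at h4
    exact h.ne (by rw [show g • a = a from h4])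
  rw [← h3, ← inf_relIndex_left, h2, relIndex_bot_left]

end Cfsg.Agent.H7
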