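import Cfsg.Agent.H7.Tutte

/-!
The Tutte–Sims argument: bounding the parameter `s`.
-/

set_option autoImplicit false

namespace Cfsg.Agent.H7

open Subgroup MulAction
open scoped Pointwise

variable {G : Type*} [Group G]

/-- A Tutte system together with its generating involutions. -/
structure TutteZ (s : ℤ) (W : ℤ → ℤ → Subgroup G) (z : ℤ → G) : Prop extends Tutte s W where
  zmem : ∀ k, z k ∈ W k k
  zne : ∀ k, z k ≠ 1

theorem Tutte.card_eq {s : ℤ} {W : ℤ → ℤ → Subgroup G} (h : Tutte s W) (n : ℕ) {p q : ℤ}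
    (h1 : q - p + 1 = n) (h2 : q - p ≤ s - 2) : Nat.card (W p q) = 2 ^ n := by
  induction n generalizing q with
  | zero => rw [h.bot (by omega), card_bot, pow_zero]
  | succ n ih =>
    rw [← card_mul_relIndex (h.mono le_rfl (by omega) : W p (q - 1) ≤ W p q),
      ih (by omega) (by omega), h.idxR (by omega) h2 rfl, pow_succ]

theorem Tutte.card_eq' {s : ℤ} {W : ℤ → ℤ → Subgroup G} (h : Tutte s W) (n : ℕ) {p q : ℤ}
    (h1 : s - 1 = n) (h2 : q - p = s - 1) : Nat.card (W p q) = 2 ^ n * 3 := by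
  rw [← card_mul_relIndex (h.mono le_rfl (by omega) : W p (q - 1) ≤ W p q),
    h.card_eq n (by omega) (by omega), h.idxR3 h2 rfl]

theorem Tutte.exists_tutteZ {s : ℤ} {W : ℤ → ℤ → Subgroup G} (h : Tutte s W) :
    ∃ z, TutteZ s W z := by
  have : ∀ k, ∃ x ∈ W k k, x ≠ 1 := fun k => by
    refine (W k k).bot_or_exists_ne_one.resolve_left fun h1 => ?_
    have := h.card_eq 1 (p := k) (q := k) (by omega) (by have := h.two_le; omega)
    rw [h1, card_bot] at this
    omega
  choose z h1 h2 using this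
  exact ⟨z, h, h1, h2⟩

/-- `l` is the least distance at which the generators fail to commute. -/
def Lam (z : ℤ → G) (l : ℤ) : Prop :=
  (∀ i j, i - j < l → j - i < l → Commute (z i) (z j)) ∧ ∀ i j, j = i + l → ¬ Commute (z i) (z j)

theorem Lam.rev {z : ℤ → G} {l : ℤ} (h : Lam z l) : Lam (fun k => z (-k)) l :=
  ⟨fun _ _ h1 h2 => h.1 _ _ (by omega) (by omega), fun _ _ h1 h2 => h.2 _ _ (by omega) h2.symm⟩

namespace TutteZ

variable {s : ℤ} {W : ℤ → ℤ → Subgroup G} {z : ℤ → G}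

theorem rev' (h : TutteZ s W z) : TutteZ s (fun p q => W (-q) (-p)) fun k => z (-k) :=
  ⟨h.rev, fun _ => h.zmem _, fun _ => h.zne _⟩

theorem mem (h : TutteZ s W z) {p q k : ℤ} (h1 : p ≤ k) (h2 : k ≤ q) : z k ∈ W p q :=
  h.mono h1 h2 (h.zmem k)

theorem notMemR (h : TutteZ s W z) {p q k : ℤ} (h1 : q < k) (h2 : k - p ≤ s) : z k ∉ W p q :=
  fun h3 => h.zne k (by
    have := h.inter h2 ⟨h.zmem k, h3⟩
    rwa [h.bot h1, mem_bot] at this)

theorem notMemL (h : TutteZ s W z) {p q k : ℤ} (h1 : k < p) (h2 : q - k ≤ s) : z k ∉ W p q :=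
  fun h3 => h.zne k (by
    have := h.inter h2 ⟨h3, h.zmem k⟩
    rwa [h.bot h1, mem_bot] at this)

theorem mul_eq_one (h : TutteZ s W z) {k : ℤ} {x : G} (hx : x ∈ W k k) (hx1 : x ≠ 1) :
    x * z k = 1 := by
  have := mul_mem_iff_of_relIndex_two (h.idxL le_rfl (by have := h.two_le; omega) rfl) hx (h.zmem k)
  rw [h.bot (by omega), mem_bot, mem_bot, mem_bot] at this
  exact this.2 (iff_of_false hx1 (h.zne k))

theorem sq (h : TutteZ s W z) (k : ℤ) : z k * z k = 1 := h.mul_eq_one (h.zmem k) (h.zne k)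

theorem inv (h : TutteZ s W z) (k : ℤ) : (z k)⁻¹ = z k := inv_eq_of_mul_eq_one_right (h.sq k)

theorem eq_z (h : TutteZ s W z) {k : ℤ} {x : G} (hx : x ∈ W k k) (hx1 : x ≠ 1) : x = z k := by
  rw [← h.inv, eq_inv_iff_mul_eq_one, h.mul_eq_one hx hx1]

theorem le_of_mem (h : TutteZ s W z) {H : Subgroup G} {p q : ℤ} (h1 : q - p ≤ s - 1)
    (h2 : ∀ k, p ≤ k → k ≤ q → z k ∈ H) : W p q ≤ H := by
  by_cases hpq : q < p
  · rw [h.bot hpq]; exact bot_le
  obtain ⟨n, hn⟩ := Int.eq_ofNat_of_zero_le (by omega : 0 ≤ q - p + 1)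
  clear hpq
  induction n generalizing q with
  | zero => rw [h.bot (by omega)]; exact bot_le
  | succ n ih =>
    refine le_of_relIndex_prime (h.mono le_rfl (by omega) : W p (q - 1) ≤ W p q) ?_
      (ih (by omega) (fun k h3 h4 => h2 k h3 (by omega)) (by omega)) (h.mem (by omega) le_rfl)
      (h.notMemR (by omega) (by omega)) (h2 q (by omega) le_rfl)
    rcases eq_or_lt_of_le h1 with h3 | h3
    · rw [h.idxR3 h3 rfl]; exact Nat.prime_three
    · rw [h.idxR (by omega) (by omega) rfl]; exact Nat.prime_two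

theorem exists_shift (h : TutteZ s W z) :
    ∃ g : G, (∀ p q p' q' : ℤ, p' = p + 1 → q' = q + 1 → MulAut.conj g • W p q = W p' q') ∧
      ∀ k k', k' = k + 1 → g * z k * g⁻¹ = z k' := by
  obtain ⟨g, hg⟩ := h.shift
  refine ⟨g, hg, fun k k' hk => h.eq_z ?_ ?_⟩
  · rw [← hg k k k' k' hk hk]
    exact conj_mem_conj_smul.2 (h.zmem k)
  · simpa using h.zne k

theorem commute_shift (h : TutteZ s W z) (i j m : ℤ) :
    Commute (z (i + m)) (z (j + m)) ↔ Commute (z i) (z j) := by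
  obtain ⟨g, -, hg⟩ := h.exists_shift
  have h1 : ∀ i j i' j', i' = i + 1 → j' = j + 1 →
      (Commute (z i') (z j') ↔ Commute (z i) (z j)) := by
    intro i j i' j' hi hj
    rw [← hg i i' hi, ← hg j j' hj]
    exact Commute.conj_iff g
  induction m using Int.induction_on with
  | zero => simp
  | succ m ih => exact (h1 _ _ _ _ (by omega) (by omega)).trans ih
  | pred m ih => exact (h1 _ _ _ _ (by omega) (by omega)).symm.trans ih

theorem le_centralizer (h : TutteZ s W z) {p q : ℤ} (h1 : q - p ≤ s - 1) {x : G}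
    (h2 : ∀ k, p ≤ k → k ≤ q → Commute (z k) x) {y : G} (hy : y ∈ W p q) : Commute y x :=
  mem_centralizer_singleton_iff.1 (h.le_of_mem h1
    (fun k h3 h4 => mem_centralizer_singleton_iff.2 (h2 k h3 h4)) hy)

theorem normalIn_of_commute {A H : Subgroup G} (hA : A ≤ H)
    (h : ∀ x ∈ H, ∀ y ∈ A, Commute x y) : NormalIn A H :=
  NormalIn.mk' hA fun x hx y hy => by rwa [(h x hx y hy).eq, mul_inv_cancel_right]

theorem exists_lam (h : TutteZ s W z) : ∃ l, 1 ≤ l ∧ l ≤ s - 1 ∧ Lam z l := by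
  have hs := h.two_le
  have h1 : ∃ l, 0 ≤ l ∧ l ≤ s - 1 ∧ ¬ Commute (z 0) (z l) := by
    by_contra hcon
    push Not at hcon
    have h2 : ∀ i j, i - j ≤ s - 1 → j - i ≤ s - 1 → Commute (z i) (z j) := by
      intro i j h3 h4
      rcases le_total i j with h5 | h5
      · simpa using (h.commute_shift 0 (j - i) i).2 (hcon _ (by omega) h4)
      · simpa using ((h.commute_shift 0 (i - j) j).2 (hcon _ (by omega) h3)).symm
    have h3 : ∀ p q, q - p = s - 1 → ∀ x ∈ W p q, ∀ y ∈ W p q, Commute x y :=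
      fun p q hpq x hx y hy => h.le_centralizer hpq.le (fun k h4 h5 => (h.le_centralizer hpq.le
        (fun k' h6 h7 => h2 _ _ (by omega) (by omega)) hy).symm) hx
    have h4 := h.amalg (W 1 (s - 1)) (p := 0) (q := s - 1) (p' := 1) (q' := s) (by omega) rfl
      (by omega) (normalIn_of_commute (h.mono (by omega) le_rfl) fun x hx y hy =>
        h3 _ _ (by omega) x hx y (h.mono (by omega) le_rfl hy))
      (normalIn_of_commute (h.mono le_rfl (by omega)) fun x hx y hy =>
        h3 _ _ (by omega) x hx y (h.mono le_rfl (by omega) hy))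
    have h5 : z 1 ∈ W 1 (s - 1) := h.mem le_rfl (by omega)
    rw [h4, mem_bot] at h5
    exact h.zne 1 h5
  obtain ⟨l, ⟨h2, h3, h4⟩, h5⟩ := Int.exists_least_of_bdd ⟨0, fun l hl => hl.1⟩ h1
  have h6 : ∀ i j, i ≤ j → j - i < l → Commute (z i) (z j) := by
    intro i j h6 h7
    by_contra hcon
    have := h5 (j - i) ⟨by omega, by omega, fun h8 => hcon (by
      simpa using (h.commute_shift 0 (j - i) i).2 h8)⟩
    omega
  refine ⟨l, ?_, h3, fun i j h7 h8 => ?_, fun i j h7 h8 => h4 ?_⟩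
  · rcases eq_or_lt_of_le h2 with rfl | h7
    · exact (h4 (Commute.refl _)).elim
    · omega
  · rcases le_total i j with h9 | h9
    · exact h6 i j h9 h8
    · exact (h6 j i h9 h7).symm
  · rw [← h.commute_shift 0 l i, zero_add, add_comm, ← h7]
    exact h8

theorem two_mul_lam_le (h : TutteZ s W z) {l : ℤ} (hl : Lam z l) (h1 : l ≤ s - 1) :
    2 * l ≤ s + 1 := by
  by_contra hcon
  have hs := h.two_le
  have h2 : ∀ p q, q - p = s - 1 → 0 ≤ p → p ≤ 1 → NormalIn (W (l - 1) (l - 1)) (W p q) := by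
    intro p q h2 h3 h4
    refine normalIn_of_commute (h.mono (by omega) (by omega)) fun x hx y hy => ?_
    by_cases hy1 : y = 1
    · rw [hy1]; exact Commute.one_right x
    · rw [h.eq_z hy hy1]
      exact h.le_centralizer h2.le (fun k h5 h6 => hl.1 _ _ (by omega) (by omega)) hx
  have h3 := h.amalg _ (p := 0) (q := s - 1) (p' := 1) (q' := s) (by omega) rfl (by omega)
    (h2 _ _ (by omega) (by omega) (by omega)) (h2 _ _ (by omega) (by omega) (by omega))
  have h4 := h.zmem (l - 1)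
  rw [h3, mem_bot] at h4
  exact h.zne _ h4

theorem comm_mem (h : TutteZ s W z) {p q : ℤ} (h1 : p ≤ q) (h2 : q - p ≤ s - 2) {x y : G}
    (hx : x ∈ W p q) (hy : y ∈ W p q) : x * y * x⁻¹ * y⁻¹ ∈ W (p + 1) (q - 1) :=
  h.inter (p := p) (q := q) (by omega)
    ⟨commutatorElement_mem_of_relIndex_two (h.idxL h1 h2 rfl) hx hy,
      commutatorElement_mem_of_relIndex_two (h.idxR h1 h2 rfl) hx hy⟩

theorem comm_mem_left (h : TutteZ s W z) {l : ℤ} (hl : Lam z l) (h0 : 1 ≤ l) (h1 : l ≤ s - 2)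
    {i j : ℤ} (hij : j = i + l) :
    z i * z j * (z i)⁻¹ * (z j)⁻¹ ∈ W (i + s - 1 - l) (j - 1) := by
  set c := z i * z j * (z i)⁻¹ * (z j)⁻¹ with hc
  have hc1 : c ≠ 1 := fun h2 => hl.2 i j hij (commutatorElement_eq_one_iff_commute.1 h2)
  have h2 : c ∈ W (i + 1) (j - 1) :=
    h.comm_mem (by omega) (by omega) (h.mem le_rfl (by omega)) (h.mem (by omega) le_rfl)
  have h3 : ∀ μ, c ∈ W μ (j - 1) → μ ≤ j - 1 := fun μ hμ => by
    by_contra hcon
    rw [h.bot (by omega), mem_bot] at hμ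
    exact hc1 hμ
  obtain ⟨μ, h4, h5⟩ := Int.exists_greatest_of_bdd (P := fun μ => c ∈ W μ (j - 1)) ⟨j - 1, h3⟩
    ⟨_, h2⟩
  have h6 := h5 _ h2
  have h7 := h3 _ h4
  refine h.mono ?_ le_rfl h4
  by_contra hcon
  have h8 : c ∉ W (μ + 1) (j - 1) := fun h8 => by have := h5 _ h8; omega
  have h9 : z μ * c ∈ W (μ + 1) (j - 1) :=
    (mul_mem_iff_of_relIndex_two (h.idxL h7 (by omega) rfl) (h.mem le_rfl h7) h4).2
      (iff_of_false (h.notMemL (by omega) (by omega)) h8)
  have h10 : Commute (z μ * c) (z (μ + l)) :=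
    h.le_centralizer (by omega) (fun k h10 h11 => hl.1 _ _ (by omega) (by omega)) h9
  have h11 : (z i)⁻¹ * z (μ + l) * z i ∈ W (i + 1) (μ + l) :=
    (normalIn_of_relIndex_two (h.mono (by omega) le_rfl) (h.idxL (p := i) (by omega) (by omega)
      rfl)).conj_mem' (h.mem (by omega) le_rfl) (h.mem le_rfl (by omega))
  have h12 : Commute ((z i)⁻¹ * z (μ + l) * z i) (z j) :=
    h.le_centralizer (by omega) (fun k h12 h13 => hl.1 _ _ (by omega) (by omega)) h11
  have h13 : Commute (z i * z j * (z i)⁻¹) (z (μ + l)) := by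
    have := (Commute.conj_iff (z i)).2 h12.symm
    simpa [mul_assoc] using this
  have h14 : Commute c (z (μ + l)) :=
    h13.mul_left (hl.1 j (μ + l) (by omega) (by omega)).inv_left
  apply hl.2 μ (μ + l) rfl
  simpa using h10.mul_left h14.inv_left

theorem comm_mem_mid (h : TutteZ s W z) {l : ℤ} (hl : Lam z l) (h0 : 1 ≤ l) (h1 : l ≤ s - 2)
    {i j p q : ℤ} (hij : j = i + l) (hp : p = i + s - 1 - l) (hq : q = j + l - s + 1) :
    z i * z j * (z i)⁻¹ * (z j)⁻¹ ∈ W p q := by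
  have h2 := h.comm_mem_left hl h0 h1 hij
  have h3 := h.rev'.comm_mem_left hl.rev h0 h1 (i := -j) (j := -i) (by omega)
  simp only [neg_neg] at h3
  have h4 := inv_mem h3
  simp only [mul_inv_rev, inv_inv, ← mul_assoc] at h4
  exact h.mono (by omega) (by omega) (h.inter (by omega) ⟨h2, h4⟩)

theorem sq_eq_one_of_mem (h : TutteZ s W z) {l : ℤ} (hl : Lam z l) {p q : ℤ} (h1 : q - p < l)
    (h2 : q - p ≤ s - 1) {x : G} (hx : x ∈ W p q) : x * x = 1 := by
  have h3 : ∀ x ∈ W p q, ∀ y ∈ W p q, Commute x y := fun x hx y hy =>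
    h.le_centralizer h2 (fun k h4 h5 => (h.le_centralizer h2
      (fun k' h6 h7 => hl.1 _ _ (by omega) (by omega)) hy).symm) hx
  have h4 := h.le_of_mem (H := omegaIn 2 (W p q) (commutator_eq_bot_of_commute h3)) h2
    (fun k h4 h5 => ⟨h.mem h4 h5, by rw [pow_two, h.sq]⟩) hx
  rw [← pow_two]
  exact h4.2

theorem seven_aux [Finite G] (h : TutteZ 7 W z) (hl : Lam z 4) (i : ℤ) :
    z i ∈ normalizer (W (i + 2) (i + 5) : Set G) := by
  apply mem_normalizer_fintype
  intro x hx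
  refine h.le_of_mem (H := (W (i + 2) (i + 5)).comap (MulAut.conj (z i)).toMonoidHom) (by omega)
    (fun k h1 h2 => ?_) hx
  change z i * z k * (z i)⁻¹ ∈ W (i + 2) (i + 5)
  rcases (by omega : k < i + 4 ∨ k = i + 4 ∨ k = i + 5) with h3 | rfl | rfl
  · rw [(hl.1 i k (by omega) (by omega)).eq, mul_inv_cancel_right]
    exact h.mem h1 h2
  · have := mul_mem (h.mono le_rfl (by omega : i + 2 ≤ i + 5) (h.comm_mem_mid hl (by omega)
      (by omega) (i := i) (j := i + 4) (p := i + 2) (q := i + 2) rfl (by omega) (by omega)))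
      (h.mem h1 h2)
    simpa using this
  · by_contra hcon
    set u := z i * z (i + 5) * (z i)⁻¹ with hu
    have h3 : u ∈ W (i + 1) (i + 5) :=
      (normalIn_of_relIndex_two (h.mono (by omega) le_rfl) (h.idxL (p := i) (by omega) (by omega)
        rfl)).conj_mem (h.mem (by omega) le_rfl) (h.mem le_rfl (by omega))
    have h4 : u ∉ W (i + 1) (i + 4) := fun h4 => by
      have h5 := mul_mem (mul_mem (inv_mem (h.mem le_rfl (by omega) : z i ∈ W i (i + 4)))
        (h.mono (by omega) le_rfl h4)) (h.mem le_rfl (by omega) : z i ∈ W i (i + 4))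
      rw [hu] at h5
      simp only [mul_assoc, inv_mul_cancel, mul_one, inv_mul_cancel_left] at h5
      exact h.notMemR (by omega) (by omega) h5
    have h5 : z (i + 1) * u ∈ W (i + 2) (i + 5) :=
      (mul_mem_iff_of_relIndex_two (h.idxL (by omega) (by omega) (by omega))
        (h.mem le_rfl (by omega)) h3).2 (iff_of_false (h.notMemL (by omega) (by omega)) hcon)
    have h6 : z (i + 1) * u * z (i + 5) ∈ W (i + 2) (i + 4) :=
      (mul_mem_iff_of_relIndex_two (h.idxR (by omega) (by omega) (by omega)) h5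
        (h.mem (by omega) le_rfl)).2 (iff_of_false (fun h6 => h4
          ((mul_mem_cancel_left (h.mem le_rfl (by omega))).1 (h.mono (by omega) le_rfl h6)))
          (h.notMemR (by omega) (by omega)))
    set w := z (i + 1) * u * z (i + 5) with hw
    have h7 : w * w = 1 := h.sq_eq_one_of_mem hl (by omega) (by omega) h6
    have h8 : Commute w (z (i + 1)) :=
      h.le_centralizer (by omega) (fun k h8 h9 => hl.1 _ _ (by omega) (by omega)) h6
    have h9 : Commute w (z (i + 5)) :=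
      h.le_centralizer (by omega) (fun k h8 h9 => hl.1 _ _ (by omega) (by omega)) h6
    have h10 : u * u = 1 := by
      rw [hu]
      calc z i * z (i + 5) * (z i)⁻¹ * (z i * z (i + 5) * (z i)⁻¹)
          = z i * (z (i + 5) * z (i + 5)) * (z i)⁻¹ := by group
        _ = 1 := by rw [h.sq]; group
    have h11 : u = w * ((z (i + 1))⁻¹ * (z (i + 5))⁻¹) := by
      rw [← mul_assoc, h8.inv_right.eq, hw]; group
    rw [h11, h.inv, h.inv, ← pow_two, (h8.mul_right h9).mul_pow, pow_two, h7, one_mul,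
      pow_two, mul_eq_one_iff_eq_inv, mul_inv_rev, h.inv, h.inv] at h10
    exact hl.2 (i + 1) (i + 5) (by omega) h10

theorem not_seven [Finite G] (h : TutteZ 7 W z) (hl : Lam z 4) : False := by
  have h1 : ∀ k, 0 ≤ k → k ≤ 7 → z k ∈ normalizer (W 2 5 : Set G) := by
    intro k h1 h2
    rcases (by omega : k = 0 ∨ k = 7 ∨ (1 ≤ k ∧ k ≤ 5) ∨ k = 6) with rfl | rfl | h3 | rfl
    · exact h.seven_aux hl 0
    · exact h.rev'.seven_aux hl.rev (-7)
    · exact (normalIn_of_relIndex_two (h.mono (by omega) le_rfl) (h.idxL (p := 1) (by omega)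
        (by omega) rfl)).2 (h.mem h3.1 h3.2)
    · exact (normalIn_of_relIndex_two (h.mono le_rfl (by omega)) (h.idxR (q := 6) (by omega)
        (by omega) rfl)).2 (h.mem (by omega) le_rfl)
  have h2 := h.amalg (W 2 5) (p := 0) (q := 6) (p' := 1) (q' := 7) rfl rfl rfl
    ⟨h.mono (by omega) (by omega), h.le_of_mem (by omega) fun k h2 h3 => h1 k h2 (by omega)⟩
    ⟨h.mono (by omega) (by omega), h.le_of_mem (by omega) fun k h2 h3 => h1 k (by omega) h3⟩
  have h3 : z 2 ∈ W 2 5 := h.mem le_rfl (by omega)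
  rw [h2, mem_bot] at h3
  exact h.zne 2 h3

theorem cases [Finite G] (h : TutteZ s W z) :
    (s = 2 ∧ Lam z 1) ∨ (s = 3 ∧ Lam z 2) ∨ (s = 4 ∧ Lam z 2) ∨ (s = 5 ∧ Lam z 3) := by
  obtain ⟨l, h1, h2, hl⟩ := h.exists_lam
  have h3 := h.two_mul_lam_le hl h2
  have hs := h.two_le
  rcases eq_or_lt_of_le h2 with h4 | h4
  · rcases (by omega : (s = 2 ∧ l = 1) ∨ (s = 3 ∧ l = 2)) with ⟨rfl, rfl⟩ | ⟨rfl, rfl⟩ <;> simp [hl]
  · have h5 := h.comm_mem_mid hl h1 (by omega) (i := 0) (j := l) (by omega) rfl rfl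
    have h6 := h.comm_mem (p := 0) (q := l) (by omega) (by omega) (h.mem le_rfl (by omega))
      (h.mem (by omega) le_rfl)
    have h7 : z 0 * z l * (z 0)⁻¹ * (z l)⁻¹ ≠ 1 := fun h7 =>
      hl.2 0 l (by omega) (commutatorElement_eq_one_iff_commute.1 h7)
    have h8 : ¬ l + l - s + 1 < 0 + s - 1 - l := fun h8 => by
      rw [h.bot h8, mem_bot] at h5
      exact h7 h5
    have h9 : ¬ l - 1 < 0 + 1 := fun h9 => by
      rw [h.bot h9, mem_bot] at h6
      exact h7 h6
    rcases (by omega : (s = 4 ∧ l = 2) ∨ (s = 5 ∧ l = 3) ∨ (s = 7 ∧ l = 4)) with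
      ⟨rfl, rfl⟩ | ⟨rfl, rfl⟩ | ⟨rfl, rfl⟩
    · simp [hl]
    · simp [hl]
    · exact (h.not_seven hl).elim

end TutteZ

end Cfsg.Agent.H7
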