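import Cfsg.Agent.H1.U6Def

/-!
# Every vector of the twenty dimensional module of `U₆(2)` is fixed by a group of order nine
-/

set_option autoImplicit false
set_option maxRecDepth 1000000

namespace Cfsg.Agent.H7.U6

open Cfsg.Agent.H1.U6
open Cfsg.Agent.L0.Code (frc frc_eq allB allB_iff)

variable {V : Type*} [AddCommGroup V] {ρ : G →* AddMonoid.End V} {b : ℕ → V}

/-- Apply a word to a vector. -/
noncomputable def apw (l : List ℕ) (n : ℕ) : ℕ :=
  List.rec n (fun i _ ih => app 20 20 (g20 i) ih) l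

theorem isLin_apw (l : List ℕ) : IsLin (apw l) := by
  induction l with
  | nil => exact isLin_id
  | cons i l ih => exact (isLin_app 20 20 _).comp ih

theorem rho_apw (h : Mod ρ b) (l : List ℕ) (n : ℕ) :
    ρ (evw l) (ev b 20 n) = ev b 20 (apw l n) := by
  induction l with
  | nil => rw [evw, List.map_nil, List.prod_nil, map_one]; rfl
  | cons i l ih =>
    rw [evw, List.map_cons, List.prod_cons, map_mul]
    exact (congrArg (ρ (gen i)) ih).trans ((h.rep i).app h.bas.two _)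

theorem apw_lt (l : List ℕ) {n : ℕ} (h : n < 2 ^ 20) : apw l n < 2 ^ 20 := by
  cases l
  exacts [h, app_lt _ _ _ _]

theorem isLin_shift (k : ℕ) : IsLin (fun n => Nat.shiftRight n k) := fun _ _ =>
  Nat.shiftRight_xor_distrib

/-- The vector is fixed by a group of order nine. -/
def Gd (ρ : G →* AddMonoid.End V) (v : V) : Prop := ∃ x y, E9 x y ∧ ρ x v = v ∧ ρ y v = v

theorem Gd.act {v : V} (h : Gd ρ v) (g : G) : Gd ρ (ρ g v) := by
  obtain ⟨x, y, e, hx, hy⟩ := h
  have k : ∀ x, ρ x v = v → ρ (MulAut.conj g x) (ρ g v) = ρ g v := fun x hx => by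
    change (ρ _ * ρ g) v = _
    rw [← map_mul, MulAut.conj_apply, inv_mul_cancel_right, map_mul]
    exact congrArg (ρ g) hx
  refine ⟨(MulAut.conj g).toMonoidHom x, (MulAut.conj g).toMonoidHom y, ?_, k x hx, k y hy⟩
  simpa only [E9, O3, ← map_mul, ← map_inv, ← map_pow,
    mem_ZG_map (f := (MulAut.conj g).toMonoidHom) (MulAut.conj g).injective] using e

theorem Gd.of_act {v : V} {g : G} (h : Gd ρ (ρ g v)) : Gd ρ v := by
  have := h.act g⁻¹
  change Gd ρ ((ρ _ * ρ g) v) at this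
  rwa [← map_mul, inv_mul_cancel, map_one] at this

theorem rmul {g g' : G} {M M' : ℕ} (h : Rep b6 12 (act g) M) (h' : Rep b6 12 (act g') M') :
    Rep b6 12 (act (g * g')) (mul 12 M M') := by
  rw [map_mul]; exact h.mul two6 h'

/-- Order three modulo the centre. -/
noncomputable def o3B (M : ℕ) : Bool := frc M fun M => !inZ M && inZ (mul 12 M (mul 12 M M))

theorem o3_of {g : G} {M : ℕ} (h : Rep b6 12 (act g) M) (e : o3B M = true) : O3 g := by
  rw [o3B, frc_eq, Bool.and_eq_true, Bool.not_eq_true'] at e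
  exact ⟨not_mem_ZG_of_inZ h e.1, pow_three g ▸ mem_center_of_inZ (rmul h (rmul h h)) e.2⟩

/-- Elementary abelian of order nine modulo the centre. -/
noncomputable def e9B (lx ly : List ℕ) : Bool :=
  frc (e12 lx) fun X => frc (e12 ly) fun Y => frc (mul 12 X X) fun X2 => frc (mul 12 Y Y) fun Y2 =>
    meq 12 (mul 12 X X2) (idm 12) && meq 12 (mul 12 Y Y2) (idm 12) &&
      inZ (mul 12 (mul 12 (mul 12 X Y) X2) Y2) && o3B X && o3B Y && o3B (mul 12 X Y) &&
      o3B (mul 12 X Y2)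

theorem e9_of {lx ly : List ℕ} (e : e9B lx ly = true) : E9 (evw lx) (evw ly) := by
  simp only [e9B, frc_eq, Bool.and_eq_true] at e
  obtain ⟨⟨⟨⟨⟨⟨e1, e2⟩, e3⟩, e4⟩, e5⟩, e6⟩, e7⟩ := e
  have X := rep12 lx
  have Y := rep12 ly
  have k : ∀ {g M}, Rep b6 12 (act g) M → meq 12 (mul 12 M (mul 12 M M)) (idm 12) = true →
      g⁻¹ = g * g := fun h e => inv_eq_of_mul_eq_one_right
    (eq_of_rep (rmul h (rmul h h)) (by rw [map_one]; exact rep_one) e)
  rw [E9, k X e1, k Y e2]
  exact ⟨mem_center_of_inZ (rmul (rmul (rmul X Y) (rmul X X)) (rmul Y Y)) e3, o3_of X e4,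
    o3_of Y e5, o3_of (rmul X Y) e6, o3_of (rmul X (rmul Y Y)) e7⟩

/-- The adapted basis. -/
def cC : ℕ := nat_lit 2205820666734038723751666778507788544981037272929096811779548208098774131836097152268307366111094211707861106292175404032

/-- The inverse base change. -/
def cI : ℕ := nat_lit 2234726352891537502628481653625739167612665376275289176770455443414150372877100711333025208662753735625888085588904165668

/-- The invariant form. -/
def cJ : ℕ := nat_lit 645563700834567568932846667444585810573406530531104277292081536568183580280167604868383696022083139226962010668765544450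

/-- Words and the dual basis. -/
def dF : List (List ℕ × ℕ) :=
    [([], 710845), ([1], 838895), ([3], 350037), ([5], 980916), ([7], 273163), ([1, 3], 787204),
    ([1, 5], 402288), ([1, 7], 1048410), ([3, 5], 262666), ([3, 7], 87200), ([5, 1], 349632), ([5,
    7], 349526), ([7, 5], 16380), ([1, 3, 2], 349611), ([1, 3, 5], 787215), ([1, 3, 7], 240), ([1,
    5, 0], 716608), ([1, 5, 7], 349610), ([1, 7, 5], 1048320), ([1, 5, 7, 6], 349525)]

/-- The unipotent radical. -/
def dQ : List (List ℕ × ℕ) :=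
    [([4], 634134936313486520338360567811), ([0], 634134936313486520338360567813), ([2],
    634134936313486520338360567817), ([6], 634134936313486520338360567825), ([5, 3, 4, 7, 5, 1, 5,
    5, 7, 4, 3, 5, 5], 634134936313486520338360567841), ([5, 7, 5, 3, 2, 1, 2, 3, 5, 5, 7, 5, 5],
    634134936313486520338360567873), ([5, 6, 7, 4, 3, 2, 1, 2, 3, 4, 7, 6, 5, 5],
    634134936313486520338360567937), ([7, 5, 6, 5, 3, 2, 1, 2, 3, 5, 5, 6, 5, 5, 7],
    634134936313486520338360568065), ([5, 1, 5, 6, 5, 2, 1, 2, 5, 5, 6, 5, 5, 1, 5, 5],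
    634134936313486520338360568321)]

/-- The Levi complement. -/
def dL : List (List ℕ × ℕ) :=
    [([1, 0, 2, 1, 3, 2, 4, 3],
    1291126103019523962457981496919136102484254318693258538609159783751582108334464907208634219135114653993129615730923274241),
    ([6, 5, 3, 2, 1, 5, 7, 5, 5, 1, 2, 3, 5, 5, 6, 5, 7, 5, 6, 7, 4, 7, 6, 5, 5, 7, 5, 5, 1, 0, 2,
    1],
    161390881920341703000594818763806701043665779384504303035268514415707962458636449038518397299319037697020587961953026049)]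

/-- The representatives. -/
def dR : List (ℕ × List ℕ × ℕ × List ℕ × List ℕ) :=
    [(1024, [0, 2, 1, 4, 3, 2], 264323, [0, 1, 3, 4], [5, 2, 1, 0, 3, 2, 1, 5, 1, 2, 3, 0, 1, 2]),
    (1025, [1, 3, 2], 264320, [0, 1, 3, 4], [5, 2, 1, 0, 3, 2, 1, 5, 1, 2, 3, 0, 1, 2]), (1390,
    [1, 4, 7], 85, [5], [2, 3]), (1029, [0, 3, 5, 1, 2], 264320, [0, 1, 3, 4], [5, 2, 1, 0, 3, 2,
    1, 5, 1, 2, 3, 0, 1, 2]), (1030, [0, 1, 3, 2, 5, 6], 264321, [0, 1, 3, 4], [5, 2, 1, 0, 3, 2,
    1, 5, 1, 2, 3, 0, 1, 2]), (1093, [0, 3, 2, 5, 1, 2], 264320, [0, 1, 3, 4], [5, 2, 1, 0, 3, 2,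
    1, 5, 1, 2, 3, 0, 1, 2]), (1574, [1, 0, 4, 5], 264321, [0, 1, 3, 4], [5, 2, 1, 0, 3, 2, 1, 5,
    1, 2, 3, 0, 1, 2]), (1293, [3, 6, 7, 4, 5, 7], 21, [5], [2, 3])]

/-- A word in the adapted basis. -/
noncomputable def cw (l : List ℕ) (m : ℕ) : ℕ := app 20 20 cI (apw l (app 20 20 cC m))

theorem isLin_cw (l : List ℕ) : IsLin (cw l) :=
  (isLin_app 20 20 _).comp ((isLin_apw l).comp (isLin_app 20 20 _))

theorem cC_cI : ∀ n < 2 ^ 20, app 20 20 cC (app 20 20 cI n) = n :=
  lin_agr ((isLin_app _ _ _).comp (isLin_app _ _ _)) isLin_id (by decide +kernel)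

theorem ev_cw (h : Mod ρ b) (l : List ℕ) (m : ℕ) :
    ev b 20 (app 20 20 cC (cw l m)) = ρ (evw l) (ev b 20 (app 20 20 cC m)) := by
  rw [rho_apw h, cw, cC_cI _ (apw_lt _ (app_lt _ _ _ _))]

theorem step3 (h : Mod ρ b) {m : ℕ} (hm : Nat.shiftRight m 10 = 1) :
    Gd ρ (ev b 20 (app 20 20 cC m)) := by
  have c1 : allB (fun p => agr 20 (app 20 20 p.2) (cw p.1)) dL = true := by decide +kernel
  have c2 : allB (fun p => Nat.beq (app 20 20 cC p.1) (apw p.2.1 p.2.2.1) &&
      Nat.beq (apw p.2.2.2.1 p.2.2.1) p.2.2.1 && Nat.beq (apw p.2.2.2.2 p.2.2.1) p.2.2.1 &&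
      Nat.blt p.1 2048 && e9B p.2.2.2.1 p.2.2.2.2) dR = true := by decide +kernel
  have c3 : frc (orb 20 (dL.map Prod.snd) (dR.map Prod.fst) 1024) (fun vis =>
      allN (fun n => tb vis (Nat.add 1024 n)) 1024) = true := by decide +kernel
  rw [frc_eq, allN_iff] at c3
  have e : m = 1024 + (m - 1024) ∧ m - 1024 < 1024 := by
    change m >>> 10 = 1 at hm
    rw [Nat.shiftRight_eq_div_pow] at hm
    omega
  rw [e.1]
  refine (orb_spec (P := fun m => m < 2 ^ 20 ∧ Gd ρ (ev b 20 (app 20 20 cC m))) ?_ ?_ _ _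
    (c3 _ e.2)).2
  · rintro _ hM x ⟨h1, h2⟩
    obtain ⟨p, hp, rfl⟩ := List.mem_map.mp hM
    refine ⟨app_lt _ _ _ _, ?_⟩
    rw [lin_agr (isLin_app _ _ _) (isLin_cw _) ((allB_iff _ _).mp c1 p hp) x h1, ev_cw h]
    exact h2.act _
  · rintro _ hx
    obtain ⟨p, hp, rfl⟩ := List.mem_map.mp hx
    have := (allB_iff _ _).mp c2 p hp
    simp only [Bool.and_eq_true, Nat.beq_eq, Nat.blt_eq] at this
    obtain ⟨⟨⟨⟨e1, e2⟩, e3⟩, e4⟩, e5⟩ := this
    refine ⟨by omega, ?_⟩
    rw [e1, ← rho_apw h]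
    exact Gd.act ⟨_, _, e9_of e5, by rw [rho_apw h, e2], by rw [rho_apw h, e3]⟩ _

theorem step2 (h : Mod ρ b) {m : ℕ} (hm : m < 2 ^ 20) (h1 : (Nat.shiftRight m 10).testBit 0) :
    Gd ρ (ev b 20 (app 20 20 cC m)) := by
  have c1 : allB (fun p => agr 20 (fun m => Nat.shiftRight (cw p.1 m) 10)
      (fun m => app 10 10 p.2 (Nat.shiftRight m 10)) &&
      agr 10 (fun k => app 10 10 p.2 (app 10 10 p.2 k)) (fun k => k)) dQ = true := by decide +kernel
  have c3 : frc (orb 10 (dQ.map Prod.snd) [1] 1024) (fun vis =>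
      allN (fun n => Bool.rec true (tb vis n) (tb n 0)) 1024) = true := by decide +kernel
  rw [frc_eq, allN_iff] at c3
  have e : Nat.shiftRight m 10 < 1024 := by
    change m >>> 10 < _
    rw [Nat.shiftRight_eq_div_pow]
    omega
  have c4 := c3 _ e
  rw [tb_eq _ 0, h1] at c4
  refine (orb_spec (P := fun k => k < 2 ^ 10 ∧ ∀ m < 2 ^ 20, Nat.shiftRight m 10 = k →
    Gd ρ (ev b 20 (app 20 20 cC m))) ?_ ?_ _ _ c4).2 m hm rfl
  · rintro _ hM k ⟨h1, h2⟩
    obtain ⟨p, hp, rfl⟩ := List.mem_map.mp hM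
    have := (allB_iff _ _).mp c1 p hp
    rw [Bool.and_eq_true] at this
    refine ⟨app_lt _ _ _ _, fun m hm e => Gd.of_act (g := evw p.1) ?_⟩
    rw [← ev_cw h]
    refine h2 _ (app_lt _ _ _ _) ?_
    rw [lin_agr ((isLin_shift 10).comp (isLin_cw _)) ((isLin_app _ _ _).comp (isLin_shift 10))
      this.1 m hm, e]
    exact lin_agr ((isLin_app _ _ _).comp (isLin_app _ _ _)) isLin_id this.2 k h1
  · intro x hx
    rw [List.mem_singleton.mp hx]
    exact ⟨by norm_num, fun m _ e => step3 h e⟩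

/-- Expansion in the dual basis. -/
noncomputable def dual (L : List (List ℕ × ℕ)) (n : ℕ) : ℕ :=
  List.rec 0 (fun p _ ih => Nat.xor (app 20 1 p.2 (Nat.shiftRight (app 20 20 cI (apw p.1 n)) 10))
    ih) L

theorem isLin_dual (L : List (List ℕ × ℕ)) : IsLin (dual L) := by
  induction L with
  | nil => exact fun _ _ => (Nat.xor_self 0).symm
  | cons p L ih =>
    exact ((isLin_app _ _ _).comp ((isLin_shift 10).comp ((isLin_app _ _ _).comp
      (isLin_apw _)))).xor ih

theorem exists_top {L : List (List ℕ × ℕ)} {n : ℕ} (h : dual L n ≠ 0) :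
    ∃ l, (Nat.shiftRight (app 20 20 cI (apw l n)) 10).testBit 0 := by
  induction L with
  | nil => exact absurd rfl h
  | cons p L ih =>
    by_contra hn
    refine h ?_
    change app 20 (0 + 1) _ _ ^^^ dual L n = 0
    rw [app_succ, app_zero, if_neg fun e => hn ⟨_, e⟩, not_not.mp fun e => hn (ih e)]
    rfl

theorem fix9 (h : Mod ρ b) (v : V) : ∃ x y, E9 x y ∧ ρ x v = v ∧ ρ y v = v := by
  obtain ⟨n, hn, rfl⟩ := h.bas.surj v
  rcases eq_or_ne n 0 with rfl | h0
  · exact ⟨_, _, e9_of (lx := [5]) (ly := [2, 3]) (by decide +kernel), by simp [ev_zero],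
      by simp [ev_zero]⟩
  obtain ⟨l, hl⟩ := exists_top (L := dF) (n := n) (by
    rwa [lin_agr (isLin_dual dF) isLin_id (w := 20) (by decide +kernel) n hn])
  have := step2 h (app_lt _ _ _ _) hl
  rw [cC_cI _ (apw_lt l hn), ← rho_apw h] at this
  exact this.of_act

/-- The invariant form on codes. -/
noncomputable def bc (n m : ℕ) : ℕ := app 1 20 (app 20 20 cJ n) m

theorem bc_gen (i : ℕ) : ∀ n < 2 ^ 20, ∀ m < 2 ^ 20,
    bc (app 20 20 (g20 i) n) (app 20 20 (g20 i) m) = bc n m := by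
  have c : allN (fun i => frc (g20 i) fun M => allN (fun j => frc (app 20 20 cJ (app 20 20 M (p2 j)))
      fun a => allN (fun k => Nat.beq (app 1 20 a (col 20 M k))
        (Bool.rec 0 1 (Nat.beq (Nat.xor j 1) k))) 20) 20) 8 = true := by decide +kernel
  have c' : allN (fun j => allN (fun k => Nat.beq (bc (p2 j) (p2 k))
      (Bool.rec 0 1 (Nat.beq (Nat.xor j 1) k))) 20) 20 = true := by decide +kernel
  have c'' : allN (fun i => allN (fun k => Nat.beq (app 20 20 (g20 i) (p2 k)) (col 20 (g20 i) k)) 20)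
      8 = true := by decide +kernel
  simp only [frc_eq, allN_iff, Nat.beq_eq, p2_eq] at c c' c''
  have e : g20 i = g20 (i % 8) := by
    change col _ _ (i % 8) = col _ _ (i % 8 % 8)
    rw [Nat.mod_mod]
  have hi : i % 8 < 8 := Nat.mod_lt _ (by norm_num)
  rw [e]
  intro n hn m hm
  refine lin_ext (f := fun n => bc (app 20 20 (g20 (i % 8)) n) (app 20 20 (g20 (i % 8)) m))
    (g := fun n => bc n m) ((isLin_appM _ _ _).comp ((isLin_app _ _ _).comp (isLin_app _ _ _)))
    ((isLin_appM _ _ _).comp (isLin_app _ _ _)) 20 (fun j hj => ?_) n hn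
  refine lin_ext (f := fun m => bc (app 20 20 (g20 (i % 8)) (2 ^ j)) (app 20 20 (g20 (i % 8)) m))
    (g := fun m => bc (2 ^ j) m) ((isLin_app _ _ _).comp (isLin_app _ _ _)) (isLin_app _ _ _) 20
    (fun k hk => ?_) m hm
  simp only [c' j hj k hk, c'' _ hi k hk]
  exact c _ hi j hj k hk

theorem hyp9 [Finite V] (h : Mod ρ b) (D : AddSubgroup V) (hD : Nat.card D = 2 ^ 19) :
    ∃ x y, E9 x y ∧ (∀ d ∈ D, ρ x d ∈ D) ∧ (∀ d ∈ D, ρ y d ∈ D) := by
  classical
  choose cd hc hc' using h.bas.surj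
  have ce : ∀ n < 2 ^ 20, cd (ev b 20 n) = n := fun n hn => h.bas.eq (hc _) hn (hc' _)
  let L : Subgroup G :=
    { carrier := {g | ∀ u v, bc (cd (ρ g u)) (cd (ρ g v)) = bc (cd u) (cd v)}
      one_mem' := fun u v => by rw [map_one]; rfl
      mul_mem' := fun {g g'} e e' u v => by rw [map_mul]; exact (e _ _).trans (e' u v)
      inv_mem' := fun {g} e u v => by
        rw [← e]
        change bc (cd ((ρ g * ρ _) u)) (cd ((ρ g * ρ _) v)) = _
        rw [← map_mul, mul_inv_cancel, map_one]; rfl }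
  have hL : L = ⊤ := eq_top_of_gen fun i u v => by
    rw [← hc' u, ← hc' v, (h.rep i).app h.bas.two, (h.rep i).app h.bas.two, ce _ (app_lt _ _ _ _),
      ce _ (app_lt _ _ _ _), ce _ (hc _), ce _ (hc _), bc_gen i _ (hc _) _ (hc _)]
  have hV : Nat.card V = 2 ^ 20 := by
    have := h.bas.card (fun _ => True) (fun _ => true) (by simp)
    rw [cntN_eq, Finset.filter_true_of_mem fun _ _ => rfl, Finset.card_range] at this
    exact (Nat.card_congr (Equiv.subtypeUnivEquiv fun _ => trivial)).symm.trans this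
  have hi : D.index = 2 := by
    have := D.card_mul_index
    rw [hD, hV] at this
    omega
  let f : ℕ → ℕ := fun m => if ev b 20 m ∈ D then 0 else 1
  have hf : IsLin f := fun n m => by
    simp only [f, ev_xor h.bas.two, D.add_mem_iff_of_index_two hi]
    by_cases h1 : ev b 20 n ∈ D <;> by_cases h2 : ev b 20 m ∈ D <;> simp [h1, h2]
  have f2 : ∀ m, f m < 2 ^ 1 := fun m => by simp only [f]; split_ifs <;> norm_num
  have n0 : pack 1 20 (fun j => f (2 ^ j)) < 2 ^ 20 := pack_lt 1 20 _ fun _ => f2 _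
  have e1 : ∀ m < 2 ^ 20, app 1 20 (pack 1 20 fun j => f (2 ^ j)) m = f m :=
    lin_ext (isLin_app _ _ _) hf 20 fun j hj => by
      have k : ∀ w M, app 1 w M (2 ^ j) = if j < w then col 1 M j else 0 := fun w M => by
        induction w with
        | zero => simp [app_zero]
        | succ w ih =>
          rw [app_succ, ih, Nat.testBit_two_pow]
          rcases lt_trichotomy j w with e | rfl | e
          · simp [e, e.ne, Nat.lt_succ_of_lt e]
          · simp
          · simp [e.ne', e.not_gt, Nat.lt_succ_iff, e.not_ge]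
      rw [k, if_pos hj, col_pack _ _ _ (fun _ => f2 _) _ hj]
  generalize pack 1 20 (fun j => f (2 ^ j)) = a at n0 e1
  have e2 : ∀ d, d ∈ D ↔ bc (cd (ev b 20 (app 20 20 cJ a))) (cd d) = 0 := fun d => by
    rw [ce _ (app_lt _ _ _ _), bc, lin_agr ((isLin_app 20 20 cJ).comp (isLin_app 20 20 cJ)) isLin_id
      (w := 20) (by decide +kernel) a n0, e1 _ (hc d)]
    simp [f, hc']
  obtain ⟨x, y, e, hx, hy⟩ := fix9 h (ev b 20 (app 20 20 cJ a))
  exact ⟨x, y, e, fun d hd => by rwa [e2, ← hx, hL.ge (Subgroup.mem_top x), ← e2],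
    fun d hd => by rwa [e2, ← hy, hL.ge (Subgroup.mem_top y), ← e2]⟩

end Cfsg.Agent.H7.U6
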